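import Mathlib
import Cfsg.Agent.Lib.Lie.FrobSpan

/-!
# Semilinear biadditive maps on a field with `2 ^ n` elements
-/

set_option autoImplicit false
set_option linter.all false

namespace CfsgLib.PGroups.Suzuki

open CfsgLib.Lie.FrobSpan

variable {n : ℕ}

theorem pow_ne_pow_add_pow {e a b : ℕ} (h : a < b) : 2 ^ e ≠ 2 ^ a + 2 ^ b := by
  intro he
  obtain ⟨d, rfl⟩ : ∃ d, b = a + (d + 1) := ⟨b - a - 1, by omega⟩
  rcases lt_or_ge a e with h1 | h1
  · obtain ⟨c, rfl⟩ : ∃ c, e = a + (c + 1) := ⟨e - a - 1, by omega⟩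
    rw [pow_add, pow_add] at he
    have := Nat.eq_of_mul_eq_mul_left (pow_pos two_pos a) (he.trans ((congrArg (2 ^ a + ·) (pow_add 2 a (d + 1))).trans (mul_one_add (2 ^ a) (2 ^ (d + 1))).symm))
    rw [pow_succ, pow_succ] at this
    omega
  · have : 2 ^ e ≤ 2 ^ a := Nat.pow_le_pow_right two_pos h1
    have h2 : 0 < 2 ^ (a + (d + 1)) := pow_pos two_pos _
    omega

theorem pow_add_pow_inj {a b c d : ℕ} (hab : a < b) (hcd : c < d) (h : 2 ^ a + 2 ^ b = 2 ^ c + 2 ^ d) :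
    a = c ∧ b = d := by
  have key : ∀ {a b c d : ℕ}, a < b → c < d → 2 ^ a + 2 ^ b = 2 ^ c + 2 ^ d → d ≤ b := by
    intro a b c d hab hcd h
    by_contra hlt
    have h1 : 2 ^ (b + 1) ≤ 2 ^ d := Nat.pow_le_pow_right two_pos (by omega)
    have h2 : 2 ^ a < 2 ^ b := Nat.pow_lt_pow_right one_lt_two hab
    have h3 := pow_pos two_pos (M₀ := ℕ) c
    rw [pow_succ] at h1
    omega
  have hbd : b = d := le_antisymm (key hcd hab h.symm) (key hab hcd h)
  subst hbd
  exact ⟨Nat.pow_right_injective le_rfl (by simpa using h), rfl⟩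

/-- Sums of two powers of two modulo `2 ^ n - 1`. -/
theorem two_pows (hn : 2 ≤ n) {a b c d : ℕ} (ha : a < n) (hb : b < n) (hc : c < n) (hd : d < n)
    (h : 2 ^ a + 2 ^ b ≡ 2 ^ c + 2 ^ d [MOD 2 ^ n - 1]) : (a = c ∧ b = d) ∨ (a = d ∧ b = c) := by
  obtain ⟨k, hk⟩ : ∃ k, n = k + 2 := ⟨n - 2, by omega⟩
  have hN : 2 ^ n = 4 * 2 ^ k := by rw [hk, pow_add]; ring
  have hk1 : 1 ≤ 2 ^ k := Nat.one_le_two_pow
  set f : ℕ → ℕ → ℕ := fun a b => if a = b then 2 ^ ((a + 1) % n) else 2 ^ a + 2 ^ b with hf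
  have hmod : ∀ a b, a < n → b < n → f a b ≡ 2 ^ a + 2 ^ b [MOD 2 ^ n - 1] := by
    intro a b ha hb
    simp only [hf]
    split_ifs with hab
    · subst hab
      rw [show 2 ^ a + 2 ^ a = 2 ^ (a + 1) by rw [pow_succ]; ring]
      rcases Nat.lt_or_ge (a + 1) n with h1 | h1
      · rw [Nat.mod_eq_of_lt h1]
      · rw [show a + 1 = n by omega, Nat.mod_self, pow_zero]
        exact (Nat.modEq_iff_dvd' (Nat.one_le_two_pow)).mpr dvd_rfl
    · rfl
  have hrange : ∀ a b, a < n → b < n → 1 ≤ f a b ∧ f a b ≤ 2 ^ n - 1 := by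
    intro a b ha hb
    simp only [hf]
    split_ifs with hab
    · refine ⟨Nat.one_le_two_pow, ?_⟩
      have : 2 ^ ((a + 1) % n) ≤ 2 ^ (k + 1) :=
        Nat.pow_le_pow_right two_pos (by have := Nat.mod_lt (a + 1) (by omega : 0 < n); omega)
      rw [pow_succ] at this
      omega
    · refine ⟨le_trans Nat.one_le_two_pow (Nat.le_add_right _ _), ?_⟩
      have h1 : ∀ x, x ≤ k → 2 ^ x ≤ 2 ^ k := fun x hx => Nat.pow_le_pow_right two_pos hx
      have h2 : ∀ x, x < n → 2 ^ x ≤ 2 * 2 ^ k := fun x hx => by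
        rw [← pow_succ']; exact Nat.pow_le_pow_right two_pos (by omega)
      rcases lt_or_gt_of_ne hab with hlt | hlt
      · have := h1 a (by omega); have := h2 b hb; omega
      · have := h1 b (by omega); have := h2 a ha; omega
  have heq : f a b = f c d := by
    have h1 : f a b ≡ f c d [MOD 2 ^ n - 1] := ((hmod a b ha hb).trans h).trans (hmod c d hc hd).symm
    obtain ⟨l1, u1⟩ := hrange a b ha hb
    obtain ⟨l2, u2⟩ := hrange c d hc hd
    rcases le_total (f a b) (f c d) with hle | hle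
    · have := Nat.eq_zero_of_dvd_of_lt ((Nat.modEq_iff_dvd' hle).mp h1) (by omega)
      omega
    · have := Nat.eq_zero_of_dvd_of_lt ((Nat.modEq_iff_dvd' hle).mp h1.symm) (by omega)
      omega
  simp only [hf] at heq
  split_ifs at heq with h1 h2 h2
  · subst h1; subst h2
    have hac := Nat.pow_right_injective le_rfl heq
    left
    rcases Nat.lt_or_ge (a + 1) n with h3 | h3 <;> rcases Nat.lt_or_ge (c + 1) n with h4 | h4
    · rw [Nat.mod_eq_of_lt h3, Nat.mod_eq_of_lt h4] at hac; omega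
    · rw [Nat.mod_eq_of_lt h3, show c + 1 = n by omega, Nat.mod_self] at hac; omega
    · rw [Nat.mod_eq_of_lt h4, show a + 1 = n by omega, Nat.mod_self] at hac; omega
    · omega
  · rcases lt_or_gt_of_ne h2 with hlt | hlt
    · exact absurd heq (pow_ne_pow_add_pow hlt)
    · exact absurd (heq.trans (add_comm _ _)) (pow_ne_pow_add_pow hlt)
  · rcases lt_or_gt_of_ne h1 with hlt | hlt
    · exact absurd heq.symm (pow_ne_pow_add_pow hlt)
    · exact absurd (heq.symm.trans (add_comm _ _)) (pow_ne_pow_add_pow hlt)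
  · rcases lt_or_gt_of_ne h1 with hab | hab <;> rcases lt_or_gt_of_ne h2 with hcd | hcd
    · exact Or.inl (pow_add_pow_inj hab hcd heq)
    · exact Or.inr (pow_add_pow_inj hab hcd (heq.trans (add_comm _ _)))
    · obtain ⟨h3, h4⟩ := pow_add_pow_inj hab hcd ((add_comm _ _).trans heq); exact Or.inr ⟨h4, h3⟩
    · obtain ⟨h3, h4⟩ := pow_add_pow_inj hab hcd (((add_comm _ _).trans heq).trans (add_comm _ _))
      exact Or.inl ⟨h4, h3⟩

variable {F : Type*} [Field F] [Fintype F] [CharP F 2]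

theorem pow_two_pow_mod (hcard : Fintype.card F = 2 ^ n) (x : F) (i : ℕ) :
    x ^ 2 ^ i = x ^ 2 ^ (i % n) := by
  conv_lhs => rw [← Nat.mod_add_div i n]
  generalize i / n = k
  induction k with
  | zero => simp
  | succ k ih =>
    rw [Nat.mul_succ, ← Nat.add_assoc, pow_add, pow_mul, ← hcard, FiniteField.pow_card, ih]

/-- The monomials of an equivariant biadditive map. -/
theorem monomials (hcard : Fintype.card F = 2 ^ n) (hn : n ≠ 0) (B : F → F → F)
    (hl : ∀ u u' v, B (u + u') v = B u v + B u' v) (hr : ∀ u v v', B u (v + v') = B u v + B u v')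
    {μ ν ρ : F} (heq : ∀ u v, B (μ * u) (ν * v) = ρ * B u v) :
    ∃ s : Finset (Fin n × Fin n), ∃ c : Fin n × Fin n → F,
      (∀ u v, B u v = ∑ p ∈ s, c p * (u ^ 2 ^ (p.1 : ℕ) * v ^ 2 ^ (p.2 : ℕ))) ∧
      ∀ p ∈ s, c p ≠ 0 ∧ μ ^ 2 ^ (p.1 : ℕ) * ν ^ 2 ^ (p.2 : ℕ) = ρ := by
  classical
  obtain ⟨k, hli, hsp⟩ := exists_frob_family (F := F)
  let B' : F →+ F →+ F := AddMonoidHom.mk' (fun u => AddMonoidHom.mk' (B u) (hr u))
    fun u u' => by ext v; exact hl u u' v
  obtain ⟨e, he⟩ := exists_bilin hli hsp B'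
  have he' : ∀ u v, B u v = ∑ j, ∑ i, e i j * (frob (i : ℕ) u * frob (j : ℕ) v) := he
  have hzero : ∀ i j, e i j * (μ ^ 2 ^ (i : ℕ) * ν ^ 2 ^ (j : ℕ) - ρ) = 0 := by
    intro i j
    have h1 : ∀ u v : F, ∑ j, (∑ i, e i j * (μ ^ 2 ^ (i : ℕ) * ν ^ 2 ^ (j : ℕ)) * frob (i : ℕ) u) * frob (j : ℕ) v
        = ∑ j, (∑ i, ρ * e i j * frob (i : ℕ) u) * frob (j : ℕ) v := by
      intro u v
      have hL := he' (μ * u) (ν * v)
      rw [heq, he', Finset.mul_sum] at hL
      simp only [Finset.sum_mul]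
      calc ∑ j, ∑ i, e i j * (μ ^ 2 ^ (i : ℕ) * ν ^ 2 ^ (j : ℕ)) * frob (i : ℕ) u * frob (j : ℕ) v
          = ∑ j, ∑ i, e i j * (frob (i : ℕ) (μ * u) * frob (j : ℕ) (ν * v)) :=
            Finset.sum_congr rfl fun j _ => Finset.sum_congr rfl fun i _ => by
              simp only [map_mul, frob_apply]; ring
        _ = ∑ j, ∑ i, ρ * e i j * frob (i : ℕ) u * frob (j : ℕ) v := by
              rw [← hL]; exact Finset.sum_congr rfl fun j _ => by
                rw [Finset.mul_sum]; exact Finset.sum_congr rfl fun i _ => by ring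
    have h2 : (fun i => e i j * (μ ^ 2 ^ (i : ℕ) * ν ^ 2 ^ (j : ℕ))) = fun i => ρ * e i j :=
      frob_coef_unique hli fun u => congrFun (frob_coef_unique hli (h1 u)) j
    rw [mul_sub, congrFun h2 i, mul_comm, sub_self]
  let red : Fin k × Fin k → Fin n × Fin n := fun p =>
    (⟨p.1 % n, Nat.mod_lt _ (Nat.pos_of_ne_zero hn)⟩, ⟨p.2 % n, Nat.mod_lt _ (Nat.pos_of_ne_zero hn)⟩)
  let t : Finset (Fin k × Fin k) := Finset.univ.filter fun p => e p.1 p.2 ≠ 0
  have hred : Set.InjOn red t := by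
    intro p _ q _ hpq
    have hinj : ∀ i j : Fin k, (i : ℕ) % n = (j : ℕ) % n → i = j := fun i j h => by
      refine hli.injective ?_
      funext x
      show frob (i : ℕ) x = frob (j : ℕ) x
      rw [frob_apply, frob_apply, pow_two_pow_mod hcard, h, ← pow_two_pow_mod hcard]
    exact Prod.ext (hinj _ _ (congrArg (fun z : Fin n × Fin n => (z.1 : ℕ)) hpq))
      (hinj _ _ (congrArg (fun z : Fin n × Fin n => (z.2 : ℕ)) hpq))
  refine ⟨t.image red, fun z => ∑ p ∈ t.filter (fun p => red p = z), e p.1 p.2, fun u v => ?_, ?_⟩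
  · rw [Finset.sum_image hred, he', Finset.sum_comm, ← Fintype.sum_prod_type',
      ← Finset.sum_filter_of_ne (s := Finset.univ) (p := fun p : Fin k × Fin k => e p.1 p.2 ≠ 0)
        (fun p _ h => left_ne_zero_of_mul h)]
    refine Finset.sum_congr rfl fun p hp => ?_
    have hfil : (t.filter fun q => red q = red p) = {p} := by
      ext q
      simp only [Finset.mem_filter, Finset.mem_singleton]
      exact ⟨fun h => hred h.1 hp h.2, fun h => ⟨h ▸ hp, h ▸ rfl⟩⟩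
    dsimp only
    rw [hfil, Finset.sum_singleton, frob_apply, frob_apply, pow_two_pow_mod hcard u,
      pow_two_pow_mod hcard v]
  · intro z hz
    obtain ⟨p, hp, rfl⟩ := Finset.mem_image.mp hz
    have hfil : (t.filter fun q => red q = red p) = {p} := by
      ext q
      simp only [Finset.mem_filter, Finset.mem_singleton]
      exact ⟨fun h => hred h.1 hp h.2, fun h => ⟨h ▸ hp, h ▸ rfl⟩⟩
    have hp' : e p.1 p.2 ≠ 0 := (Finset.mem_filter.mp hp).2
    refine ⟨by dsimp only; rw [hfil, Finset.sum_singleton]; exact hp', ?_⟩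
    show μ ^ 2 ^ ((p.1 : ℕ) % n) * ν ^ 2 ^ ((p.2 : ℕ) % n) = ρ
    rw [← pow_two_pow_mod hcard, ← pow_two_pow_mod hcard]
    exact sub_eq_zero.mp ((mul_eq_zero.mp (hzero p.1 p.2)).resolve_left hp')

theorem orderOf_pow_two_pow (hn : n ≠ 0) {μ : F} (hμ : orderOf μ = 2 ^ n - 1) (i : ℕ) :
    orderOf (μ ^ 2 ^ i) = 2 ^ n - 1 := by
  rw [Nat.Coprime.orderOf_pow, hμ]
  rw [hμ]
  refine Nat.Coprime.pow_right i (Nat.coprime_two_right.mpr ?_)
  have : Even (2 ^ n) := (Nat.even_pow).mpr ⟨even_two, hn⟩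
  exact Nat.Even.sub_odd Nat.one_le_two_pow this odd_one

theorem pow_eq_modEq {ν : F} (hν : ν ≠ 0) {a b : ℕ} (h : ν ^ a = ν ^ b) : a ≡ b [MOD orderOf ν] := by
  have hord : orderOf (Units.mk0 ν hν) = orderOf ν := by rw [← orderOf_units]; rfl
  rw [← hord, ← pow_eq_pow_iff_modEq]
  exact Units.ext (by simpa using h)

/-- A biadditive map equivariant with target weight equal to the second weight. -/
theorem bilinear_weight (hn : 2 ≤ n) (hcard : Fintype.card F = 2 ^ n) (B : F → F → F)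
    (hl : ∀ u u' v, B (u + u') v = B u v + B u' v) (hr : ∀ u v v', B u (v + v') = B u v + B u v')
    {μ ν : F} (hμ : orderOf μ = 2 ^ n - 1) (hν : orderOf ν = 2 ^ n - 1)
    (heq : ∀ u v, B (μ * u) (ν * v) = ν * B u v) :
    (∀ u v, B u v = 0) ∨
      ((∀ u v, u ≠ 0 → v ≠ 0 → B u v ≠ 0) ∧
        ∀ u t t', u ≠ 0 → t ≠ 0 → t' ≠ 0 → B u t = t → B u t' = t' → t = t') := by
  classical
  obtain ⟨s, c, hB, hs⟩ := monomials hcard (by omega) B hl hr heq
  have hpos : 0 < n := by omega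
  have h2n : 4 ≤ 2 ^ n := le_trans (by norm_num) (Nat.pow_le_pow_right two_pos hn)
  have hν0 : ν ≠ 0 := fun h => by
    have h1 := pow_orderOf_eq_one ν
    rw [hν, h, zero_pow (by omega)] at h1
    exact zero_ne_one h1
  have hμ1 : ∀ i, μ ^ 2 ^ i ≠ 1 := fun i h => by
    have h1 := orderOf_pow_two_pow (by omega) hμ i
    rw [h, orderOf_one] at h1
    omega
  have hj0 : ∀ p ∈ s, (p.2 : ℕ) ≠ 0 := fun p hp hp2 => by
    have h := (hs p hp).2
    rw [hp2, pow_zero, pow_one, mul_eq_right₀ hν0] at h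
    exact hμ1 _ h
  have huniq : ∀ p ∈ s, ∀ q ∈ s, p = q := by
    intro p hp q hqs
    obtain ⟨d, hd⟩ : ∃ d, d = ((q.1 : ℕ) + n - p.1) % n := ⟨_, rfl⟩
    have hdn : d < n := hd ▸ Nat.mod_lt _ hpos
    have hpd : ((p.1 : ℕ) + d) % n = (q.1 : ℕ) := by
      rw [hd, Nat.add_mod_mod, show (p.1 : ℕ) + ((q.1 : ℕ) + n - p.1) = (q.1 : ℕ) + n by
        have := p.1.2; omega, Nat.add_mod_right, Nat.mod_eq_of_lt q.1.2]
    -- raise the relation for `p` to the power `2 ^ d`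
    have h1 := congrArg (· ^ 2 ^ d) (hs p hp).2
    simp only [mul_pow, ← pow_mul, ← pow_add] at h1
    rw [pow_two_pow_mod hcard μ ((p.1 : ℕ) + d), hpd, pow_two_pow_mod hcard ν ((p.2 : ℕ) + d)] at h1
    have h2 : ν ^ (2 ^ d + 2 ^ (q.2 : ℕ)) = ν ^ (2 ^ 0 + 2 ^ (((p.2 : ℕ) + d) % n)) := by
      have h3 : μ ^ 2 ^ (q.1 : ℕ) = ν / ν ^ 2 ^ (q.2 : ℕ) := eq_div_of_mul_eq (pow_ne_zero _ hν0) (hs q hqs).2
      rw [h3] at h1
      rw [pow_add, pow_add, ← h1, pow_zero, pow_one]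
      field_simp
    have h3 := pow_eq_modEq hν0 h2
    rw [hν] at h3
    rcases two_pows hn hdn q.2.2 hpos (Nat.mod_lt _ hpos) h3 with ⟨hd0, hq⟩ | ⟨hdd, hq⟩
    · rw [hd0, Nat.add_zero, Nat.mod_eq_of_lt p.1.2] at hpd
      rw [hd0, Nat.add_zero, Nat.mod_eq_of_lt p.2.2] at hq
      exact Prod.ext (Fin.ext hpd) (Fin.ext hq.symm)
    · exact absurd hq (hj0 q hqs)
  obtain hs0 | ⟨p, hp⟩ := s.eq_empty_or_nonempty
  · left
    intro u v
    rw [hB, hs0, Finset.sum_empty]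
  right
  have hsp : s = {p} := Finset.eq_singleton_iff_unique_mem.mpr ⟨hp, fun q hq => huniq q hq p hp⟩
  have hBp : ∀ u v, B u v = c p * (u ^ 2 ^ (p.1 : ℕ) * v ^ 2 ^ (p.2 : ℕ)) := fun u v => by
    rw [hB, hsp, Finset.sum_singleton]
  refine ⟨fun u v hu hv => ?_, fun u t t' hu ht ht' h h' => ?_⟩
  · rw [hBp]
    exact mul_ne_zero (hs p hp).1 (mul_ne_zero (pow_ne_zero _ hu) (pow_ne_zero _ hv))
  · set K := c p * u ^ 2 ^ (p.1 : ℕ) with hK
    have hK0 : K ≠ 0 := mul_ne_zero (hs p hp).1 (pow_ne_zero _ hu)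
    obtain ⟨M, hM⟩ : ∃ M, 2 ^ (p.2 : ℕ) = M + 1 := ⟨2 ^ (p.2 : ℕ) - 1, by
      have := Nat.one_le_two_pow (n := (p.2 : ℕ)); omega⟩
    have hsol : ∀ x, x ≠ 0 → B u x = x → K * x ^ M = 1 := fun x hx hxe => by
      rw [hBp, hM, pow_succ] at hxe
      refine mul_right_cancel₀ hx ?_
      rw [one_mul]
      calc K * x ^ M * x = c p * (u ^ 2 ^ (p.1 : ℕ) * (x ^ M * x)) := by rw [hK]; ring
        _ = x := hxe
    set z := t / t' with hz
    have hz1 : z ^ M = 1 := by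
      rw [hz, div_pow, div_eq_one_iff_eq (pow_ne_zero _ ht')]
      exact mul_left_cancel₀ hK0 ((hsol t ht h).trans (hsol t' ht' h').symm)
    have hz0 : z ≠ 0 := div_ne_zero ht ht'
    have hzN : z ^ (2 ^ n - 1) = 1 := by rw [← hcard]; exact FiniteField.pow_card_sub_one_eq_one z hz0
    have hνM : ν ^ M * μ ^ 2 ^ (p.1 : ℕ) = 1 := by
      have h1 := (hs p hp).2
      rw [hM, pow_succ] at h1
      refine mul_right_cancel₀ hν0 ?_
      rw [one_mul]
      calc ν ^ M * μ ^ 2 ^ (p.1 : ℕ) * ν = μ ^ 2 ^ (p.1 : ℕ) * (ν ^ M * ν) := by ring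
        _ = ν := h1
    have hd : orderOf z = 1 := by
      have h1 := orderOf_dvd_of_pow_eq_one hz1
      have h2 := orderOf_dvd_of_pow_eq_one hzN
      set g := Nat.gcd M (2 ^ n - 1)
      have h3 : orderOf z ∣ g := Nat.dvd_gcd h1 h2
      -- the exponent `M` is prime to the order of the multiplicative group
      obtain ⟨w, hw⟩ := Nat.gcd_dvd_right M (2 ^ n - 1)
      have h4 : (μ ^ 2 ^ (p.1 : ℕ)) ^ w = 1 := by
        obtain ⟨M', hM'⟩ := Nat.gcd_dvd_left M (2 ^ n - 1)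
        have h5 : (ν ^ M) ^ w = 1 := by
          rw [← pow_mul, hM', mul_assoc, mul_comm M', ← mul_assoc, ← hw, pow_mul, ← hν,
            pow_orderOf_eq_one, one_pow]
        have := congrArg (· ^ w) hνM
        simpa [mul_pow, h5] using this
      have h6 := orderOf_dvd_of_pow_eq_one h4
      rw [orderOf_pow_two_pow (by omega) hμ] at h6
      have hg : g = 1 := by
        have hgw : g * w = 2 ^ n - 1 := hw.symm
        have hwle : 2 ^ n - 1 ≤ w := Nat.le_of_dvd (Nat.pos_of_ne_zero fun h => by rw [h] at hw; omega) h6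
        by_contra hne
        have hg2 : 2 ≤ g := by
          rcases Nat.eq_zero_or_pos g with h | h
          · rw [h, zero_mul] at hgw; omega
          · omega
        have := Nat.mul_le_mul_right w hg2
        omega
      exact Nat.dvd_one.mp (hg ▸ h3)
    rw [orderOf_eq_one_iff, hz, div_eq_one_iff_eq ht'] at hd
    exact hd

/-- An alternating equivariant biadditive map with equal weights vanishes. -/
theorem alternating_weight (hn : 2 ≤ n) (hcard : Fintype.card F = 2 ^ n) (C : F → F → F)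
    (hl : ∀ u u' v, C (u + u') v = C u v + C u' v) (hr : ∀ u v v', C u (v + v') = C u v + C u v')
    (halt : ∀ u, C u u = 0) {μ : F} (hμ : orderOf μ = 2 ^ n - 1)
    (heq : ∀ u v, C (μ * u) (μ * v) = μ * C u v) : ∀ u v, C u v = 0 := by
  classical
  obtain ⟨s, c, hC, hs⟩ := monomials hcard (by omega) C hl hr heq
  have hpos : 0 < n := by omega
  have h2n : 4 ≤ 2 ^ n := le_trans (by norm_num) (Nat.pow_le_pow_right two_pos hn)
  have hμ0 : μ ≠ 0 := fun h => by
    have h1 := pow_orderOf_eq_one μ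
    rw [hμ, h, zero_pow (by omega)] at h1
    exact zero_ne_one h1
  have hpair : ∀ p ∈ s, (p.1 : ℕ) = n - 1 ∧ (p.2 : ℕ) = n - 1 := by
    intro p hp
    have h2 : μ ^ (2 ^ (p.1 : ℕ) + 2 ^ (p.2 : ℕ)) = μ ^ (2 ^ (n - 1) + 2 ^ (n - 1)) := by
      rw [← two_mul (2 ^ (n - 1)), ← pow_succ', show n - 1 + 1 = n by omega, pow_add, (hs p hp).2,
        ← hcard, FiniteField.pow_card]
    have h3 := pow_eq_modEq hμ0 h2
    rw [hμ] at h3
    rcases two_pows hn p.1.2 p.2.2 (by omega) (by omega) h3 with ⟨h4, h5⟩ | ⟨h4, h5⟩ <;> exact ⟨h4, h5⟩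
  obtain hs0 | ⟨p, hp⟩ := s.eq_empty_or_nonempty
  · intro u v
    rw [hC, hs0, Finset.sum_empty]
  have hsp : s = {p} := Finset.eq_singleton_iff_unique_mem.mpr ⟨hp, fun q hq =>
    Prod.ext (Fin.ext ((hpair q hq).1.trans (hpair p hp).1.symm))
      (Fin.ext ((hpair q hq).2.trans (hpair p hp).2.symm))⟩
  have := halt 1
  rw [hC, hsp, Finset.sum_singleton, one_pow, one_pow, mul_one, mul_one] at this
  exact absurd this (hs p hp).1

end CfsgLib.PGroups.Suzuki
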