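import Mathlib
import Cfsg.Prelude.Def_LieRecognition
import Cfsg.Agent.Lib.PGroups.Suzuki.Higman

/-!
# Basic structure of Suzuki 2-groups
-/

set_option autoImplicit false
set_option linter.all false

open scoped commutatorElement

namespace CfsgLib.PGroups.Suzuki

open Subgroup

universe u

theorem exists_data {P : Type u} [Group P] (hP : Cfsg.IsSuzukiTwoGroup P) :
    ∃ (n : ℕ) (_ : Data P n), ¬ IsMulCommutative P := by
  classical
  obtain ⟨hfin, h2, ⟨a, b, hab⟩, ⟨s, t, hst, hs1, hs, ht1, ht⟩, K, hK, hreg⟩ := hP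
  haveI := hfin
  haveI := Fact.mk Nat.prime_two
  haveI : Nontrivial P := ⟨⟨s, 1, hs1⟩⟩
  have hsq : ∀ x : P, x ^ 2 = 1 ↔ x * x = 1 := fun x => by rw [pow_two]
  have htr : ∀ x y : P, x ≠ 1 → x ^ 2 = 1 → y ≠ 1 → y ^ 2 = 1 → ∃ f : MulAut P, f x = y := by
    intro x y hx hx2 hy hy2
    obtain ⟨k, hk, -⟩ := hreg x y hx ((hsq x).mp hx2) hy ((hsq y).mp hy2)
    exact ⟨k, hk⟩
  obtain ⟨hcent, -⟩ := Cfsg.Agent.S3774.result h2 htr
  -- the involutions with `1` form a subgroup
  let Ω : Subgroup P :=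
    { carrier := {x | x ^ 2 = 1}
      one_mem' := one_pow 2
      mul_mem' := fun {a b} (ha : a ^ 2 = 1) (hb : b ^ 2 = 1) => show (a * b) ^ 2 = 1 by
        rw [(show Commute a b from mem_center_iff.mp (hcent b hb) a).mul_pow, ha, hb, mul_one]
      inv_mem' := fun {a} (h : a ^ 2 = 1) => show a⁻¹ ^ 2 = 1 by rw [inv_pow, h, inv_one] }
  obtain ⟨n, hn⟩ := IsPGroup.iff_card.mp (h2.to_subgroup Ω)
  have hcard : Nat.card {x : P // x ^ 2 = 1} = 2 ^ n := hn
  have hn2 : 2 ≤ n := by
    by_contra h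
    haveI : Fintype P := Fintype.ofFinite P
    have h3 : ({1, s, t} : Finset P).card = 3 := by
      rw [Finset.card_insert_of_notMem (by simp [Ne.symm hs1, Ne.symm ht1]),
        Finset.card_insert_of_notMem (by simp [hst]), Finset.card_singleton]
    have h4 := Finset.card_le_card (s := ({1, s, t} : Finset P))
      (t := Finset.univ.filter fun x => x ^ 2 = 1) (fun x hx => by
        simp only [Finset.mem_insert, Finset.mem_singleton] at hx
        rcases hx with rfl | rfl | rfl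
        · simp
        · simp [(hsq _).mpr hs]
        · simp [(hsq _).mpr ht])
    rw [h3, ← Fintype.card_subtype, ← Nat.card_eq_fintype_card, hcard] at h4
    have := Nat.pow_le_pow_right two_pos (show n ≤ 1 by omega)
    omega
  -- `K` is in bijection with the involutions
  let e : K ≃ {x : P // x ^ 2 = 1 ∧ x ≠ 1} :=
    Equiv.ofBijective
      (fun k => ⟨(k : MulAut P) s, by rw [← map_pow, (hsq s).mpr hs, map_one],
        fun h => hs1 ((MulEquiv.map_eq_one_iff _).mp h)⟩)
      ⟨fun k l h => by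
        obtain ⟨m, -, hm⟩ := hreg s _ hs1 hs (fun h => hs1 ((MulEquiv.map_eq_one_iff _).mp h))
          (show ((k : MulAut P) s) * ((k : MulAut P) s) = 1 by rw [← map_mul, hs, map_one])
        rw [hm k rfl, hm l (congrArg Subtype.val h).symm],
      fun z => by
        obtain ⟨k, hk, -⟩ := hreg s z hs1 hs z.2.2 ((hsq _).mp z.2.1)
        exact ⟨k, Subtype.ext hk⟩⟩
  have hKcard : Nat.card K = 2 ^ n - 1 := by
    rw [Nat.card_congr e, ← hcard]
    haveI : Fintype P := Fintype.ofFinite P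
    rw [Nat.card_eq_fintype_card, Nat.card_eq_fintype_card, Fintype.card_subtype, Fintype.card_subtype]
    rw [show (Finset.univ.filter fun x : P => x ^ 2 = 1 ∧ x ≠ 1)
      = (Finset.univ.filter fun x : P => x ^ 2 = 1).erase 1 by ext x; simp [and_comm],
      Finset.card_erase_of_mem (by simp)]
  obtain ⟨ξ, hξ⟩ := hK.exists_generator
  have hord : orderOf ξ = 2 ^ n - 1 := by rw [orderOf_eq_card_of_forall_mem_zpowers hξ, hKcard]
  refine ⟨n, ⟨(ξ : MulAut P), hn2, h2, hcent, hcard, ?_, ?_⟩, fun hc => hab ?_⟩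
  · rw [← hord, ← Subgroup.coe_pow, pow_orderOf_eq_one]; rfl
  · intro i x hx hfix
    obtain ⟨j, hj⟩ := IsPGroup.iff_orderOf.mp h2 x
    have hj0 : j ≠ 0 := fun h => hx (orderOf_eq_one_iff.mp (by rw [hj, h, pow_zero]))
    set z := x ^ 2 ^ (j - 1) with hz
    have hz1 : z ≠ 1 := pow_ne_one_of_lt_orderOf (pow_ne_zero _ two_ne_zero)
      (hj ▸ Nat.pow_lt_pow_right one_lt_two (by omega))
    have hz2 : z * z = 1 := by
      rw [hz, ← pow_add, ← two_mul, ← pow_succ', show j - 1 + 1 = j by omega, ← hj, pow_orderOf_eq_one]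
    obtain ⟨m, -, hm⟩ := hreg z z hz1 hz2 hz1 hz2
    have h1 : ξ ^ i = 1 := by
      rw [hm (ξ ^ i) (show ((ξ ^ i : K) : MulAut P) z = z by rw [Subgroup.coe_pow, hz, map_pow, hfix]), hm 1 rfl]
    rw [← hord]
    exact orderOf_dvd_of_pow_eq_one h1
  · haveI := hc
    exact mul_comm' a b

variable {P : Type u} [Group P] [Finite P] {n : ℕ} (D : Data P n)

include D in
theorem card_options (hna : ¬ IsMulCommutative P) :
    Nat.card P = (2 ^ n) ^ 2 ∨ Nat.card P = (2 ^ n) ^ 3 := by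
  have h3 := D.card_le_cube (higman D hna)
  obtain ⟨j, hj⟩ := D.card_pow (H := ⊤) D.top_inv
  rw [card_top] at hj
  have h4 : 1 < 2 ^ n := lt_of_lt_of_le (by norm_num) D.four_le
  have hj3 : j ≤ 3 := (Nat.pow_le_pow_iff_right h4).mp (hj ▸ h3)
  have hj1 : ¬ j ≤ 1 := fun h => by
    have hle : Nat.card P ≤ Nat.card D.ω := by
      rw [hj, D.card_ω]
      calc (2 ^ n) ^ j ≤ (2 ^ n) ^ 1 := Nat.pow_le_pow_right (by omega) h
        _ = 2 ^ n := pow_one _
    have htop : D.ω = ⊤ := Subgroup.eq_top_of_le_card _ hle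
    refine hna ⟨⟨fun a b => ?_⟩⟩
    exact (mem_center_iff.mp (D.ω_le_center (htop.ge (mem_top b))) a)
  rcases (show j = 2 ∨ j = 3 by omega) with rfl | rfl
  · exact Or.inl hj
  · exact Or.inr hj

end CfsgLib.PGroups.Suzuki
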