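import Mathlib
import Cfsg.Agent.S3773
import Cfsg.Prelude.Def_LieRecognition
import Cfsg.Agent.Lib.PGroups.Suzuki.Basic

/-!
# Suzuki 2-groups of order `q²` are of type A
-/

set_option autoImplicit false
set_option linter.all false

open scoped commutatorElement

namespace CfsgLib.PGroups.Suzuki

open Subgroup CfsgLib.Lie.FrobSpan

universe u

variable {F : Type} [Field F] [CharP F 2]

theorem add_self (x : F) : x + x = 0 := CharTwo.add_self_eq_zero x

/-- The elements of the group of type A. -/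
def el (σ : F →+* F) (x y : F) : GL (Fin 3) F where
  val := !![1, 0, 0; x, 1, 0; y, σ x, 1]
  inv := !![1, 0, 0; x, 1, 0; y + σ x * x, σ x, 1]
  val_inv := by
    ext i j
    fin_cases i <;> fin_cases j <;>
      simp [Matrix.mul_apply, Fin.sum_univ_three, add_self]
  inv_val := by
    ext i j
    fin_cases i <;> fin_cases j <;>
      simp [Matrix.mul_apply, Fin.sum_univ_three, add_self]
    linear_combination (add_self y) + (add_self (σ x * x))

theorem el_mem (σ : F →+* F) (x y : F) : el σ x y ∈ Cfsg.suzukiTypeA F σ :=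
  subset_closure ⟨x, y, rfl⟩

theorem el_mul (σ : F →+* F) (x y x' y' : F) :
    el σ x y * el σ x' y' = el σ (x + x') (y + y' + σ x * x') := by
  refine Units.ext ?_
  show (!![1, 0, 0; x, 1, 0; y, σ x, 1] : Matrix (Fin 3) (Fin 3) F) * !![1, 0, 0; x', 1, 0; y', σ x', 1]
    = !![1, 0, 0; x + x', 1, 0; y + y' + σ x * x', σ (x + x'), 1]
  ext i j
  fin_cases i <;> fin_cases j <;> simp [Matrix.mul_apply, Fin.sum_univ_three] <;> ring

theorem el_zero (σ : F →+* F) : el σ 0 0 = 1 := by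
  refine Units.ext ?_
  show (!![1, 0, 0; 0, 1, 0; 0, σ 0, 1] : Matrix (Fin 3) (Fin 3) F) = 1
  ext i j
  fin_cases i <;> fin_cases j <;> simp

theorem el_inj (σ : F →+* F) {x y x' y' : F} (h : el σ x y = el σ x' y') : x = x' ∧ y = y' := by
  have h' : (!![1, 0, 0; x, 1, 0; y, σ x, 1] : Matrix (Fin 3) (Fin 3) F)
      = !![1, 0, 0; x', 1, 0; y', σ x', 1] := congrArg Units.val h
  have h1 := congrFun (congrFun h' 1) 0
  have h2 := congrFun (congrFun h' 2) 0
  simp at h1 h2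
  exact ⟨h1, h2⟩

theorem el_inv (σ : F →+* F) (x y : F) : (el σ x y)⁻¹ = el σ x (y + σ x * x) := Units.ext rfl

theorem exists_el (σ : F →+* F) {g : GL (Fin 3) F} (hg : g ∈ Cfsg.suzukiTypeA F σ) :
    ∃ x y, g = el σ x y := by
  induction hg using Subgroup.closure_induction with
  | mem g hg => obtain ⟨x, y, h⟩ := hg; exact ⟨x, y, Units.ext h⟩
  | one => exact ⟨0, 0, (el_zero σ).symm⟩
  | mul a b _ _ iha ihb =>
    obtain ⟨x, y, rfl⟩ := iha
    obtain ⟨x', y', rfl⟩ := ihb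
    exact ⟨_, _, el_mul σ x y x' y'⟩
  | inv a _ iha => obtain ⟨x, y, rfl⟩ := iha; exact ⟨_, _, el_inv σ x y⟩

/-- A field automorphism with only trivial `x * σ x = 1` has odd order. -/
theorem odd_of_norm [Fintype F] (σ : F ≃+* F) (h : ∀ w : F, w * σ w = 1 → w = 1) :
    Odd (orderOf σ) := by
  classical
  haveI : Finite (F ≃+* F) := Finite.of_injective (fun f => (f : F → F)) DFunLike.coe_injective
  by_contra hodd
  obtain ⟨r, hr⟩ : 2 ∣ orderOf σ := (Nat.not_odd_iff_even.mp hodd).two_dvd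
  have hpos : 0 < orderOf σ := orderOf_pos σ
  let tr : F → F := fun a => ∑ i ∈ Finset.range r, (σ ^ (2 * i)) a
  have htr2 : ∀ a, σ (σ (tr a)) = tr a := by
    intro a
    have hlast : (σ ^ (2 * r)) a = a := by rw [← hr, pow_orderOf_eq_one]; rfl
    have h1 : σ (σ (tr a)) = ∑ i ∈ Finset.range r, (σ ^ (2 * (i + 1))) a := by
      simp only [tr, map_sum]
      refine Finset.sum_congr rfl fun i _ => ?_
      rw [show 2 * (i + 1) = 2 * i + 1 + 1 by ring, pow_succ', pow_succ']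
      rfl
    have h2 := Finset.sum_range_succ' (fun i => (σ ^ (2 * i)) a) r
    rw [Finset.sum_range_succ, hlast] at h2
    rw [h1]
    have h3 : (σ ^ (2 * 0)) a = a := by rw [mul_zero, pow_zero]; rfl
    rw [h3] at h2
    exact add_right_cancel h2.symm
  by_cases hne : ∃ a, σ (tr a) ≠ tr a
  · obtain ⟨a, ha⟩ := hne
    have hx : tr a ≠ 0 := fun h0 => ha (by rw [h0, map_zero])
    have hσx : σ (tr a) ≠ 0 := fun h0 => hx (σ.injective (h0.trans (map_zero σ).symm))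
    have hw : tr a / σ (tr a) * σ (tr a / σ (tr a)) = 1 := by
      rw [map_div₀, htr2]
      field_simp
    exact ha ((div_eq_one_iff_eq hσx).mp (h _ hw)).symm
  push Not at hne
  have hinj : Function.Injective (fun i : Fin (2 * r) => σ ^ (i : ℕ)) := fun i j hij =>
    Fin.ext (pow_injOn_Iio_orderOf (hr.symm ▸ i.2) (hr.symm ▸ j.2) hij)
  have hli := linearIndependent_aut.comp _ hinj
  have hzero : ∑ i : Fin (2 * r), (1 : F) • ((fun σ : F ≃+* F => ((σ : F →+* F) : F → F)) (σ ^ (i : ℕ))) = 0 := by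
    funext a
    simp only [Finset.sum_apply, Pi.smul_apply, smul_eq_mul, one_mul, Pi.zero_apply,
      RingEquiv.coe_toRingHom]
    rw [Fin.sum_univ_eq_sum_range (fun i => (σ ^ i) a) (2 * r)]
    have h1 : ∀ k, ∑ i ∈ Finset.range (2 * k), (σ ^ i) a
        = ∑ i ∈ Finset.range k, ((σ ^ (2 * i)) a + σ ((σ ^ (2 * i)) a)) := by
      intro k
      induction k with
      | zero => simp
      | succ k ih =>
        rw [Finset.sum_range_succ, ← ih, show 2 * (k + 1) = 2 * k + 1 + 1 by ring,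
          Finset.sum_range_succ, Finset.sum_range_succ, add_assoc, pow_succ' σ (2 * k)]
        rfl
    rw [h1, Finset.sum_add_distrib, ← map_sum]
    show tr a + σ (tr a) = 0
    rw [hne, add_self]
  exact one_ne_zero (Fintype.linearIndependent_iff.mp hli (fun _ => 1) hzero ⟨0, by omega⟩)

/-- Coordinates of an order `q²` Suzuki 2-group in which the automorphism is diagonal. -/
theorem exists_typeA_coord {P : Type u} [Group P] [Finite P] {n : ℕ} (D : Data P n)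
    (hna : ¬ IsMulCommutative P) (hcard : Nat.card P = (2 ^ n) ^ 2) :
    ∃ (F : Type) (_ : Field F) (_ : Fintype F) (_ : CharP F 2) (σ : F ≃+* F) (y : ℕ) (μ : F) (c : P ≃ F × F),
      Fintype.card F = 2 ^ n ∧ σ ≠ RingEquiv.refl F ∧ Odd (orderOf σ) ∧ y ≠ 0 ∧ y < n ∧
      (∀ x, σ x = x ^ 2 ^ y) ∧ orderOf μ = 2 ^ n - 1 ∧
      (∀ g h, c (g * h) = ((c g).1 + (c h).1, (c g).2 + (c h).2 + σ (c g).1 * (c h).1)) ∧
      ∀ g, c (D.ξ g) = (μ * (c g).1, μ * σ μ * (c g).2) := by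
  classical
  obtain ⟨F, _, _, _, hF⟩ := exists_field D
  have hsq := higman D hna
  haveI := D.ω_normal
  have hcom := D.commutator_mem_of_sq hsq
  have hωne : D.ω ≠ ⊥ := fun h => by
    have := D.card_ω; rw [h, card_bot] at this; have := D.four_le; omega
  have hbot : D.Inv ⊥ := fun x hx => by rw [mem_bot] at hx ⊢; rw [hx, map_one]
  obtain ⟨φ₀, hφ₀⟩ := exists_coord (D := D) hF inferInstance hbot D.ω_inv
    (bot_lt_iff_ne_bot.mpr hωne) (fun x hx => mem_bot.mpr hx)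
    (fun H hH _ hle => by
      by_cases h : H = ⊥
      · exact Or.inl h
      · exact Or.inr (le_antisymm hle (D.ω_le hH h)))
  have hcardT : Nat.card (⊤ : Subgroup P) = 2 ^ n * Nat.card D.ω := by
    rw [card_top, hcard, D.card_ω, pow_two]
  have hωlt : D.ω < ⊤ := lt_top_iff_ne_top.mpr fun h => by
    have h1 := D.card_ω
    rw [h, card_top, hcard] at h1
    have := D.four_le
    nlinarith
  obtain ⟨τ₀, hτ₀⟩ := exists_coord (D := D) hF D.ω_normal D.ω_inv D.top_inv hωlt (fun x _ => hsq x)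
    (fun H hH hle hle' => D.card_eq_of_between D.ω_inv hH hle hle' hcardT)
  obtain ⟨C, hCl, hCr, hCeq, hC⟩ := exists_bilinear D.top_inv D.top_inv τ₀ τ₀
    (fun g h => φ₀.e ⁅g, h⁆) φ₀.μ
    (fun g _ g' _ h _ => by
      show φ₀.e ⁅g * g', h⁆ = φ₀.e ⁅g, h⁆ + φ₀.e ⁅g', h⁆
      rw [comm_mul_left_of_central (D.ω_le_center (hcom g' h)), φ₀.mul _ (hcom g h) _ (hcom g' h)])
    (fun g _ h _ h' _ => by
      show φ₀.e ⁅g, h * h'⁆ = _
      rw [comm_mul_right_of_central (D.ω_le_center (hcom g h')), φ₀.mul _ (hcom g h) _ (hcom g h')])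
    (fun g hg h _ h0 => by
      show φ₀.e _ = 0
      rw [commutatorElement_eq_one_iff_commute.mpr
        (show Commute g h from (mem_center_iff.mp (D.ω_le_center ((hτ₀ g hg).mp h0)) h).symm), φ₀.map_one])
    (fun g _ h hh h0 => by
      show φ₀.e _ = 0
      rw [commutatorElement_eq_one_iff_commute.mpr
        (show Commute g h from mem_center_iff.mp (D.ω_le_center ((hτ₀ h hh).mp h0)) g), φ₀.map_one])
    (fun g _ h _ => by
      show φ₀.e ⁅D.ξ g, D.ξ h⁆ = _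
      rw [← map_commutatorElement]
      exact φ₀.equiv _ (hcom g h))
  have halt : ∀ u, C u u = 0 := fun u => by
    obtain ⟨g, -, rfl⟩ := τ₀.surj u
    rw [← hC g (mem_top g) g (mem_top g)]
    show φ₀.e ⁅g, g⁆ = 0
    rw [commutatorElement_self, φ₀.map_one]
  obtain ⟨s, c, hCs, hs⟩ := monomials hF (by have := D.two_le; omega) C hCl hCr hCeq
  have hμ0 : τ₀.μ ≠ 0 := fun h => by
    have h1 := pow_orderOf_eq_one τ₀.μ
    rw [τ₀.order, h, zero_pow (by have := D.four_le; omega)] at h1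
    exact zero_ne_one h1
  have huniq : ∀ p ∈ s, ∀ q ∈ s, q = p ∨ q = (p.2, p.1) := by
    intro p hp q hq
    have h2 : τ₀.μ ^ (2 ^ (q.1 : ℕ) + 2 ^ (q.2 : ℕ)) = τ₀.μ ^ (2 ^ (p.1 : ℕ) + 2 ^ (p.2 : ℕ)) := by
      rw [pow_add, pow_add, (hs q hq).2, (hs p hp).2]
    have h3 := pow_eq_modEq hμ0 h2
    rw [τ₀.order] at h3
    rcases two_pows D.two_le q.1.2 q.2.2 p.1.2 p.2.2 h3 with ⟨h4, h5⟩ | ⟨h4, h5⟩
    · exact Or.inl (Prod.ext (Fin.ext h4) (Fin.ext h5))
    · exact Or.inr (Prod.ext (Fin.ext h4) (Fin.ext h5))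
  obtain hs0 | ⟨p, hp⟩ := s.eq_empty_or_nonempty
  · exfalso
    refine hna ⟨⟨fun g h => (commutatorElement_eq_one_iff_commute.mp
      (mem_bot.mp ((hφ₀ _ (hcom g h)).mp ?_))).eq⟩⟩
    have := hC g (mem_top g) h (mem_top h)
    rw [hCs, hs0, Finset.sum_empty] at this
    exact this
  have h11 := halt 1
  rw [hCs] at h11
  simp only [one_pow, mul_one] at h11
  have hswap : (p.2, p.1) ∈ s ∧ p.1 ≠ p.2 := by
    by_contra hc
    rw [Decidable.not_and_iff_or_not] at hc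
    have hsp : s = {p} := Finset.eq_singleton_iff_unique_mem.mpr ⟨hp, fun q hq => by
      rcases huniq p hp q hq with h | h
      · exact h
      · rcases hc with hc | hc
        · exact absurd (h ▸ hq) hc
        · rw [h]; exact Prod.ext (not_not.mp hc).symm (not_not.mp hc)⟩
    rw [hsp, Finset.sum_singleton] at h11
    exact (hs p hp).1 h11
  have hne : p ≠ (p.2, p.1) := fun h => hswap.2 (congrArg Prod.fst h)
  have hsp : s = {p, (p.2, p.1)} := by
    ext q
    simp only [Finset.mem_insert, Finset.mem_singleton]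
    exact ⟨fun hq => huniq p hp q hq, fun h => h.elim (fun h => h ▸ hp) (fun h => h ▸ hswap.1)⟩
  rw [hsp, Finset.sum_pair hne] at h11
  have hcc : c (p.2, p.1) = c p := (CharTwo.add_eq_zero.mp h11).symm
  set d := c p with hd
  have hd0 : d ≠ 0 := (hs p hp).1
  set a : ℕ := (p.1 : ℕ) with ha
  set y : ℕ := ((p.2 : ℕ) + n - a) % n with hy
  have hn0 : 0 < n := by have := D.two_le; omega
  have hyn : y < n := Nat.mod_lt _ hn0
  have hay : (a + y) % n = (p.2 : ℕ) := by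
    rw [hy, Nat.add_mod_mod, show a + ((p.2 : ℕ) + n - a) = (p.2 : ℕ) + n by
      have := p.1.2; omega, Nat.add_mod_right, Nat.mod_eq_of_lt p.2.2]
  have hy0 : y ≠ 0 := fun h => hswap.2 (Fin.ext (by
    rw [h, Nat.add_zero, Nat.mod_eq_of_lt p.1.2] at hay
    exact hay))
  set σ : F ≃+* F := frob y with hσdef
  have hσ : ∀ x, σ x = x ^ 2 ^ y := fun x => frob_apply y x
  -- normalised coordinates
  let τ : Coord D ⊤ F :=
    { e := fun x => (τ₀.e x) ^ 2 ^ a
      μ := τ₀.μ ^ 2 ^ a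
      order := orderOf_pow_two_pow (by omega) τ₀.order a
      mul := fun x hx z hz => by rw [τ₀.mul x hx z hz, add_pow_char_pow]
      surj := fun v => by
        obtain ⟨x, hx, hxv⟩ := τ₀.surj ((frob (F := F) a).symm v)
        exact ⟨x, hx, by rw [hxv, ← frob_apply, RingEquiv.apply_symm_apply]⟩
      equiv := fun x hx => by rw [τ₀.equiv x hx, mul_pow] }
  let φ : Coord D D.ω F :=
    { e := fun z => φ₀.e z / d
      μ := φ₀.μ
      order := φ₀.order
      mul := fun x hx z hz => by rw [φ₀.mul x hx z hz, add_div]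
      surj := fun v => by
        obtain ⟨z, hz, hzv⟩ := φ₀.surj (v * d)
        exact ⟨z, hz, by rw [hzv, mul_div_cancel_right₀ _ hd0]⟩
      equiv := fun x hx => by rw [φ₀.equiv x hx, mul_div_assoc] }
  have hτker : ∀ x, τ.e x = 0 ↔ x ∈ D.ω := fun x => by
    rw [← hτ₀ x (mem_top x)]
    exact ⟨fun h => pow_eq_zero_iff (pow_ne_zero a two_ne_zero) |>.mp h,
      fun h => by show τ₀.e x ^ 2 ^ a = 0; rw [h, zero_pow (pow_ne_zero a two_ne_zero)]⟩
  have hφinj : ∀ z ∈ D.ω, φ.e z = 0 → z = 1 := fun z hz h => mem_bot.mp ((hφ₀ z hz).mp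
    ((div_eq_zero_iff.mp h).resolve_right hd0))
  have hcomm : ∀ g h, φ.e ⁅g, h⁆ = τ.e g * σ (τ.e h) + σ (τ.e g) * τ.e h := by
    intro g h
    show φ₀.e ⁅g, h⁆ / d = _
    rw [hC g (mem_top g) h (mem_top h), hCs, hsp, Finset.sum_pair hne, hcc, hσ, hσ]
    show (d * (τ₀.e g ^ 2 ^ a * τ₀.e h ^ 2 ^ (p.2 : ℕ)) + d * (τ₀.e g ^ 2 ^ (p.2 : ℕ) * τ₀.e h ^ 2 ^ a)) / d
      = τ₀.e g ^ 2 ^ a * (τ₀.e h ^ 2 ^ a) ^ 2 ^ y + (τ₀.e g ^ 2 ^ a) ^ 2 ^ y * τ₀.e h ^ 2 ^ a
    rw [← pow_mul, ← pow_mul, ← pow_add, pow_two_pow_mod hF (τ₀.e h) (a + y), hay,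
      pow_two_pow_mod hF (τ₀.e g) (a + y), hay]
    field_simp
  have hρ : τ.μ * σ τ.μ = φ.μ := by
    have h1 := (hs p hp).2
    rw [hσ]
    show τ₀.μ ^ 2 ^ a * (τ₀.μ ^ 2 ^ a) ^ 2 ^ y = φ₀.μ
    rw [← pow_mul, ← pow_add 2, pow_two_pow_mod hF τ₀.μ (a + y), hay]
    exact h1
  choose sec hsec1 hsec using τ.surj
  have hQ : ∀ g, φ.e (g ^ 2) = τ.e g * σ (τ.e g) := by
    let q : P → F := fun g => φ.e (g ^ 2) + τ.e g * σ (τ.e g)
    have hq : ∀ g h, q (g * h) = q g + q h := by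
      intro g h
      have hc := mem_center_iff.mp (D.ω_le_center (hcom h g))
      have he : (g * h) ^ 2 = ⁅h, g⁆ * (g ^ 2 * h ^ 2) := by
        calc (g * h) ^ 2 = g * ⁅h, g⁆ * g * h * h := by rw [pow_two, commutatorElement_def]; group
          _ = ⁅h, g⁆ * g * g * h * h := by rw [hc g]
          _ = ⁅h, g⁆ * (g ^ 2 * h ^ 2) := by rw [pow_two, pow_two]; group
      show φ.e ((g * h) ^ 2) + τ.e (g * h) * σ (τ.e (g * h)) = _
      rw [he, φ.mul _ (hcom h g) _ (D.ω.mul_mem (hsq g) (hsq h)), φ.mul _ (hsq g) _ (hsq h), hcomm,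
        τ.mul g (mem_top g) h (mem_top h), map_add]
      show _ = (φ.e (g ^ 2) + τ.e g * σ (τ.e g)) + (φ.e (h ^ 2) + τ.e h * σ (τ.e h))
      linear_combination (add_self (τ.e h * σ (τ.e g))) + (add_self (τ.e g * σ (τ.e h)))
    have hq0 : ∀ g, τ.e g = 0 → q g = 0 := fun g h => by
      show φ.e (g ^ 2) + τ.e g * σ (τ.e g) = 0
      rw [D.mem_ω.mp ((hτker g).mp h), φ.map_one, h, zero_mul, zero_add]
    have hcong : ∀ g h, τ.e g = τ.e h → q g = q h := by
      intro g h he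
      have h1 : τ.e (g⁻¹ * h) = 0 := by
        have h2 := τ.mul g (mem_top g) _ (mem_top (g⁻¹ * h))
        rw [mul_inv_cancel_left, ← he] at h2
        simpa using h2
      rw [show h = g * (g⁻¹ * h) by group, hq, hq0 _ h1, add_zero]
    let G' : F → F → F := fun u v => q (sec u) * v
    obtain ⟨s', c', hG', hs'⟩ := monomials hF (by omega) G'
      (fun u u' v => by
        show q (sec (u + u')) * v = q (sec u) * v + q (sec u') * v
        rw [← add_mul, ← hq]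
        refine congrArg (· * v) (hcong _ _ ?_)
        rw [τ.mul _ (hsec1 u) _ (hsec1 u'), hsec, hsec, hsec])
      (fun u v v' => mul_add _ _ _) (μ := τ.μ) (ν := 1) (ρ := φ.μ)
      (fun u v => by
        show q (sec (τ.μ * u)) * (1 * v) = φ.μ * (q (sec u) * v)
        rw [one_mul, ← mul_assoc]
        refine congrArg (· * v) ?_
        rw [hcong (sec (τ.μ * u)) (D.ξ (sec u)) (by rw [hsec, τ.equiv _ (hsec1 u), hsec])]
        show φ.e ((D.ξ (sec u)) ^ 2) + τ.e (D.ξ (sec u)) * σ (τ.e (D.ξ (sec u))) = φ.μ * q (sec u)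
        rw [← map_pow, φ.equiv _ (hsq _), τ.equiv _ (hsec1 u), map_mul, mul_add, ← hρ]
        ring)
    have hτμ0 : τ.μ ≠ 0 := pow_ne_zero _ hμ0
    have hempty : s' = ∅ := by
      rw [Finset.eq_empty_iff_forall_notMem]
      intro r hr
      have h1 := (hs' r hr).2
      rw [one_pow, mul_one, ← hρ, hσ] at h1
      obtain ⟨i, hi⟩ : ∃ i, i = ((r.1 : ℕ) + n - 1) % n := ⟨_, rfl⟩
      have hi1 : (i + 1) % n = (r.1 : ℕ) := by
        rw [hi, Nat.mod_add_mod, show (r.1 : ℕ) + n - 1 + 1 = (r.1 : ℕ) + n by omega, Nat.add_mod_right,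
          Nat.mod_eq_of_lt r.1.2]
      have h2 : τ.μ ^ (2 ^ i + 2 ^ i) = τ.μ ^ (2 ^ 0 + 2 ^ y) := by
        rw [← two_mul, ← pow_succ', pow_two_pow_mod hF, hi1, h1, pow_add, pow_zero, pow_one]
      have h3 := pow_eq_modEq hτμ0 h2
      rw [τ.order] at h3
      rcases two_pows D.two_le (hi ▸ Nat.mod_lt _ hn0) (hi ▸ Nat.mod_lt _ hn0) hn0 hyn h3 with ⟨h4, h5⟩ | ⟨h4, h5⟩ <;>
        exact hy0 (by omega)
    intro g
    have h1 : q g = 0 := by
      have h2 := hG' (τ.e g) 1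
      rw [hempty, Finset.sum_empty] at h2
      have h3 : q (sec (τ.e g)) = 0 := by simpa [G'] using h2
      rw [← h3]
      exact hcong _ _ (hsec _).symm
    exact CharTwo.add_eq_zero.mp h1
  have hodd : Odd (orderOf σ) := by
    refine odd_of_norm σ fun w hw => ?_
    have hw0 : w ≠ 0 := fun h => by rw [h, zero_mul] at hw; exact zero_ne_one hw
    have hnorm : ∀ w : F, w ≠ 0 → w * σ w = w ^ (1 + 2 ^ y) := fun w _ => by
      rw [hσ, pow_add, pow_one]
    rw [hnorm w hw0] at hw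
    by_contra hw1
    have hμord : orderOf (τ.μ ^ (1 + 2 ^ y)) = 2 ^ n - 1 := by
      rw [← hnorm _ (pow_ne_zero _ hμ0), hρ]; exact φ.order
    have hgcd : Nat.gcd (2 ^ n - 1) (1 + 2 ^ y) = 1 := by
      have h := orderOf_pow' τ.μ (show (1 + 2 ^ y : ℕ) ≠ 0 by positivity)
      rw [hμord, τ.order] at h
      have hN : 0 < 2 ^ n - 1 := by have := D.four_le; omega
      exact (Nat.div_eq_self.mp h.symm).resolve_left hN.ne'
    refine hw1 (orderOf_eq_one_iff.mp (Nat.dvd_one.mp (hgcd ▸ Nat.dvd_gcd ?_ ?_)))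
    · exact orderOf_dvd_of_pow_eq_one (by rw [← hF]; exact FiniteField.pow_card_sub_one_eq_one w hw0)
    · exact orderOf_dvd_of_pow_eq_one hw
  have hσne : σ ≠ RingEquiv.refl F := by
    intro h
    have h1 : τ₀.μ ^ 2 ^ y = τ₀.μ ^ 2 ^ 0 := by rw [← hσ, h, pow_zero, pow_one]; rfl
    have h3 := pow_eq_modEq hμ0 h1
    rw [τ₀.order] at h3
    have h4 : 2 ^ y + 2 ^ 0 ≡ 2 ^ 0 + 2 ^ 0 [MOD 2 ^ n - 1] := h3.add_right _
    rcases two_pows D.two_le hyn hn0 hn0 hn0 h4 with ⟨h5, -⟩ | ⟨h5, -⟩ <;> exact hy0 h5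
  set S := (σ : F →+* F) with hS
  have hSapp : ∀ x, S x = σ x := fun x => rfl
  have helsq : ∀ u w, el S u w * el S u w = el S 0 (S u * u) := fun u w => by
    rw [el_mul, add_self u, add_self w, zero_add]
  -- the pull back
  let N : Subgroup (P × GL (Fin 3) F) :=
    { carrier := {x | ∃ w, x.2 = el S (τ.e x.1) w}
      one_mem' := ⟨0, by show (1 : GL (Fin 3) F) = el S (τ.e 1) 0; rw [τ.map_one, el_zero]⟩
      mul_mem' := fun {a b} ha hb => by
        obtain ⟨v, hv⟩ := ha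
        obtain ⟨w, hw⟩ := hb
        refine ⟨v + w + S (τ.e a.1) * τ.e b.1, ?_⟩
        show a.2 * b.2 = el S (τ.e (a.1 * b.1)) _
        rw [τ.mul _ (mem_top _) _ (mem_top _), hv, hw, el_mul]
      inv_mem' := fun {a} ha => by
        obtain ⟨w, hw⟩ := ha
        refine ⟨w + S (τ.e a.1) * τ.e a.1, ?_⟩
        have hi : τ.e a.1⁻¹ = τ.e a.1 := by
          have h2 := τ.mul _ (mem_top a.1) _ (mem_top a.1⁻¹)
          rw [mul_inv_cancel, τ.map_one] at h2
          exact (CharTwo.add_eq_zero.mp h2.symm).symm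
        show a.2⁻¹ = el S (τ.e a.1⁻¹) _
        rw [hi, hw, el_inv] }
  let Δ : Subgroup N :=
    { carrier := {x | (x : P × GL (Fin 3) F).1 ∈ D.ω ∧
        (x : P × GL (Fin 3) F).2 = el S 0 (φ.e (x : P × GL (Fin 3) F).1)}
      one_mem' := ⟨D.ω.one_mem, by show (1 : GL (Fin 3) F) = el S 0 (φ.e 1); rw [φ.map_one, el_zero]⟩
      mul_mem' := fun {a b} ha hb => ⟨D.ω.mul_mem ha.1 hb.1, by
        show (a : P × GL (Fin 3) F).2 * (b : P × GL (Fin 3) F).2 = el S 0 (φ.e ((a : P × GL (Fin 3) F).1 * (b : P × GL (Fin 3) F).1))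
        rw [ha.2, hb.2, el_mul, φ.mul _ ha.1 _ hb.1, add_zero, map_zero, zero_mul, add_zero]⟩
      inv_mem' := fun {a} ha => ⟨D.ω.inv_mem ha.1, by
        show (a : P × GL (Fin 3) F).2⁻¹ = el S 0 (φ.e (a : P × GL (Fin 3) F).1⁻¹)
        have hz : ∀ z ∈ D.ω, z⁻¹ = z := fun z hz =>
          inv_eq_of_mul_eq_one_right (by rw [← pow_two]; exact hz)
        rw [ha.2, el_inv, hz _ ha.1, map_zero, zero_mul, add_zero]⟩ }
  have hNsq : ∀ x : N, x * x ∈ Δ := by
    rintro ⟨⟨g, h⟩, w, hw : h = el S (τ.e g) w⟩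
    refine ⟨show g * g ∈ D.ω by rw [← pow_two]; exact hsq g, ?_⟩
    show h * h = el S 0 (φ.e (g * g))
    rw [hw, helsq, ← pow_two g, hQ, hSapp, mul_comm]
  have hΔc : ∀ d ∈ Δ, ∀ x : N, x * d = d * x := by
    rintro ⟨⟨z, k⟩, hk⟩ ⟨hz, hz2 : k = el S 0 (φ.e z)⟩ ⟨⟨g, h⟩, w, hw : h = el S (τ.e g) w⟩
    refine Subtype.ext (Prod.ext (mem_center_iff.mp (D.ω_le_center hz) g) ?_)
    show h * k = k * h
    rw [hw, hz2, el_mul, el_mul, map_zero, zero_mul, mul_zero, add_zero, zero_add, add_zero, add_zero,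
      add_comm w]
  haveI hΔn : Δ.Normal := ⟨fun d hd x => by rwa [hΔc d hd x, mul_inv_cancel_right]⟩
  let W₀ : Subgroup N :=
    { carrier := {x | (x : P × GL (Fin 3) F).2 = 1}
      one_mem' := rfl
      mul_mem' := fun {a b} ha hb => by
        show (a : P × GL (Fin 3) F).2 * (b : P × GL (Fin 3) F).2 = 1
        rw [ha, hb, one_mul]
      inv_mem' := fun {a} ha => by
        show (a : P × GL (Fin 3) F).2⁻¹ = 1
        rw [ha, inv_one] }
  obtain ⟨W, hW1, hW2⟩ := Cfsg.Agent.S3773.exists_compl (V := N ⧸ Δ) (fun q => by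
    obtain ⟨x, rfl⟩ := QuotientGroup.mk'_surjective Δ q
    rw [← map_mul]
    exact (QuotientGroup.eq_one_iff _).mpr (hNsq x)) (W₀.map (QuotientGroup.mk' Δ))
  set L : Subgroup N := W.comap (QuotientGroup.mk' Δ) with hL
  have hΔL : Δ ≤ L := fun d hd => by
    show QuotientGroup.mk' Δ d ∈ W
    rw [show QuotientGroup.mk' Δ d = 1 from (QuotientGroup.eq_one_iff d).mpr hd]
    exact W.one_mem
  have hLW : ∀ x ∈ L, x ∈ W₀ → x = 1 := by
    intro x hxL hxW
    have h1 : QuotientGroup.mk' Δ x ∈ W ⊓ W₀.map (QuotientGroup.mk' Δ) :=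
      ⟨hxL, mem_map_of_mem _ hxW⟩
    rw [hW1, mem_bot] at h1
    obtain ⟨hz, hz2⟩ := (QuotientGroup.eq_one_iff x).mp h1
    refine Subtype.ext (Prod.ext ?_ hxW)
    refine hφinj _ hz ?_
    have h2 : el S 0 (φ.e (x : P × GL (Fin 3) F).1) = el S 0 0 := by rw [← hz2, hxW, el_zero]
    exact (el_inj S h2).2
  have hLone : ∀ x ∈ L, (x : P × GL (Fin 3) F).1 = 1 → x = 1 := by
    intro x hxL hx1
    obtain ⟨w, hw⟩ := x.2
    rw [hx1, τ.map_one] at hw
    obtain ⟨z, hz, hzw⟩ := φ.surj w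
    let dd : N := ⟨(z, el S 0 w), w, by show el S 0 w = el S (τ.e z) w; rw [(hτker z).mpr hz]⟩
    have hdd : dd ∈ Δ := ⟨hz, by show el S 0 w = el S 0 (φ.e z); rw [hzw]⟩
    have h1 := hLW (dd * x⁻¹) (L.mul_mem (hΔL hdd) (L.inv_mem hxL)) (by
      show el S 0 w * (x : P × GL (Fin 3) F).2⁻¹ = 1
      rw [hw, mul_inv_cancel])
    have h2 : dd = x := mul_inv_eq_one.mp h1
    have hz1 : z = 1 := by
      have : z = (x : P × GL (Fin 3) F).1 := congrArg (fun q : N => (q : P × GL (Fin 3) F).1) h2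
      rw [this, hx1]
    refine Subtype.ext (Prod.ext hx1 ?_)
    show (x : P × GL (Fin 3) F).2 = 1
    rw [hw, ← hzw, hz1, φ.map_one, el_zero]
  have hsurj : ∀ h ∈ Cfsg.suzukiTypeA F S, ∃ x ∈ L, (x : P × GL (Fin 3) F).2 = h := by
    intro h hh
    obtain ⟨u, w, rfl⟩ := exists_el S hh
    let x : N := ⟨(sec u, el S u w), w, by show el S u w = el S (τ.e (sec u)) w; rw [hsec]⟩
    haveI : W.Normal := ⟨fun q hq r => by
      obtain ⟨r, rfl⟩ := QuotientGroup.mk'_surjective Δ r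
      obtain ⟨q, rfl⟩ := QuotientGroup.mk'_surjective Δ q
      have hc : ⁅r, q⁆ ∈ Δ := by
        have h1 : ∀ t : N ⧸ Δ, t⁻¹ = t := fun t => by
          obtain ⟨t, rfl⟩ := QuotientGroup.mk'_surjective Δ t
          refine inv_eq_of_mul_eq_one_right ?_
          rw [← map_mul]
          exact (QuotientGroup.eq_one_iff _).mpr (hNsq t)
        refine (QuotientGroup.eq_one_iff _).mp ?_
        show QuotientGroup.mk' Δ ⁅r, q⁆ = 1
        rw [map_commutatorElement, commutatorElement_def, h1, h1]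
        have h2 := h1 (QuotientGroup.mk' Δ r * QuotientGroup.mk' Δ q)
        rw [mul_inv_rev, h1, h1] at h2
        rw [mul_assoc, ← h2]
        have h3 := h1 (QuotientGroup.mk' Δ q * QuotientGroup.mk' Δ r)
        exact mul_eq_one_iff_eq_inv.mpr h3.symm
      rw [show QuotientGroup.mk' Δ r * QuotientGroup.mk' Δ q * (QuotientGroup.mk' Δ r)⁻¹
          = QuotientGroup.mk' Δ ⁅r, q⁆ * QuotientGroup.mk' Δ q by
        rw [map_commutatorElement, commutatorElement_def]; group,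
        show QuotientGroup.mk' Δ ⁅r, q⁆ = 1 from (QuotientGroup.eq_one_iff _).mpr hc, one_mul]
      exact hq⟩
    obtain ⟨l, hl, q, hq, hlq⟩ := mem_sup_of_normal_left.mp (hW2.ge (mem_top (QuotientGroup.mk' Δ x)))
    obtain ⟨x', hx', rfl⟩ := hq
    refine ⟨x * x'⁻¹, ?_, ?_⟩
    · show QuotientGroup.mk' Δ (x * x'⁻¹) ∈ W
      rw [map_mul, map_inv, ← hlq, mul_inv_cancel_right]
      exact hl
    · show el S u w * ((x' : P × GL (Fin 3) F).2)⁻¹ = el S u w
      rw [show (x' : P × GL (Fin 3) F).2 = 1 from hx', inv_one, mul_one]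
  -- the isomorphism
  let π₁ : L →* P := (MonoidHom.fst P (GL (Fin 3) F)).comp (N.subtype.comp L.subtype)
  let π₂ : L →* Cfsg.suzukiTypeA F S :=
    ((MonoidHom.snd P (GL (Fin 3) F)).comp (N.subtype.comp L.subtype)).codRestrict _ fun x => by
      obtain ⟨w, hw⟩ := ((x : L) : N).2
      show (((x : L) : N) : P × GL (Fin 3) F).2 ∈ _
      rw [hw]; exact el_mem S _ _
  have hπ₁ : Function.Injective π₁ := (injective_iff_map_eq_one π₁).mpr fun x hx =>
    Subtype.ext (hLone x x.2 hx)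
  have hπ₂ : Function.Bijective π₂ :=
    ⟨(injective_iff_map_eq_one π₂).mpr fun x hx =>
      Subtype.ext (hLW x x.2 (congrArg Subtype.val hx :)),
    fun h => by
      obtain ⟨x, hx, hxh⟩ := hsurj h h.2
      exact ⟨⟨x, hx⟩, Subtype.ext hxh⟩⟩
  have hcard2 : Nat.card P ≤ Nat.card L := by
    rw [hcard, Nat.card_congr (Equiv.ofBijective π₂ hπ₂), pow_two]
    have h1 : Function.Injective
        (fun q : F × F => (⟨el S q.1 q.2, el_mem S q.1 q.2⟩ : Cfsg.suzukiTypeA F S)) :=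
      fun q r h => Prod.ext (el_inj S (congrArg Subtype.val h :)).1 (el_inj S (congrArg Subtype.val h :)).2
    have h2 := Nat.card_le_card_of_injective _ h1
    rw [Nat.card_prod, Nat.card_eq_fintype_card (α := F), hF] at h2
    exact h2
  have hbij₁ : Function.Bijective π₁ :=
    (Nat.bijective_iff_injective_and_card π₁).mpr
      ⟨hπ₁, le_antisymm (Nat.card_le_card_of_injective π₁ hπ₁) hcard2⟩
  -- coordinates
  have hlift : ∀ g : P, ∃ w : F, ∃ x : L, π₁ x = g ∧ ((x : N) : P × GL (Fin 3) F).2 = el S (τ.e g) w := by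
    intro g
    obtain ⟨x, hx⟩ := hbij₁.2 g
    obtain ⟨w, hw⟩ := (x : N).2
    exact ⟨w, x, hx, hx ▸ hw⟩
  choose wc lf hlf hwc using hlift
  have hwmul : ∀ g h, wc (g * h) = wc g + wc h + σ (τ.e g) * τ.e h := by
    intro g h
    have h1 : lf (g * h) = lf g * lf h := hπ₁ (by rw [map_mul, hlf, hlf, hlf])
    have h2 : el S (τ.e (g * h)) (wc (g * h)) = el S (τ.e g) (wc g) * el S (τ.e h) (wc h) := by
      rw [← hwc, ← hwc, ← hwc, h1]
      rfl
    rw [el_mul] at h2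
    exact (el_inj S h2).2
  have hwω : ∀ z ∈ D.ω, wc z = φ.e z := by
    intro z hz
    let dd : N := ⟨(z, el S 0 (φ.e z)), φ.e z, by
      show el S 0 (φ.e z) = el S (τ.e z) _
      rw [(hτker z).mpr hz]⟩
    have hdd : dd ∈ L := hΔL (show dd ∈ Δ from ⟨hz, rfl⟩)
    have h1 : lf z = ⟨dd, hdd⟩ := hπ₁ (by rw [hlf]; rfl)
    have h2 := hwc z
    rw [h1, (hτker z).mpr hz] at h2
    exact (el_inj S h2).2.symm
  -- averaging over the automorphism
  have hN0 : 2 ^ n - 1 ≠ 0 := by have := D.four_le; omega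
  set ρ := φ.μ with hρdef
  have hρN : ρ ^ (2 ^ n - 1) = 1 := φ.order ▸ pow_orderOf_eq_one ρ
  have hρ0 : ρ ≠ 0 := fun h => by rw [h, zero_pow hN0] at hρN; exact zero_ne_one hρN
  have hτξ : ∀ (j : ℕ) g, τ.e ((D.ξ ^ j) g) = τ.μ ^ j * τ.e g := by
    intro j
    induction j with
    | zero => intro g; simp
    | succ j ih =>
      intro g
      rw [pow_succ', MulAut.mul_apply, τ.equiv _ (mem_top _), ih, pow_succ']
      ring
  have hφξ : ∀ (j : ℕ), ∀ z ∈ D.ω, φ.e ((D.ξ ^ j) z) = ρ ^ j * φ.e z := by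
    intro j
    induction j with
    | zero => intro z _; simp
    | succ j ih =>
      intro z hz
      rw [pow_succ', MulAut.mul_apply, φ.equiv _ (D.pow_inv D.ω_inv j z hz), ih z hz, pow_succ']
      ring
  have hone : ∀ x : F, (2 ^ n - 1) • x = x := by
    intro x
    obtain ⟨k, hk⟩ : Odd (2 ^ n - 1) := Nat.Even.sub_odd (Nat.one_le_two_pow) (Nat.even_pow.2
      ⟨even_two, by omega⟩) odd_one
    rw [hk, nsmul_eq_mul, Nat.cast_add, Nat.cast_mul, Nat.cast_ofNat, CharTwo.two_eq_zero, zero_mul, zero_add,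
      Nat.cast_one, one_mul]
  let w' : P → F := fun g => ∑ j ∈ Finset.range (2 ^ n - 1), ρ⁻¹ ^ j * wc ((D.ξ ^ j) g)
  have hw'mul : ∀ g h, w' (g * h) = w' g + w' h + σ (τ.e g) * τ.e h := by
    intro g h
    have h1 : ∀ j : ℕ, ρ⁻¹ ^ j * wc ((D.ξ ^ j) (g * h)) = ρ⁻¹ ^ j * wc ((D.ξ ^ j) g) +
        ρ⁻¹ ^ j * wc ((D.ξ ^ j) h) + σ (τ.e g) * τ.e h := by
      intro j
      have hc : ρ⁻¹ ^ j * (σ τ.μ ^ j * τ.μ ^ j) = 1 := by
        rw [← mul_pow, mul_comm (σ τ.μ), hρ, ← mul_pow, inv_mul_cancel₀ hρ0, one_pow]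
      rw [map_mul, hwmul, hτξ, hτξ, map_mul, map_pow]
      linear_combination (σ (τ.e g) * τ.e h) * hc
    simp only [w', h1, Finset.sum_add_distrib, Finset.sum_const, Finset.card_range, hone]
  have hw'ω : ∀ z ∈ D.ω, w' z = φ.e z := by
    intro z hz
    have h1 : ∀ j : ℕ, ρ⁻¹ ^ j * wc ((D.ξ ^ j) z) = φ.e z := fun j => by
      rw [hwω _ (D.pow_inv D.ω_inv j z hz), hφξ j z hz, ← mul_assoc, ← mul_pow, inv_mul_cancel₀ hρ0, one_pow,
        one_mul]
    simp only [w', h1, Finset.sum_const, Finset.card_range, hone]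
  have hw'ξ : ∀ g, w' (D.ξ g) = τ.μ * σ τ.μ * w' g := by
    intro g
    let f : ℕ → F := fun j => ρ⁻¹ ^ j * wc ((D.ξ ^ j) g)
    have hper : f (2 ^ n - 1) = f 0 := by
      show ρ⁻¹ ^ (2 ^ n - 1) * wc ((D.ξ ^ (2 ^ n - 1)) g) = ρ⁻¹ ^ 0 * wc ((D.ξ ^ 0) g)
      rw [D.order, inv_pow, hρN, inv_one, pow_zero, pow_zero]
    have h1 : ∀ j : ℕ, ρ⁻¹ ^ j * wc ((D.ξ ^ j) (D.ξ g)) = ρ * f (j + 1) := fun j => by
      show _ = ρ * (ρ⁻¹ ^ (j + 1) * wc ((D.ξ ^ (j + 1)) g))
      rw [pow_succ D.ξ, MulAut.mul_apply, pow_succ' ρ⁻¹, ← mul_assoc, ← mul_assoc, mul_inv_cancel₀ hρ0, one_mul]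
    have h2 := Finset.sum_range_succ f (2 ^ n - 1)
    rw [Finset.sum_range_succ', hper] at h2
    rw [hρ]
    show ∑ j ∈ Finset.range (2 ^ n - 1), ρ⁻¹ ^ j * wc ((D.ξ ^ j) (D.ξ g)) = ρ * ∑ j ∈ Finset.range (2 ^ n - 1), f j
    rw [Finset.sum_congr rfl (fun j _ => h1 j), ← Finset.mul_sum, add_right_cancel h2]
  let c : P → F × F := fun g => (τ.e g, w' g)
  have hcinj : Function.Injective c := by
    intro g h e
    obtain ⟨k, rfl⟩ : ∃ k, h = g * k := ⟨g⁻¹ * h, (mul_inv_cancel_left g h).symm⟩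
    have e1 : τ.e g = τ.e (g * k) := congrArg Prod.fst e
    have e2 : w' g = w' (g * k) := congrArg Prod.snd e
    rw [τ.mul g (mem_top g) k (mem_top k), left_eq_add] at e1
    rw [hw'mul, e1, mul_zero, add_zero, left_eq_add] at e2
    have hk : k ∈ D.ω := (hτker k).1 e1
    rw [hw'ω k hk] at e2
    rw [hφinj k hk e2, mul_one]
  haveI : Fintype P := Fintype.ofFinite P
  have hcbij : Function.Bijective c := (Nat.bijective_iff_injective_and_card c).2
    ⟨hcinj, by rw [hcard, Nat.card_prod, Nat.card_eq_fintype_card (α := F), hF, pow_two]⟩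
  refine ⟨F, inferInstance, inferInstance, inferInstance, σ, y, τ.μ, Equiv.ofBijective c hcbij, hF, hσne, hodd,
    hy0, hyn, hσ, τ.order, fun g h => ?_, fun g => ?_⟩
  · exact Prod.ext (τ.mul g (mem_top g) h (mem_top h)) (hw'mul g h)
  · exact Prod.ext (τ.equiv g (mem_top g)) (hw'ξ g)

/-- An order `q²` Suzuki 2-group is of type A. -/
theorem exists_typeA {P : Type u} [Group P] [Finite P] {n : ℕ} (D : Data P n)
    (hna : ¬ IsMulCommutative P) (hcard : Nat.card P = (2 ^ n) ^ 2) :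
    ∃ (F : Type) (_ : Field F) (_ : Fintype F) (σ : F ≃+* F), Fintype.card F = 2 ^ n ∧
      σ ≠ RingEquiv.refl F ∧ Odd (orderOf σ) ∧ Nonempty (P ≃* Cfsg.suzukiTypeA F (σ : F →+* F)) := by
  obtain ⟨F, _, _, _, σ, -, -, c, hF, hσ, hodd, -, -, -, -, hmul, -⟩ := exists_typeA_coord D hna hcard
  let f : P →* Cfsg.suzukiTypeA F (σ : F →+* F) := MonoidHom.mk'
    (fun g => ⟨el (σ : F →+* F) (c g).1 (c g).2, el_mem _ _ _⟩)
    (fun g h => Subtype.ext (by
      show el _ _ _ = el _ _ _ * el _ _ _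
      rw [el_mul, hmul]; rfl))
  refine ⟨F, inferInstance, inferInstance, σ, hF, hσ, hodd, ⟨MulEquiv.ofBijective f ⟨fun g h e => ?_, ?_⟩⟩⟩
  · obtain ⟨e1, e2⟩ := el_inj _ (congrArg Subtype.val e :)
    exact c.injective (Prod.ext e1 e2)
  · rintro ⟨a, ha⟩
    obtain ⟨x, z, rfl⟩ := exists_el _ ha
    exact ⟨c.symm (x, z), Subtype.ext (by show el _ _ _ = el _ _ _; rw [c.apply_symm_apply])⟩

end CfsgLib.PGroups.Suzuki
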