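import Mathlib
import Cfsg.Agent.S3774
import Cfsg.Agent.Lib.PGroups.Suzuki.Basic
import Cfsg.Agent.Lib.PGroups.Suzuki.TypeA
import Cfsg.Agent.Lib.PGroups.QuadraticCount

/-!
# Rank two 2-groups whose involutions are permuted transitively by an automorphism

Such a group is homocyclic or is a Suzuki 2-group of order 64, and the latter is unique.
-/

set_option autoImplicit false
set_option linter.all false

open scoped commutatorElement

namespace CfsgLib.PGroups.Suzuki.RankTwo

open Subgroup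

universe u v

section Cube

theorem mul_sq {G : Type u} [Group G] {x y : G} (h : ⁅y, x⁆ ∈ center G) :
    (x * y) ^ 2 = x ^ 2 * y ^ 2 * ⁅y, x⁆ :=
  calc (x * y) ^ 2 = x * (⁅y, x⁆ * (x * y)) * y := by
        rw [pow_two, commutatorElement_def]; group
    _ = x * ((x * y) * ⁅y, x⁆) * y := by rw [← mem_center_iff.mp h (x * y)]
    _ = x * x * y * (⁅y, x⁆ * y) := by group
    _ = x * x * y * (y * ⁅y, x⁆) := by rw [← mem_center_iff.mp h y]
    _ = x ^ 2 * y ^ 2 * ⁅y, x⁆ := by rw [pow_two, pow_two]; group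

theorem comm_mul_left' {G : Type u} [Group G] {x y w : G} (h : ⁅y, w⁆ ∈ center G) :
    ⁅x * y, w⁆ = ⁅x, w⁆ * ⁅y, w⁆ :=
  calc ⁅x * y, w⁆ = x * ⁅y, w⁆ * (w * x⁻¹ * w⁻¹) := by simp only [commutatorElement_def]; group
    _ = (x * (w * x⁻¹ * w⁻¹)) * ⁅y, w⁆ := by
      rw [mul_assoc, ← mem_center_iff.mp h (w * x⁻¹ * w⁻¹), ← mul_assoc]
    _ = ⁅x, w⁆ * ⁅y, w⁆ := by simp only [commutatorElement_def]; group

theorem exists_restrict {G : Type u} [Group G] [Finite G] (f : MulAut G) {H : Subgroup G}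
    (hH : ∀ x ∈ H, f x ∈ H) : ∃ r : MulAut H, ∀ (i : ℕ) (x : H), ((r ^ i) x : G) = (f ^ i) x := by
  let r : MulAut H := MulEquiv.ofBijective (MonoidHom.mk' (fun x : H => (⟨f x, hH x x.2⟩ : H))
    fun x y => Subtype.ext (map_mul f (x : G) (y : G)))
    (Finite.injective_iff_bijective.mp fun x y h => Subtype.ext (f.injective (congrArg Subtype.val h)))
  refine ⟨r, fun i => ?_⟩
  induction i with
  | zero => exact fun x => rfl
  | succ i ih =>
    intro x
    rw [pow_succ', pow_succ', MulAut.mul_apply, MulAut.mul_apply, ← ih]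
    rfl

theorem fixed_of_step {G : Type u} [Group G] (hP : IsPGroup 2 G) {τ : MulAut G} {m : ℕ} (hm : Odd m)
    (hτ : τ ^ m = 1) {x : G} (h : τ (x⁻¹ * τ x) = x⁻¹ * τ x) : τ x = x := by
  have key : ∀ i : ℕ, (τ ^ i) x = x * (x⁻¹ * τ x) ^ i := by
    intro i
    induction i with
    | zero => simp
    | succ i ih =>
      rw [pow_succ', MulAut.mul_apply, ih, map_mul, map_pow, h, pow_succ', ← mul_assoc x,
        mul_inv_cancel_left]
  have h1 := key m
  rw [hτ, MulAut.one_apply, left_eq_mul] at h1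
  obtain ⟨j, hj⟩ := hP (x⁻¹ * τ x)
  have h2 : orderOf (x⁻¹ * τ x) = 1 :=
    Nat.eq_one_of_dvd_coprimes ((Nat.coprime_two_left.mpr hm).pow_left j)
      (orderOf_dvd_of_pow_eq_one hj) (orderOf_dvd_of_pow_eq_one h1)
  exact (inv_mul_eq_one.mp (orderOf_eq_one_iff.mp h2)).symm

theorem cube_aux : ∀ (N : ℕ) (G : Type u) [Group G] [Finite G], Nat.card G ≤ N → IsPGroup 2 G →
    (∀ x : G, x ^ 2 = 1 → x ∈ center G) → Nat.card {x : G // x ^ 2 = 1} ≤ 4 →
    ∀ (ψ : MulAut G) (k : ℕ), ψ ^ 3 ^ k = 1 → (∀ s : G, s ≠ 1 → s ^ 2 = 1 → ψ s ≠ s) →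
      (∀ s : G, s ^ 2 = 1 → (ψ ^ 3) s = s) → ψ ^ 3 = 1 := by
  intro N
  induction N with
  | zero =>
    intro G _ _ h
    have := Nat.card_pos (α := G)
    omega
  | succ N ih =>
    intro G _ _ hN hP hcen hcard ψ k hψ hmove h3
    classical
    haveI := Fact.mk Nat.prime_two
    set τ := ψ ^ 3 with hτdef
    have hτ : τ ^ 3 ^ k = 1 := by rw [hτdef, ← pow_mul, mul_comm, pow_mul, hψ, one_pow]
    have hodd : Odd (3 ^ k) := (show Odd 3 by decide).pow
    have hτψ : ∀ x : G, τ (ψ x) = ψ (τ x) := fun x => by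
      rw [hτdef, ← MulAut.mul_apply, ← pow_succ, ← MulAut.mul_apply, ← pow_succ']
    have hfpf : ∀ x : G, ψ x = x → x = 1 := by
      intro x hx
      by_contra hx1
      obtain ⟨j, hj⟩ := IsPGroup.iff_orderOf.mp hP x
      have hj0 : j ≠ 0 := fun h => hx1 (orderOf_eq_one_iff.mp (by rw [hj, h, pow_zero]))
      refine hmove (x ^ 2 ^ (j - 1)) (pow_ne_one_of_lt_orderOf (pow_ne_zero _ two_ne_zero)
        (hj ▸ Nat.pow_lt_pow_right one_lt_two (by omega))) ?_ (by rw [map_pow, hx])
      rw [← pow_mul, ← pow_succ, show j - 1 + 1 = j by omega, ← hj, pow_orderOf_eq_one]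
    have hsub : ∀ H : Subgroup G, (∀ x ∈ H, ψ x ∈ H) → H ≠ ⊤ → ∀ x ∈ H, τ x = x := by
      intro H hH hne x hx
      obtain ⟨r, hr⟩ := exists_restrict ψ hH
      have hlt : Nat.card H < Nat.card G := by
        by_contra h
        exact hne (Subgroup.eq_top_of_le_card H (not_lt.mp h))
      have hsq : ∀ {s : H}, s ^ 2 = 1 → (s : G) ^ 2 = 1 := fun {s} h => by
        have := congrArg Subtype.val h
        simpa using this
      have hr3 : r ^ 3 = 1 := by
        refine ih H (by omega) (hP.to_subgroup H) (fun s hs => mem_center_iff.mpr fun t =>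
          Subtype.ext (mem_center_iff.mp (hcen s (hsq hs)) t)) ?_ r k ?_ ?_ ?_
        · refine le_trans (Nat.card_le_card_of_injective
            (fun s : {s : H // s ^ 2 = 1} => (⟨s.1, hsq s.2⟩ : {x : G // x ^ 2 = 1})) ?_) hcard
          intro s t h
          exact Subtype.ext (Subtype.ext (congrArg (fun z : {x : G // x ^ 2 = 1} => (z : G)) h))
        · refine MulEquiv.ext fun s => Subtype.ext ?_
          rw [hr, hψ]; rfl
        · intro s hs hs2 hfix
          refine hmove s (fun h => hs (Subtype.ext h)) (hsq hs2) ?_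
          have h := hr 1 s
          rw [pow_one, pow_one, hfix] at h
          exact h.symm
        · intro s hs2
          exact Subtype.ext (by rw [hr, h3 _ (hsq hs2)])
      have h := hr 3 ⟨x, hx⟩
      rw [hr3] at h
      exact h.symm
    set S := closure (Set.range fun x : G => x⁻¹ * τ x) with hS
    by_cases hStop : S = ⊤
    swap
    · have hSinv : ∀ x ∈ S, ψ x ∈ S := by
        intro x hx
        have hle : S ≤ S.comap (ψ : G →* G) := by
          refine (closure_le _).mpr ?_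
          rintro _ ⟨y, rfl⟩
          refine subset_closure ⟨ψ y, ?_⟩
          show (ψ y)⁻¹ * τ (ψ y) = ψ (y⁻¹ * τ y)
          rw [map_mul, map_inv, hτψ]
        exact hle hx
      exact MulEquiv.ext fun x => fixed_of_step hP hodd hτ (hsub S hSinv hStop _ (subset_closure ⟨x, rfl⟩))
    -- squares generate a proper, hence central, subgroup
    by_cases hGtriv : Nontrivial G
    swap
    · haveI := not_nontrivial_iff_subsingleton.mp hGtriv
      exact MulEquiv.ext fun x => Subsingleton.elim _ _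
    set Q := closure (Set.range fun x : G => x ^ 2) with hQ
    have hQinv : ∀ x ∈ Q, ψ x ∈ Q := by
      intro x hx
      have hle : Q ≤ Q.comap (ψ : G →* G) := by
        refine (closure_le _).mpr ?_
        rintro _ ⟨y, rfl⟩
        exact subset_closure ⟨ψ y, (map_pow ψ y 2).symm⟩
      exact hle hx
    have hQne : Q ≠ ⊤ := by
      obtain ⟨e, he⟩ := IsPGroup.iff_card.mp hP
      have he0 : e ≠ 0 := fun h => by
        have := Finite.one_lt_card (α := G)
        rw [he, h, pow_zero] at this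
        omega
      obtain ⟨M, hM⟩ := Sylow.exists_subgroup_card_pow_prime 2 (n := e - 1)
        (he ▸ pow_dvd_pow 2 (e.sub_le 1))
      have hidx : M.index = 2 := by
        have := M.index_mul_card
        rw [hM, he, show 2 ^ e = 2 * 2 ^ (e - 1) by rw [← pow_succ', Nat.sub_add_cancel (by omega)]] at this
        exact Nat.eq_of_mul_eq_mul_right (by positivity) this
      intro h
      have hle : Q ≤ M := (closure_le _).mpr (by
        rintro _ ⟨y, rfl⟩
        exact Subgroup.sq_mem_of_index_two hidx y)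
      rw [h, top_le_iff] at hle
      rw [hle, index_top] at hidx
      omega
    have hQfix := hsub Q hQinv hQne
    have hQn : ∀ x n : G, n ∈ Q → x * n * x⁻¹ ∈ Q := by
      intro x n hn
      have hle : Q ≤ Q.comap (MulAut.conj x : G →* G) := by
        refine (closure_le _).mpr ?_
        rintro _ ⟨y, rfl⟩
        exact subset_closure ⟨x * y * x⁻¹, by
          show (x * y * x⁻¹) ^ 2 = MulAut.conj x (y ^ 2)
          rw [map_pow]; rfl⟩
      exact hle hn
    have hQcen : ∀ n ∈ Q, n ∈ center G := by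
      intro n hn
      have hle : S ≤ centralizer {n} := by
        refine (closure_le _).mpr ?_
        rintro _ ⟨x, rfl⟩
        rw [SetLike.mem_coe, mem_centralizer_singleton_iff]
        have h := hQfix _ (hQn x n hn)
        rw [map_mul, map_mul, map_inv, hQfix n hn] at h
        calc x⁻¹ * τ x * n = x⁻¹ * (τ x * n * (τ x)⁻¹) * τ x := by group
          _ = x⁻¹ * (x * n * x⁻¹) * τ x := by rw [h]
          _ = n * (x⁻¹ * τ x) := by group
      rw [hStop] at hle
      exact mem_center_iff.mpr fun y => mem_centralizer_singleton_iff.mp (hle (mem_top y))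
    have hsqc : ∀ x : G, x ^ 2 ∈ center G := fun x => hQcen _ (subset_closure ⟨x, rfl⟩)
    have hcomm : ∀ x y : G, ⁅x, y⁆ ∈ center G := by
      intro x y
      have : ⁅x, y⁆ = x ^ 2 * (x⁻¹ * y) ^ 2 * (y⁻¹) ^ 2 := by
        simp only [commutatorElement_def, pow_two]; group
      rw [this]
      exact mul_mem (mul_mem (hsqc x) (hsqc _)) (hsqc _)
    have hcomm2 : ∀ x y : G, ⁅x, y⁆ ^ 2 = 1 := by
      intro x y
      have h := comm_mul_left' (x := x) (y := x) (w := y) (hcomm x y)
      rw [← pow_two, ← pow_two, commutatorElement_eq_one_iff_commute.mpr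
        (show Commute (x ^ 2) y from (mem_center_iff.mp (hsqc x) y).symm)] at h
      exact h.symm
    have hfour : ∀ x y : G, (x * y) ^ 4 = x ^ 4 * y ^ 4 := by
      intro x y
      have hc : Commute (x ^ 2 * y ^ 2) ⁅y, x⁆ := mem_center_iff.mp (hcomm y x) _
      have hd : Commute (x ^ 2) (y ^ 2) := mem_center_iff.mp (hsqc y) _
      rw [show 4 = 2 * 2 from rfl, pow_mul, mul_sq (hcomm y x), hc.mul_pow, hd.mul_pow, hcomm2, mul_one,
        ← pow_mul, ← pow_mul]
    let K : Subgroup G :=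
      { carrier := {x | x ^ 4 = 1}
        one_mem' := one_pow 4
        mul_mem' := fun {a b} (ha : a ^ 4 = 1) (hb : b ^ 4 = 1) => show (a * b) ^ 4 = 1 by
          rw [hfour, ha, hb, one_mul]
        inv_mem' := fun {a} (h : a ^ 4 = 1) => show a⁻¹ ^ 4 = 1 by rw [inv_pow, h, inv_one] }
    by_cases hK : K = ⊤
    swap
    · have hKfix := hsub K (fun x (hx : x ^ 4 = 1) => show (ψ x) ^ 4 = 1 by rw [← map_pow, hx, map_one]) hK
      refine MulEquiv.ext fun x => fixed_of_step hP hodd hτ (hKfix _ ?_)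
      have hQm : x ^ 4 ∈ Q := by
        rw [show 4 = 2 * 2 from rfl, pow_mul]
        exact subset_closure ⟨x ^ 2, rfl⟩
      show (x⁻¹ * τ x) ^ 4 = 1
      rw [hfour, ← map_pow, hQfix _ hQm, inv_pow, inv_mul_cancel]
    -- exponent four: count
    let ω : Subgroup G :=
      { carrier := {x | x ^ 2 = 1}
        one_mem' := one_pow 2
        mul_mem' := fun {a b} (ha : a ^ 2 = 1) (hb : b ^ 2 = 1) => show (a * b) ^ 2 = 1 by
          rw [(show Commute a b from mem_center_iff.mp (hcen b hb) a).mul_pow, ha, hb, mul_one]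
        inv_mem' := fun {a} (h : a ^ 2 = 1) => show a⁻¹ ^ 2 = 1 by rw [inv_pow, h, inv_one] }
    haveI hωn : ω.Normal := ⟨fun z (hz : z ^ 2 = 1) g => by
      rw [mem_center_iff.mp (hcen z hz) g, mul_inv_cancel_right]; exact hz⟩
    have hωinv : ∀ x ∈ ω, ψ x ∈ ω := fun x (hx : x ^ 2 = 1) => show (ψ x) ^ 2 = 1 by
      rw [← map_pow, hx, map_one]
    have hsqω : ∀ x : G, x ^ 2 ∈ ω := fun x => show (x ^ 2) ^ 2 = 1 by
      rw [← pow_mul]; exact (hK.ge (mem_top x) : x ∈ K)
    have hW2 : ∀ w : G ⧸ ω, w * w = 1 := by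
      intro w
      induction w using QuotientGroup.induction_on with
      | _ g => rw [← QuotientGroup.mk_mul, QuotientGroup.eq_one_iff, ← pow_two]; exact hsqω g
    let q : G ⧸ ω → ω := fun w => ⟨(Quotient.out w) ^ 2, hsqω _⟩
    have hq : ∀ x : G, (q (x : G ⧸ ω) : G) = x ^ 2 := by
      intro x
      obtain ⟨z, hz⟩ := QuotientGroup.mk_out_eq_mul ω x
      show (Quotient.out (x : G ⧸ ω)) ^ 2 = _
      rw [hz, (show Commute x z from mem_center_iff.mp (hcen _ z.2) x).mul_pow,
        (z.2 : (z : G) ^ 2 = 1), mul_one]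
    let c : G ⧸ ω → G ⧸ ω → ω := fun a b => (q a * q b)⁻¹ * q (a * b)
    have hc : ∀ x y : G, (c (x : G ⧸ ω) (y : G ⧸ ω) : G) = ⁅y, x⁆ := by
      intro x y
      show (((q (x : G ⧸ ω) * q (y : G ⧸ ω))⁻¹ * q ((x : G ⧸ ω) * (y : G ⧸ ω)) : ω) : G) = _
      rw [← QuotientGroup.mk_mul, Subgroup.coe_mul, Subgroup.coe_inv, Subgroup.coe_mul, hq, hq, hq,
        mul_sq (hcomm y x), ← mul_assoc, inv_mul_cancel, one_mul]
    have hωcard : Nat.card ω ≤ 4 := hcard
    have hWcard : Nat.card (G ⧸ ω) ≤ 16 := by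
      have h := QuadraticCount.card_mul_index_le hW2 (A := ω)
        (fun a => Subtype.ext (show (a : G) * a = 1 by rw [← pow_two]; exact a.2)) (q := q) (c := c)
        (fun x y => (mul_inv_cancel_left _ _).symm) (fun x y w => by
          induction x using QuotientGroup.induction_on with
          | _ a =>
            induction y using QuotientGroup.induction_on with
            | _ b =>
              induction w using QuotientGroup.induction_on with
              | _ d =>
                refine Subtype.ext ?_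
                rw [← QuotientGroup.mk_mul, hc, Subgroup.coe_mul, hc, hc]
                have hinv : ∀ s t : G, ⁅t, s⁆ = ⁅s, t⁆ := fun s t => by
                  rw [← commutatorElement_inv t s]
                  exact (inv_eq_of_mul_eq_one_right (by rw [← pow_two, hcomm2])).symm
                rw [hinv (a * b), hinv a, hinv b]
                exact comm_mul_left' (hcomm b d))
        ⊤ (fun x y => mem_top _) ⊥ (fun v => by
          induction v using QuotientGroup.induction_on with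
          | _ a => rw [mem_bot, QuotientGroup.eq_one_iff, Subtype.ext_iff, hq]; rfl)
      rw [sup_top_eq, index_top, mul_one, index_bot] at h
      exact h.trans (by nlinarith)
    have hmap : ω.map (ψ : G →* G) = ω := by
      refine eq_of_le_of_card_ge ?_ (Subgroup.card_map_of_injective (f := (ψ : G →* G)) ψ.injective).ge
      rintro _ ⟨x, hx, rfl⟩
      exact hωinv x hx
    set f : MulAut (G ⧸ ω) := QuotientGroup.congr ω ω ψ hmap with hf
    have hfmk : ∀ (i : ℕ) (x : G), (⇑f)^[i] (x : G ⧸ ω) = (((ψ ^ i) x : G) : G ⧸ ω) := by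
      intro i
      induction i with
      | zero => exact fun x => rfl
      | succ i ih =>
        intro x
        rw [Function.iterate_succ_apply', ih, pow_succ', MulAut.mul_apply]
        rfl
    have hf1 : ∀ w : G ⧸ ω, f w = w → w = 1 := by
      intro w hw
      induction w using QuotientGroup.induction_on with
      | _ x =>
        have h1 : x⁻¹ * ψ x ∈ ω := by
          have h := hfmk 1 x
          rw [Function.iterate_one, pow_one, hw] at h
          exact QuotientGroup.eq.mp h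
        let g : ω → ω := fun z => ⟨(z : G)⁻¹ * ψ z, mul_mem (inv_mem z.2) (hωinv z z.2)⟩
        have hg : Function.Injective g := by
          intro a b hab
          have h2 : (a : G)⁻¹ * ψ a = (b : G)⁻¹ * ψ b := congrArg Subtype.val hab
          refine Subtype.ext (mul_inv_eq_one.mp (hfpf _ ?_)).symm
          rw [map_mul, map_inv, ← eq_inv_mul_iff_mul_eq.mp h2.symm]
          group
        obtain ⟨z, hz⟩ := Finite.injective_iff_surjective.mp hg ⟨_, h1⟩
        have h3 : (z : G)⁻¹ * ψ z = x⁻¹ * ψ x := congrArg Subtype.val hz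
        rw [QuotientGroup.eq_one_iff]
        have h4 := hfpf (x * (z : G)⁻¹) (by
          rw [map_mul, map_inv, ← eq_inv_mul_iff_mul_eq.mp h3.symm]
          group)
        rw [mul_inv_eq_one.mp h4]
        exact z.2
    -- the orbits of length nine
    have hper : ∀ w : G ⧸ ω, (⇑f)^[3] w ≠ w → Function.minimalPeriod (⇑f) w = 9 := by
      intro w hw
      have hk : Function.IsPeriodicPt (⇑f) (3 ^ k) w := by
        induction w using QuotientGroup.induction_on with
        | _ x =>
          show (⇑f)^[3 ^ k] (x : G ⧸ ω) = _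
          rw [hfmk, hψ]; rfl
      obtain ⟨j, -, hj⟩ := (Nat.dvd_prime_pow Nat.prime_three).mp hk.minimalPeriod_dvd
      have hj2 : 2 ≤ j := by
        by_contra h
        refine hw (Function.IsPeriodicPt.trans_dvd (Function.isPeriodicPt_minimalPeriod (⇑f) w) ?_)
        rw [hj]
        exact (pow_dvd_pow 3 (show j ≤ 1 by omega)).trans (pow_one 3).dvd
      have hle : Function.minimalPeriod (⇑f) w ≤ 16 := by
        refine le_trans ?_ hWcard
        haveI := Fintype.ofFinite (G ⧸ ω)
        rw [Nat.card_eq_fintype_card]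
        have := Finset.card_le_univ ((Finset.range (Function.minimalPeriod (⇑f) w)).image fun i => (⇑f)^[i] w)
        rwa [Finset.card_image_of_injOn (fun a ha b hb h =>
          Function.iterate_injOn_Iio_minimalPeriod (by simpa using ha) (by simpa using hb) h),
          Finset.card_range] at this
      rw [hj] at hle ⊢
      have : j < 3 := by
        by_contra h
        have := Nat.pow_le_pow_right (show 0 < 3 by norm_num) (not_lt.mp h)
        omega
      rw [show j = 2 by omega]; rfl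
    by_cases hall : ∀ w : G ⧸ ω, (⇑f)^[3] w = w
    · refine MulEquiv.ext fun x => fixed_of_step hP hodd hτ (h3 _ ?_)
      have h := hall (x : G ⧸ ω)
      rw [hfmk] at h
      exact QuotientGroup.eq.mp h.symm
    exfalso
    push Not at hall
    obtain ⟨w, hw⟩ := hall
    haveI := Fintype.ofFinite (G ⧸ ω)
    have hcW : Fintype.card (G ⧸ ω) ≤ 16 := by rw [← Nat.card_eq_fintype_card]; exact hWcard
    let O : (G ⧸ ω) → Finset (G ⧸ ω) := fun v => (Finset.range 9).image fun i => (⇑f)^[i] v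
    have hOcard : ∀ v, (⇑f)^[3] v ≠ v → (O v).card = 9 := by
      intro v hv
      rw [Finset.card_image_of_injOn (fun a ha b hb h =>
        Function.iterate_injOn_Iio_minimalPeriod (by rw [hper v hv]; simpa using ha)
          (by rw [hper v hv]; simpa using hb) h), Finset.card_range]
    have hO1 : ∀ v, (⇑f)^[3] v ≠ v → (1 : G ⧸ ω) ∉ O v := by
      intro v hv h
      obtain ⟨i, -, hi⟩ := Finset.mem_image.mp h
      refine hv ?_
      have hv1 : v = 1 := (f.injective.iterate i) (hi.trans (iterate_map_one f i).symm)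
      rw [hv1, iterate_map_one]
    have hOmove : ∀ v, (⇑f)^[3] v ≠ v → ∀ u ∈ O v, (⇑f)^[3] u ≠ u := by
      intro v hv u hu h
      obtain ⟨i, -, rfl⟩ := Finset.mem_image.mp hu
      rw [← Function.iterate_add_apply, add_comm, Function.iterate_add_apply] at h
      exact hv (f.injective.iterate i h)
    have hOdisj : ∀ v, (⇑f)^[3] v ≠ v → v ∉ O w → Disjoint (O v) (O w) := by
      intro v hv hnot
      rw [Finset.disjoint_left]
      intro u hu hu'
      obtain ⟨i, hi, rfl⟩ := Finset.mem_image.mp hu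
      obtain ⟨j, -, hj⟩ := Finset.mem_image.mp hu'
      refine hnot (Finset.mem_image.mpr ⟨(9 - i + j) % 9, Finset.mem_range.mpr (Nat.mod_lt _ (by norm_num)), ?_⟩)
      have h9 : (⇑f)^[9] v = v := hper v hv ▸ Function.iterate_minimalPeriod
      have hmod := Function.iterate_mod_minimalPeriod_eq (f := ⇑f) (x := w) (n := 9 - i + j)
      rw [hper w hw] at hmod
      rw [hmod, Function.iterate_add_apply, hj, ← Function.iterate_add_apply,
        Nat.sub_add_cancel (Finset.mem_range.mp hi).le, h9]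
    have honly : ∀ v, (⇑f)^[3] v ≠ v → v ∈ O w := by
      intro v hv
      by_contra hnot
      have h18 := Finset.card_le_univ (O v ∪ O w)
      rw [Finset.card_union_of_disjoint (hOdisj v hv hnot), hOcard v hv, hOcard w hw] at h18
      omega
    let Fx : Subgroup (G ⧸ ω) :=
      { carrier := {v | (⇑f)^[3] v = v}
        one_mem' := iterate_map_one f 3
        mul_mem' := fun {a b} (ha : (⇑f)^[3] a = a) (hb : (⇑f)^[3] b = b) =>
          show (⇑f)^[3] (a * b) = a * b by rw [iterate_map_mul, ha, hb]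
        inv_mem' := fun {a} (ha : (⇑f)^[3] a = a) => show (⇑f)^[3] a⁻¹ = a⁻¹ by rw [iterate_map_inv, ha] }
    have hFx : Nat.card Fx = Fintype.card (G ⧸ ω) - 9 := by
      rw [Nat.card_eq_fintype_card, Fintype.card_subtype, ← hOcard w hw, ← Finset.card_univ,
        ← Finset.card_sdiff_of_subset (Finset.subset_univ (O w))]
      refine congrArg Finset.card (Finset.ext fun v => ?_)
      simp only [Finset.mem_filter, Finset.mem_univ, true_and, Finset.mem_sdiff]
      exact ⟨fun hv hmem => hOmove w hw v hmem hv, fun hv => by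
        by_contra h; exact hv (honly v h)⟩
    obtain ⟨a, ha⟩ := IsPGroup.iff_card.mp (hP.to_quotient ω)
    rw [Nat.card_eq_fintype_card] at ha
    obtain ⟨b, hb⟩ := IsPGroup.iff_card.mp ((hP.to_quotient ω).to_subgroup Fx)
    rw [hb] at hFx
    have h1 : 10 ≤ Fintype.card (G ⧸ ω) := by
      have := Finset.card_le_univ (insert 1 (O w))
      rw [Finset.card_insert_of_notMem (hO1 w hw), hOcard w hw] at this
      omega
    have ha4 : a = 4 := by
      have h2 : a ≤ 4 := (Nat.pow_le_pow_iff_right one_lt_two).mp (ha ▸ hcW.trans (by norm_num) : 2 ^ a ≤ 2 ^ 4)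
      interval_cases a <;> omega
    rw [ha, ha4] at hFx
    have hb3 : b ≤ 3 := by
      by_contra h
      have := Nat.pow_le_pow_right (show 0 < 2 by norm_num) (not_le.mp h)
      omega
    interval_cases b <;> omega

end Cube

/-- The setting of a rank two group with an automorphism transitive on the involutions gives `Data`. -/
theorem exists_data {T : Type u} [Group T] [Finite T] (hT : IsPGroup 2 T) (h2 : Cfsg.PRankLE 2 2 T)
    (h1 : ¬ Cfsg.PRankLE 2 1 T) (φ : MulAut T)
    (htrans : ∀ s t : T, orderOf s = 2 → orderOf t = 2 → ∃ k : ℕ, (φ ^ k) s = t) : Nonempty (Data T 2) := by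
  classical
  haveI := Fact.mk Nat.prime_two
  have htr : ∀ x y : T, x ≠ 1 → x ^ 2 = 1 → y ≠ 1 → y ^ 2 = 1 → ∃ f : MulAut T, f x = y :=
    fun x y hx hx2 hy hy2 => by
      obtain ⟨k, hk⟩ := htrans x y (orderOf_eq_prime hx2 hx) (orderOf_eq_prime hy2 hy)
      exact ⟨φ ^ k, hk⟩
  haveI : Nontrivial T := by
    by_contra h
    haveI := not_nontrivial_iff_subsingleton.mp h
    exact h1 fun A _ _ => by
      rw [Nat.card_unique]; norm_num
  obtain ⟨hcen, -⟩ := Cfsg.Agent.S3774.result hT htr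
  let ω : Subgroup T :=
    { carrier := {x | x ^ 2 = 1}
      one_mem' := one_pow 2
      mul_mem' := fun {a b} (ha : a ^ 2 = 1) (hb : b ^ 2 = 1) => show (a * b) ^ 2 = 1 by
        rw [(show Commute a b from mem_center_iff.mp (hcen b hb) a).mul_pow, ha, hb, mul_one]
      inv_mem' := fun {a} (h : a ^ 2 = 1) => show a⁻¹ ^ 2 = 1 by rw [inv_pow, h, inv_one] }
  have hω4 : Nat.card ω = 4 := by
    have hle : Nat.card ω ≤ 2 ^ 2 :=
      h2 ω ⟨⟨fun a b => Subtype.ext (mem_center_iff.mp (hcen _ b.2) a)⟩⟩ (fun a ha => ha)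
    obtain ⟨e, he⟩ := IsPGroup.iff_card.mp (hT.to_subgroup ω)
    unfold Cfsg.PRankLE at h1
    push Not at h1
    obtain ⟨A, -, hA2, hA⟩ := h1
    have hAle : Nat.card A ≤ Nat.card ω := Subgroup.card_le_of_le fun a ha => hA2 a ha
    rw [he] at hle hAle ⊢
    have h3 : e ≤ 2 := (Nat.pow_le_pow_iff_right one_lt_two).mp hle
    interval_cases e <;> simp_all <;> omega
  have hcard : Nat.card {x : T // x ^ 2 = 1} = 4 := hω4
  -- `φ` induces a three cycle
  have hne1 : ∀ {s : T} (f : MulAut T), s ≠ 1 → f s ≠ 1 := fun f hs h => hs ((MulEquiv.map_eq_one_iff _).mp h)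
  haveI : Fintype T := Fintype.ofFinite T
  set I : Finset T := (Finset.univ.filter fun x => x ^ 2 = 1).erase 1 with hI
  have hI3 : I.card = 3 := by
    rw [hI, Finset.card_erase_of_mem (by simp), ← Fintype.card_subtype, ← Nat.card_eq_fintype_card, hcard]
  have hmemI : ∀ {s : T}, s ∈ I ↔ s ≠ 1 ∧ s ^ 2 = 1 := fun {s} => by simp [hI]
  have hstep : ∀ s ∈ I, φ s ∈ I := fun s hs => by
    obtain ⟨hs1, hs2⟩ := hmemI.mp hs
    exact hmemI.mpr ⟨hne1 φ hs1, by rw [← map_pow, hs2, map_one]⟩
  have hsucc : ∀ (i : ℕ) (s : T), (φ ^ (i + 1)) s = φ ((φ ^ i) s) := fun i s => by rw [pow_succ']; rfl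
  have horbit : ∀ s ∈ I, ∀ S : Finset T, s ∈ S → (∀ x ∈ S, φ x ∈ S) → I ⊆ S := by
    intro s hs S hsS hS t ht
    obtain ⟨hs1, hs2⟩ := hmemI.mp hs
    obtain ⟨ht1, ht2⟩ := hmemI.mp ht
    obtain ⟨i, rfl⟩ := htrans s t (orderOf_eq_prime hs2 hs1) (orderOf_eq_prime ht2 ht1)
    clear ht ht1 ht2
    induction i with
    | zero => exact hsS
    | succ i ih => rw [hsucc]; exact hS _ ih
  have hmove : ∀ s ∈ I, φ s ≠ s := by
    intro s hs h
    have := Finset.card_le_card (horbit s hs {s} (by simp) (fun x hx => by simp_all))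
    simp [hI3] at this
  have hcube : ∀ s ∈ I, φ (φ (φ s)) = s := by
    intro s hs
    have hs' := hstep s hs
    have h21 : φ (φ s) ≠ s := fun h => by
      have := Finset.card_le_card (horbit s hs {s, φ s} (by simp) (fun x hx => by
        simp only [Finset.mem_insert, Finset.mem_singleton] at hx ⊢
        rcases hx with rfl | rfl
        · exact Or.inr rfl
        · exact Or.inl h))
      rw [hI3, Finset.card_pair (hmove s hs).symm] at this
      omega
    have hsub : ({s, φ s, φ (φ s)} : Finset T) = I := by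
      refine Finset.eq_of_subset_of_card_le (fun x hx => ?_) ?_
      · simp only [Finset.mem_insert, Finset.mem_singleton] at hx
        rcases hx with rfl | rfl | rfl
        exacts [hs, hs', hstep _ hs']
      · rw [hI3, Finset.card_insert_of_notMem (by simp [(hmove s hs).symm, Ne.symm h21]),
          Finset.card_pair (hmove _ hs').symm]
    have hmem := hstep _ (hstep _ hs')
    rw [← hsub] at hmem
    simp only [Finset.mem_insert, Finset.mem_singleton] at hmem
    rcases hmem with h | h | h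
    · exact h
    · exact absurd (φ.injective h) h21
    · exact absurd (φ.injective (φ.injective h)) (hmove s hs)
  have hmod : ∀ s ∈ I, ∀ i : ℕ, (φ ^ i) s = (φ ^ (i % 3)) s := by
    intro s hs i
    induction i using Nat.strong_induction_on with
    | _ i ih =>
      by_cases hi : i < 3
      · rw [Nat.mod_eq_of_lt hi]
      · obtain ⟨j, rfl⟩ : ∃ j, i = j + 3 := ⟨i - 3, by omega⟩
        rw [show (j + 3) % 3 = j % 3 by omega, ← ih j (by omega), pow_add, MulAut.mul_apply,
          show (φ ^ 3) s = φ (φ (φ s)) from rfl, hcube s hs]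
  -- the 3-part of `φ`
  obtain ⟨m, r, hm, hr⟩ := Nat.exists_eq_pow_mul_and_not_dvd (orderOf_pos φ).ne' 3 (by norm_num)
  have hψ : (φ ^ r) ^ 3 ^ m = 1 := by rw [← pow_mul, mul_comm, ← hr, pow_orderOf_eq_one]
  have hψmove : ∀ s : T, s ≠ 1 → s ^ 2 = 1 → (φ ^ r) s ≠ s := by
    intro s hs1 hs2
    have hs := hmemI.mpr ⟨hs1, hs2⟩
    rw [hmod s hs]
    rcases (show r % 3 = 1 ∨ r % 3 = 2 by omega) with h | h <;> rw [h]
    · exact hmove s hs
    · intro h'
      exact hmove s hs (by
        have := congrArg φ h'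
        rw [show φ ((φ ^ 2) s) = φ (φ (φ s)) from rfl, hcube s hs] at this
        exact this.symm)
  have hψ3 : ∀ s : T, s ^ 2 = 1 → ((φ ^ r) ^ 3) s = s := by
    intro s hs2
    by_cases hs1 : s = 1
    · rw [hs1, map_one]
    · rw [← pow_mul, hmod s (hmemI.mpr ⟨hs1, hs2⟩), Nat.mul_mod_left]
      rfl
  have h31 := cube_aux _ T le_rfl hT hcen hcard.le (φ ^ r) m hψ hψmove hψ3
  refine ⟨⟨φ ^ r, le_rfl, hT, hcen, hcard, h31, fun i x hx hfix => ?_⟩⟩
  obtain ⟨j, hj⟩ := IsPGroup.iff_orderOf.mp hT x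
  have hj0 : j ≠ 0 := fun h => hx (orderOf_eq_one_iff.mp (by rw [hj, h, pow_zero]))
  set z := x ^ 2 ^ (j - 1) with hz
  have hz1 : z ≠ 1 := pow_ne_one_of_lt_orderOf (pow_ne_zero _ two_ne_zero)
    (hj ▸ Nat.pow_lt_pow_right one_lt_two (by omega))
  have hz2 : z ^ 2 = 1 := by
    rw [hz, ← pow_mul, ← pow_succ, show j - 1 + 1 = j by omega, ← hj, pow_orderOf_eq_one]
  have hzfix : ((φ ^ r) ^ i) z = z := by rw [hz, map_pow, hfix]
  show 3 ∣ i
  by_contra h3i
  rw [← Nat.mod_add_div i 3, pow_add, pow_mul, h31, one_pow, mul_one] at hzfix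
  rcases (show i % 3 = 1 ∨ i % 3 = 2 by omega) with h | h <;> rw [h] at hzfix
  · rw [pow_one] at hzfix; exact hψmove z hz1 hz2 hzfix
  · refine hψmove z hz1 hz2 ?_
    have := congrArg (φ ^ r) hzfix
    rw [show (φ ^ r) (((φ ^ r) ^ 2) z) = ((φ ^ r) ^ 3) z from rfl, hψ3 z hz2] at this
    exact this.symm

theorem homocyclic {T : Type u} [Group T] [Finite T] (D : Data T 2) (hab : ∀ x y : T, x * y = y * x) :
    ∃ n : ℕ, 1 ≤ n ∧ Nonempty (T ≃* Multiplicative (ZMod (2 ^ n) × ZMod (2 ^ n))) := by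
  classical
  haveI := Fact.mk Nat.prime_two
  letI : CommGroup T := { (inferInstance : Group T) with mul_comm := hab }
  haveI : Nontrivial T := by
    by_contra h
    haveI := not_nontrivial_iff_subsingleton.mp h
    have := D.card_ω
    rw [Nat.card_unique] at this
    norm_num at this
  obtain ⟨x, hx⟩ := Monoid.exists_orderOf_eq_exponent (G := T)
    (Monoid.ExponentExists.of_finite (G := T))
  obtain ⟨e, he⟩ := IsPGroup.iff_orderOf.mp D.isPGroup x
  have hexp : Monoid.exponent T = 2 ^ e := hx ▸ he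
  have he0 : 1 ≤ e := by
    by_contra h
    have h1 : Monoid.exponent T = 1 := by rw [hexp, show e = 0 by omega, pow_zero]
    exact not_subsingleton T (Monoid.exp_eq_one_iff.mp h1)
  have hbound : ∀ i : ℕ, Nat.card {g : T // g ^ 2 ^ i = 1} ≤ 4 ^ i := by
    intro i
    induction i with
    | zero =>
      haveI : Unique {g : T // g ^ 2 ^ 0 = 1} :=
        ⟨⟨⟨1, one_pow _⟩⟩, fun g => Subtype.ext (by simpa using g.2)⟩
      rw [Nat.card_unique]; rfl
    | succ i ih =>
      let Ki : ℕ → Subgroup T := fun i => (powMonoidHom (2 ^ i)).ker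
      let f : Ki (i + 1) →* Ki i := ((powMonoidHom 2).comp (Ki (i + 1)).subtype).codRestrict _ fun g => by
        show ((g : T) ^ 2) ^ 2 ^ i = 1
        rw [← pow_mul, ← pow_succ']
        exact g.2
      have hker : Nat.card f.ker ≤ 4 := by
        refine le_trans (Nat.card_le_card_of_injective
          (fun g : f.ker => (⟨(g.1 : T), congrArg Subtype.val g.2⟩ : {x : T // x ^ 2 = 1})) ?_) D.card_inv.le
        exact fun a b h => Subtype.ext (Subtype.ext (congrArg (fun z : {x : T // x ^ 2 = 1} => z.1) h))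
      have hr : Nat.card f.range ≤ 4 ^ i :=
        (Subgroup.card_le_card_group _).trans ih
      have h := f.ker.card_eq_card_quotient_mul_card_subgroup
      rw [Nat.card_congr (QuotientGroup.quotientKerEquivRange f).toEquiv] at h
      show Nat.card (Ki (i + 1)) ≤ _
      rw [h, pow_succ]
      exact Nat.mul_le_mul hr hker
  have hcardT : Nat.card T ≤ 2 ^ e * 2 ^ e := by
    have h := hbound e
    rw [Nat.card_congr (Equiv.subtypeUnivEquiv fun g => hexp ▸ Monoid.pow_exponent_eq_one g)] at h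
    rwa [show 4 = 2 * 2 from rfl, mul_pow] at h
  set N := 2 ^ e with hN
  set y := D.ξ x with hy
  have hxN : x ^ N = 1 := by rw [← he, pow_orderOf_eq_one]
  have hyN : y ^ N = 1 := by rw [hy, ← map_pow, hxN, map_one]
  haveI : NeZero N := ⟨pow_ne_zero _ two_ne_zero⟩
  let f : Multiplicative (ZMod N × ZMod N) →* T :=
    MonoidHom.mk' (fun p => x ^ (Multiplicative.toAdd p).1.val * y ^ (Multiplicative.toAdd p).2.val)
      fun p p' => by
        have hadd : ∀ (g : T), g ^ N = 1 → ∀ a b : ZMod N, g ^ (a + b).val = g ^ a.val * g ^ b.val := by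
          intro g hg a b
          rw [ZMod.val_add, ← pow_mod_orderOf g ((a.val + b.val) % N), Nat.mod_mod_of_dvd _
            (orderOf_dvd_of_pow_eq_one hg), pow_mod_orderOf, pow_add]
        show x ^ ((Multiplicative.toAdd p).1 + (Multiplicative.toAdd p').1).val *
          y ^ ((Multiplicative.toAdd p).2 + (Multiplicative.toAdd p').2).val = _
        rw [hadd x hxN, hadd y hyN, mul_mul_mul_comm]
  have hfinj : Function.Injective f := by
    rw [← MonoidHom.ker_eq_bot_iff, eq_bot_iff]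
    intro p hp
    have hp' : x ^ (Multiplicative.toAdd p).1.val * y ^ (Multiplicative.toAdd p).2.val = 1 := hp
    have hdis : ∀ a b : ℕ, x ^ a * y ^ b = 1 → x ^ a = 1 := by
      intro a b hab'
      by_contra hne
      set g := x ^ a with hg
      obtain ⟨j, hj⟩ := IsPGroup.iff_orderOf.mp D.isPGroup g
      have hj0 : j ≠ 0 := fun h => hne (orderOf_eq_one_iff.mp (by rw [hj, h, pow_zero]))
      set z := g ^ 2 ^ (j - 1) with hz
      have hz1 : z ≠ 1 := pow_ne_one_of_lt_orderOf (pow_ne_zero _ two_ne_zero)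
        (hj ▸ Nat.pow_lt_pow_right one_lt_two (by omega))
      have hz2 : z ^ 2 = 1 := by
        rw [hz, ← pow_mul, ← pow_succ, show j - 1 + 1 = j by omega, ← hj, pow_orderOf_eq_one]
      -- every involution of a cyclic group is its unique one
      have huniq : ∀ (w : T), orderOf w = 2 ^ e → ∀ u ∈ zpowers w, u ≠ 1 → u ^ 2 = 1 → u = w ^ 2 ^ (e - 1) := by
        intro w hw u hu hu1 hu2
        obtain ⟨c, rfl⟩ := (isOfFinOrder_of_finite w).mem_zpowers_iff_mem_range_orderOf.mp hu |>
          fun h => Finset.mem_image.mp h |> fun ⟨c, _, h⟩ => (⟨c, h⟩ : ∃ c : ℕ, w ^ c = u)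
        rw [← pow_mul] at hu2
        have hd := orderOf_dvd_of_pow_eq_one hu2
        rw [hw, ← Nat.sub_add_cancel he0, pow_succ] at hd
        obtain ⟨d, rfl⟩ := Nat.dvd_of_mul_dvd_mul_right two_pos hd
        rcases Nat.even_or_odd d with ⟨d', rfl⟩ | ⟨d', rfl⟩
        · exfalso
          refine hu1 (orderOf_dvd_iff_pow_eq_one.mp ⟨d', ?_⟩)
          rw [hw]
          have : 2 ^ e = 2 ^ (e - 1) * 2 := by rw [← pow_succ, Nat.sub_add_cancel he0]
          rw [this]; ring
        · rw [show 2 ^ (e - 1) * (2 * d' + 1) = 2 ^ e * d' + 2 ^ (e - 1) by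
            have : 2 ^ e = 2 ^ (e - 1) * 2 := by rw [← pow_succ, Nat.sub_add_cancel he0]
            rw [this]; ring, pow_add, pow_mul, ← hw, pow_orderOf_eq_one, one_pow, one_mul]
      have hyo : orderOf y = 2 ^ e := by rw [hy, MulEquiv.orderOf_eq, he]
      have hz_x : z = x ^ 2 ^ (e - 1) := huniq x he z
        (by rw [hz, hg, ← pow_mul]; exact npow_mem_zpowers x _) hz1 hz2
      have hz_y : z = y ^ 2 ^ (e - 1) := huniq y hyo z (by
        rw [hz, eq_inv_of_mul_eq_one_left hab']
        exact pow_mem (inv_mem (npow_mem_zpowers y b)) _) hz1 hz2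
      have hfix : (D.ξ ^ 1) z = z := by
        conv_lhs => rw [hz_x]
        rw [pow_one, map_pow, ← hy, ← hz_y]
      have := D.fpf 1 z hz1 hfix
      norm_num at this
    have hxa := hdis _ _ hp'
    rw [hxa, one_mul] at hp'
    have ha := orderOf_dvd_of_pow_eq_one hxa
    have hb := orderOf_dvd_of_pow_eq_one hp'
    rw [he] at ha
    rw [hy, MulEquiv.orderOf_eq, he] at hb
    have ha0 := Nat.eq_zero_of_dvd_of_lt ha (ZMod.val_lt _)
    have hb0 := Nat.eq_zero_of_dvd_of_lt hb (ZMod.val_lt _)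
    rw [mem_bot]
    exact Multiplicative.toAdd.injective (Prod.ext ((ZMod.val_eq_zero _).mp ha0) ((ZMod.val_eq_zero _).mp hb0))
  refine ⟨e, he0, ⟨(MulEquiv.ofBijective f (Function.Injective.bijective_of_nat_card_le hfinj ?_)).symm⟩⟩
  rw [Nat.card_congr Multiplicative.toAdd, Nat.card_prod, Nat.card_zmod]
  exact hcardT

/-! ### The nonabelian group -/

theorem card_insert_le {G : Type u} [Group G] [Finite G] {S : Set G} {x : G} (h2 : x ^ 2 ∈ closure S)
    (hc : ∀ s ∈ S, ⁅x, s⁆ ∈ closure S) :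
    Nat.card (closure (insert x S)) ≤ 2 * Nat.card (closure S) := by
  classical
  set H := closure S with hH
  have hnorm : ∀ h ∈ H, x * h * x⁻¹ ∈ H := by
    intro h hh
    have hle : H ≤ H.comap (MulAut.conj x : G →* G) := by
      refine (closure_le _).mpr fun s hs => ?_
      show x * s * x⁻¹ ∈ H
      have := mul_mem (hc s hs) (subset_closure hs : s ∈ H)
      rwa [commutatorElement_def, inv_mul_cancel_right] at this
    exact hle hh
  have hnorm' : ∀ h ∈ H, x⁻¹ * h * x ∈ H := by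
    intro h hh
    have h1 : x⁻¹ * h * x = (x ^ 2)⁻¹ * (x * h * x⁻¹) * x ^ 2 := by rw [pow_two]; group
    rw [h1]
    exact mul_mem (mul_mem (inv_mem h2) (hnorm h hh)) h2
  have hmul : ∀ {h k : G}, h ∈ H → k ∈ H → h * x * (k * x) ∈ H := fun {h k} hh hk => by
    have : h * x * (k * x) = h * (x * k * x⁻¹) * x ^ 2 := by rw [pow_two]; group
    rw [this]
    exact mul_mem (mul_mem hh (hnorm k hk)) h2
  let K : Subgroup G :=
    { carrier := {g | g ∈ H ∨ ∃ h ∈ H, g = h * x}
      one_mem' := Or.inl (one_mem H)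
      mul_mem' := by
        rintro a b (ha | ⟨h, hh, rfl⟩) (hb | ⟨k, hk, rfl⟩)
        · exact Or.inl (mul_mem ha hb)
        · exact Or.inr ⟨a * k, mul_mem ha hk, by group⟩
        · exact Or.inr ⟨h * (x * b * x⁻¹), mul_mem hh (hnorm b hb), by group⟩
        · exact Or.inl (hmul hh hk)
      inv_mem' := by
        rintro a (ha | ⟨h, hh, rfl⟩)
        · exact Or.inl (inv_mem ha)
        · refine Or.inr ⟨x⁻¹ * h⁻¹ * x * (x ^ 2)⁻¹, mul_mem (hnorm' _ (inv_mem hh)) (inv_mem h2), ?_⟩
          rw [pow_two]; group }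
  have hle : closure (insert x S) ≤ K := (closure_le _).mpr (by
    rintro g (rfl | hg)
    · exact Or.inr ⟨1, one_mem H, (one_mul _).symm⟩
    · exact Or.inl (subset_closure hg))
  refine (Subgroup.card_le_of_le hle).trans ?_
  have hsurj : Function.Surjective (fun p : Bool × H =>
      (if p.1 then ⟨p.2, Or.inl p.2.2⟩ else ⟨p.2 * x, Or.inr ⟨p.2, p.2.2, rfl⟩⟩ : K)) := by
    rintro ⟨g, hg | ⟨h, hh, rfl⟩⟩
    · exact ⟨(true, ⟨g, hg⟩), rfl⟩
    · exact ⟨(false, ⟨h, hh⟩), rfl⟩
  refine (Nat.card_le_card_of_surjective _ hsurj).trans ?_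
  rw [Nat.card_prod, show Nat.card Bool = 2 by simp]

/-- The defining relations of the nonabelian group of order 64. -/
structure Gens {T : Type u} [Group T] (z z' a a' b b' : T) : Prop where
  top : closure ({b', b, a', a, z', z} : Set T) = ⊤
  hz : z ^ 2 = 1
  hz' : z' ^ 2 = 1
  cz : z ∈ center T
  cz' : z' ∈ center T
  ha : a ^ 2 = z
  ha' : a' ^ 2 = z'
  hb : b ^ 2 = z
  hb' : b' ^ 2 = z'
  haa : ⁅a', a⁆ = 1
  hba : ⁅b, a⁆ = z'
  hba' : ⁅b, a'⁆ = z
  hb'a : ⁅b', a⁆ = z
  hb'a' : ⁅b', a'⁆ = z * z'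
  hb'b : ⁅b', b⁆ = 1

theorem exists_gens {T : Type u} [Group T] [Finite T] (D : Data T 2) (hna : ¬ IsMulCommutative T)
    (hcard : Nat.card T = 64) : ∃ z z' a a' b b' : T, Gens z z' a a' b b' := by
  classical
  have hsq := higman D hna
  have hcom := D.commutator_mem_of_sq hsq
  have hcen : ∀ x y : T, ⁅x, y⁆ ∈ center T := fun x y => D.ω_le_center (hcom x y)
  have hcs : ∀ x y : T, ⁅x, y⁆ = ⁅y, x⁆ := fun x y => by
    rw [← commutatorElement_inv y x]
    exact inv_eq_of_mul_eq_one_right (by rw [← pow_two]; exact hcom y x)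
  have hmr : ∀ x y w : T, ⁅w, x * y⁆ = ⁅w, x⁆ * ⁅w, y⁆ := fun x y w => by
    rw [hcs w (x * y), hcs w x, hcs w y, comm_mul_left' (hcen y w)]
  have hx3 : ∀ x : T, D.ξ (D.ξ (D.ξ x)) = x := fun x => by
    have h := congrArg (fun f : MulAut T => f x) D.order
    exact h
  have hfix : ∀ x : T, D.ξ x = x → x = 1 := fun x hx => by
    by_contra h
    have := D.fpf 1 x h (by rw [pow_one]; exact hx)
    norm_num at this
  haveI := D.ω_normal
  -- `1 + ξ + ξ²` vanishes on the quotient
  have hsum : ∀ x : T, x * D.ξ x * D.ξ (D.ξ x) ∈ D.ω := by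
    intro x
    set y := x * D.ξ x * D.ξ (D.ξ x) with hy
    have h1 : y⁻¹ * D.ξ y ∈ D.ω := by
      have : D.ξ y = x⁻¹ * y * x := by
        rw [hy, map_mul, map_mul, hx3]; group
      rw [this, show y⁻¹ * (x⁻¹ * y * x) = ⁅y⁻¹, x⁻¹⁆ by rw [commutatorElement_def]; group]
      exact hcom _ _
    let g : D.ω → D.ω := fun w => ⟨(w : T)⁻¹ * D.ξ w, mul_mem (inv_mem w.2) (D.ω_inv w w.2)⟩
    have hg : Function.Injective g := by
      intro p q hpq
      have h2 : (p : T)⁻¹ * D.ξ p = (q : T)⁻¹ * D.ξ q := congrArg Subtype.val hpq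
      refine Subtype.ext (mul_inv_eq_one.mp (hfix _ ?_)).symm
      rw [map_mul, map_inv, ← eq_inv_mul_iff_mul_eq.mp h2.symm]
      group
    obtain ⟨w, hw⟩ := Finite.injective_iff_surjective.mp hg ⟨_, h1⟩
    have h3 : (w : T)⁻¹ * D.ξ w = y⁻¹ * D.ξ y := congrArg Subtype.val hw
    have h4 := hfix (y * (w : T)⁻¹) (by
      rw [map_mul, map_inv, ← eq_inv_mul_iff_mul_eq.mp h3.symm]; group)
    rw [mul_inv_eq_one.mp h4]
    exact w.2
  have hsum1 : ∀ w ∈ D.ω, D.ξ (D.ξ w) = w * D.ξ w := by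
    intro w hw
    have hc : w * D.ξ w * D.ξ (D.ξ w) = 1 := hfix _ (by
      rw [map_mul, map_mul, hx3]
      exact (mem_center_iff.mp (D.ω_le_center hw) _).trans (by group))
    have hinv : (w * D.ξ w) * (w * D.ξ w) = 1 := by
      rw [← pow_two]; exact mul_mem hw (D.ω_inv w hw)
    exact mul_left_cancel (hc.trans hinv.symm)
  -- three involutions
  have hlist : ∀ z ∈ D.ω, z ≠ 1 → ∀ w ∈ D.ω, w = 1 ∨ w = z ∨ w = D.ξ z ∨ w = D.ξ (D.ξ z) := by
    intro z hz hz1 w hw
    by_cases hw1 : w = 1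
    · exact Or.inl hw1
    obtain ⟨i, hi⟩ := D.trans hz1 hz hw1 hw
    right
    rw [← hi, ← Nat.mod_add_div i 3, pow_add, pow_mul, show D.ξ ^ 3 = 1 from D.order, one_pow, mul_one]
    rcases (show i % 3 = 0 ∨ i % 3 = 1 ∨ i % 3 = 2 by omega) with h | h | h <;> rw [h]
    · exact Or.inl rfl
    · exact Or.inr (Or.inl (by rw [pow_one]))
    · exact Or.inr (Or.inr rfl)
  -- first pair
  have hωne : D.ω ≠ ⊤ := fun h => by
    have := D.card_ω; rw [h, card_top, hcard] at this; norm_num at this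
  obtain ⟨a, -, ha0⟩ := SetLike.exists_of_lt (lt_top_iff_ne_top.mpr hωne)
  set z := a ^ 2 with hz
  have hzω : z ∈ D.ω := hsq a
  have hz1 : z ≠ 1 := fun h => ha0 h
  set L := closure ({D.ξ a, a, D.ξ z, z} : Set T) with hL
  have hzs : ({z, D.ξ z} : Set T) ⊆ D.ω := by
    rintro w (rfl | rfl)
    exacts [hzω, D.ω_inv z hzω]
  have hωL : ∀ {S : Set T}, z ∈ S → D.ξ z ∈ S → D.ω ≤ closure S := by
    intro S h1 h2 w hw
    rcases hlist z hzω hz1 w hw with rfl | rfl | rfl | rfl
    · exact one_mem _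
    · exact subset_closure h1
    · exact subset_closure h2
    · rw [hsum1 z hzω]; exact mul_mem (subset_closure h1) (subset_closure h2)
  have hLω : D.ω ≤ L := hωL (by simp) (by simp)
  have hclinv : ∀ {S : Set T}, (∀ s ∈ S, D.ξ s ∈ closure S) → D.Inv (closure S) := by
    intro S hS x hx
    have hle : closure S ≤ (closure S).comap (D.ξ : T →* T) := (closure_le _).mpr hS
    exact hle hx
  have hsum' : ∀ (x : T) {H : Subgroup T}, D.ω ≤ H → x ∈ H → D.ξ x ∈ H → D.ξ (D.ξ x) ∈ H := by
    intro x H hωH hx hx'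
    have h1 : D.ξ (D.ξ x) = (x * D.ξ x)⁻¹ * (x * D.ξ x * D.ξ (D.ξ x)) := by group
    rw [h1]
    exact mul_mem (inv_mem (mul_mem hx hx')) (hωH (hsum x))
  have hLinv : D.Inv L := hclinv (by
    intro s hs
    simp only [Set.mem_insert_iff, Set.mem_singleton_iff] at hs
    rcases hs with rfl | rfl | rfl | rfl
    · exact hsum' a hLω (subset_closure (by simp)) (subset_closure (by simp))
    · exact subset_closure (by simp)
    · exact hLω (D.ω_inv _ (D.ω_inv _ hzω))
    · exact subset_closure (by simp))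
  have haL : a ∈ L := subset_closure (by simp)
  have ha'L : D.ξ a ∈ L := subset_closure (by simp)
  have hcom' : ⁅D.ξ a, a⁆ = 1 := by
    have h1 : (a * D.ξ a) ^ 2 = z * D.ξ z * ⁅D.ξ a, a⁆ := by rw [mul_sq (hcen _ _), hz, map_pow]
    have h2 : (a * D.ξ a) ^ 2 = D.ξ (D.ξ z) := by
      obtain ⟨w, hw, hwe⟩ : ∃ w ∈ D.ω, a * D.ξ a = w * (D.ξ (D.ξ a))⁻¹ := ⟨_, hsum a, by group⟩
      rw [hwe, (show Commute w (D.ξ (D.ξ a))⁻¹ from (mem_center_iff.mp (D.ω_le_center hw) _).symm).mul_pow,
        (hw : w ^ 2 = 1), one_mul, inv_pow, ← map_pow, ← map_pow, ← hz]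
      refine inv_eq_of_mul_eq_one_right ?_
      rw [← pow_two]; exact D.ω_inv _ (D.ω_inv _ hzω)
    rw [h2, hsum1 z hzω, left_eq_mul] at h1
    exact h1
  have hzc : ∀ w ∈ D.ω, ∀ g : T, ⁅w, g⁆ = 1 := fun w hw g =>
    commutatorElement_eq_one_iff_commute.mpr (mem_center_iff.mp (D.ω_le_center hw) g).symm
  have hL16 : Nat.card L ≤ 16 := by
    have c0 : Nat.card (closure (∅ : Set T)) ≤ 1 := by rw [Subgroup.closure_empty, card_bot]
    have c1 : Nat.card (closure (insert z ∅ : Set T)) ≤ 2 :=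
      (card_insert_le (show z ^ 2 ∈ _ by rw [(hzω : z ^ 2 = 1)]; exact one_mem _)
        (fun s hs => absurd hs (Set.notMem_empty s))).trans (Nat.mul_le_mul_left 2 c0)
    have c2 : Nat.card (closure (insert (D.ξ z) (insert z ∅) : Set T)) ≤ 4 :=
      (card_insert_le (show D.ξ z ^ 2 ∈ _ by rw [(D.ω_inv z hzω : D.ξ z ^ 2 = 1)]; exact one_mem _)
        (fun s _ => by rw [hzc _ (D.ω_inv z hzω)]; exact one_mem _)).trans (Nat.mul_le_mul_left 2 c1)
    have hω2 : D.ω ≤ closure (insert (D.ξ z) (insert z ∅) : Set T) := hωL (by simp) (by simp)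
    have c3 : Nat.card (closure (insert a (insert (D.ξ z) (insert z ∅)) : Set T)) ≤ 8 :=
      (card_insert_le (hω2 (hsq a)) (fun s _ => hω2 (hcom _ _))).trans (Nat.mul_le_mul_left 2 c2)
    have hω3 : D.ω ≤ closure (insert a (insert (D.ξ z) (insert z ∅)) : Set T) := hωL (by simp) (by simp)
    have c4 := (card_insert_le (x := D.ξ a) (S := insert a (insert (D.ξ z) (insert z ∅)))
      (hω3 (hsq _)) (fun s _ => hω3 (hcom _ _))).trans (Nat.mul_le_mul_left 2 c3)
    rw [hL]
    simpa [insert_empty_eq] using c4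
  obtain ⟨x, hxL⟩ : ∃ x : T, x ∉ L := by
    by_contra h
    push Not at h
    rw [show L = ⊤ from eq_top_iff.mpr fun g _ => h g, card_top, hcard] at hL16
    omega
  -- second pair
  obtain ⟨b₀, hb₀L, hb₀⟩ : ∃ b : T, b ∉ L ∧ b ^ 2 = z := by
    obtain ⟨i, hi⟩ := D.trans (show x ^ 2 ≠ 1 from fun h => hxL (hLω h)) (hsq x) hz1 hzω
    refine ⟨(D.ξ ^ i) x, fun h => hxL ?_, by rw [← map_pow, hi]⟩
    have h3 : D.ξ ^ (3 * i) = 1 := by rw [pow_mul, show D.ξ ^ 3 = 1 from D.order, one_pow]
    have h' := D.pow_inv hLinv (2 * i) _ h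
    rwa [← MulAut.mul_apply, ← pow_add, show 2 * i + i = 3 * i by ring, h3] at h'
  have key : ∀ b : T, b ^ 2 = z → ⁅b, a⁆ = D.ξ z → b ∉ L →
      Gens z (D.ξ z) a (D.ξ a) b (D.ξ b) := by
    intro b hb hba hbL
    have hbb : ⁅D.ξ b, b⁆ = 1 := by
      have h1 : (b * D.ξ b) ^ 2 = z * D.ξ z * ⁅D.ξ b, b⁆ := by rw [mul_sq (hcen _ _), hb, ← map_pow, hb]
      have h2 : (b * D.ξ b) ^ 2 = D.ξ (D.ξ z) := by
        obtain ⟨w, hw, hwe⟩ : ∃ w ∈ D.ω, b * D.ξ b = w * (D.ξ (D.ξ b))⁻¹ := ⟨_, hsum b, by group⟩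
        rw [hwe, (show Commute w (D.ξ (D.ξ b))⁻¹ from (mem_center_iff.mp (D.ω_le_center hw) _).symm).mul_pow,
          (hw : w ^ 2 = 1), one_mul, inv_pow, ← map_pow, ← map_pow, hb]
        refine inv_eq_of_mul_eq_one_right ?_
        rw [← pow_two]; exact D.ω_inv _ (D.ω_inv _ hzω)
      rw [h2, hsum1 z hzω, left_eq_mul] at h1
      exact h1
    -- the mixed commutators
    have hmapc : ∀ g h : T, D.ξ ⁅g, h⁆ = ⁅D.ξ g, D.ξ h⁆ := fun g h => map_commutatorElement (D.ξ : T →* T) g h
    have hzero : ∀ (g h : T), ⁅g, h⁆ * ⁅g, D.ξ h⁆ * ⁅g, D.ξ (D.ξ h)⁆ = 1 := fun g h => by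
      rw [← hmr, ← hmr, hcs]
      exact hzc _ (hsum h) g
    set p := ⁅D.ξ b, a⁆ with hp
    set q := ⁅b, D.ξ a⁆ with hq
    have hpp : ⁅D.ξ b, D.ξ a⁆ = D.ξ (D.ξ z) := by rw [← hmapc, hba]
    -- rows of the table
    have e1 : ⁅b, D.ξ (D.ξ a)⁆ = (D.ξ z * q)⁻¹ := eq_inv_of_mul_eq_one_right (by
      have := hzero b a; rwa [hba] at this)
    have e2 : D.ξ q = ⁅D.ξ b, D.ξ (D.ξ a)⁆ := hmapc _ _
    have e3 : ⁅D.ξ b, D.ξ (D.ξ a)⁆ = (p * D.ξ (D.ξ z))⁻¹ := eq_inv_of_mul_eq_one_right (by
      have := hzero (D.ξ b) a; rwa [← hp, hpp] at this)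
    have e4 : D.ξ p = ⁅D.ξ (D.ξ b), D.ξ a⁆ := hmapc _ _
    have e5 : ⁅D.ξ (D.ξ b), D.ξ a⁆ = (q * D.ξ (D.ξ z))⁻¹ := eq_inv_of_mul_eq_one_right (by
      have := hzero (D.ξ a) b
      rw [hcs (D.ξ a) b, hcs (D.ξ a) (D.ξ b), hcs (D.ξ a) (D.ξ (D.ξ b)), hpp, ← hq] at this
      exact this)
    have hp' : p ∈ D.ω := hcom _ _
    have hq' : q ∈ D.ω := hcom _ _
    have hinv : ∀ w ∈ D.ω, w⁻¹ = w := fun w (hw : w ^ 2 = 1) =>
      inv_eq_of_mul_eq_one_right (by rw [← pow_two, hw])
    have hz'' := D.ω_inv _ (D.ω_inv _ hzω)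
    have f1 : D.ξ q = p * D.ξ (D.ξ z) := by rw [e2, e3, hinv _ (mul_mem hp' hz'')]
    have f2 : D.ξ p = q * D.ξ (D.ξ z) := by rw [e4, e5, hinv _ (mul_mem hq' hz'')]
    have f3 : D.ξ (D.ξ q) = q * D.ξ (D.ξ z) * z := by rw [f1, map_mul, f2, hx3]
    rw [hsum1 q hq', f1] at f3
    have f4 : p = z := by
      have h5 : q * (p * D.ξ (D.ξ z)) = q * (D.ξ (D.ξ z) * z) := by rw [f3, mul_assoc]
      have h6 := mul_left_cancel h5
      rw [← mem_center_iff.mp (D.ω_le_center hz'') z] at h6
      exact mul_right_cancel h6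
    have f5 : q = z := by
      rw [f4] at f2
      have h5 : q = D.ξ z * (D.ξ (D.ξ z))⁻¹ := eq_mul_inv_iff_mul_eq.mpr f2.symm
      rw [h5, hinv _ hz'', hsum1 z hzω, mem_center_iff.mp (D.ω_le_center (D.ω_inv _ hzω)) z, ← mul_assoc,
        ← pow_two, (D.ω_inv _ hzω : D.ξ z ^ 2 = 1), one_mul]
    refine ⟨?_, hzω, D.ω_inv _ hzω, D.ω_le_center hzω, D.ω_le_center (D.ω_inv _ hzω), rfl,
      by rw [← map_pow, ← hz], hb, by rw [← map_pow, hb], hcom', hba, f5, f4, hpp.trans (hsum1 z hzω), hbb⟩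
    -- generation
    set M := closure ({D.ξ b, b, D.ξ a, a, D.ξ z, z} : Set T) with hM
    have hωM : D.ω ≤ M := hωL (by simp) (by simp)
    have hMinv : D.Inv M := hclinv (by
      intro s hs
      simp only [Set.mem_insert_iff, Set.mem_singleton_iff] at hs
      rcases hs with rfl | rfl | rfl | rfl | rfl | rfl
      · exact hsum' b hωM (subset_closure (by simp)) (subset_closure (by simp))
      · exact subset_closure (by simp)
      · exact hsum' a hωM (subset_closure (by simp)) (subset_closure (by simp))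
      · exact subset_closure (by simp)
      · exact hωM (D.ω_inv _ (D.ω_inv _ hzω))
      · exact subset_closure (by simp))
    have hLM : L < M := by
      refine SetLike.lt_iff_le_and_exists.mpr ⟨closure_mono (fun s hs => ?_), b, subset_closure (by simp), hbL⟩
      simp only [Set.mem_insert_iff, Set.mem_singleton_iff] at hs ⊢
      tauto
    have hωlt : D.ω < L := SetLike.lt_iff_le_and_exists.mpr ⟨hLω, a, haL, ha0⟩
    have hlt : ∀ {H K : Subgroup T}, H < K → Nat.card H < Nat.card K := fun {H K} h => by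
      by_contra hc
      exact h.ne (Subgroup.eq_of_le_of_card_ge h.le (not_lt.mp hc))
    obtain ⟨i, hi⟩ := D.card_pow hLinv
    obtain ⟨j, hj⟩ := D.card_pow hMinv
    have h1 := hlt hωlt
    have h2 := hlt hLM
    rw [D.card_ω, hi] at h1
    rw [hi, hj] at h2
    norm_num at h1 h2
    have hi1 : 2 ≤ i := by
      by_contra hc
      have := Nat.pow_le_pow_right (show 0 < 4 by norm_num) (show i ≤ 1 by omega)
      norm_num at this; omega
    have hij : i < j := (Nat.pow_lt_pow_iff_right (by norm_num)).mp h2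
    refine Subgroup.eq_top_of_le_card M ?_
    rw [hcard, hj]
    calc 64 = 4 ^ 3 := rfl
      _ ≤ (2 ^ 2) ^ j := Nat.pow_le_pow_right (by norm_num) (by omega)
  rcases hlist z hzω hz1 _ (hcom b₀ a) with h | h | h | h
  · -- commuting lifts
    exfalso
    refine hb₀L ?_
    have h1 : (b₀ * a) ^ 2 = 1 := by
      rw [mul_sq (hcen _ _), hb₀, ← hz, hcs a b₀, h, mul_one, ← pow_two]
      exact hzω
    have h2 : b₀ * a ∈ L := hLω h1
    simpa using mul_mem h2 (inv_mem haL)
  · exfalso
    refine hb₀L ?_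
    -- then the product of `ξ b₀` and `a` would be an involution
    have hzero : ⁅D.ξ b₀, a⁆ * ⁅D.ξ b₀, D.ξ a⁆ * ⁅D.ξ b₀, D.ξ (D.ξ a)⁆ = 1 := by
      rw [← hmr, ← hmr, hcs]
      exact hzc _ (hsum a) _
    have hzero' : ⁅b₀, a⁆ * ⁅b₀, D.ξ a⁆ * ⁅b₀, D.ξ (D.ξ a)⁆ = 1 := by
      rw [← hmr, ← hmr, hcs]
      exact hzc _ (hsum a) _
    have hmapc : ∀ g h : T, D.ξ ⁅g, h⁆ = ⁅D.ξ g, D.ξ h⁆ := fun g h => map_commutatorElement (D.ξ : T →* T) g h
    have hinv : ∀ w ∈ D.ω, w⁻¹ = w := fun w (hw : w ^ 2 = 1) =>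
      inv_eq_of_mul_eq_one_right (by rw [← pow_two, hw])
    set p := ⁅D.ξ b₀, a⁆ with hp
    set q := ⁅b₀, D.ξ a⁆ with hq
    have hzero'' : ⁅D.ξ a, b₀⁆ * ⁅D.ξ a, D.ξ b₀⁆ * ⁅D.ξ a, D.ξ (D.ξ b₀)⁆ = 1 := by
      rw [← hmr, ← hmr, hcs]
      exact hzc _ (hsum b₀) _
    have hpp : ⁅D.ξ b₀, D.ξ a⁆ = D.ξ z := by rw [← hmapc, h]
    have f1 : D.ξ q = p * D.ξ z := by
      rw [hq, hmapc, eq_inv_of_mul_eq_one_right hzero, hpp,
        hinv _ (mul_mem (hcom _ _) (D.ω_inv _ hzω))]
    have f2 : D.ξ p = q * D.ξ z := by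
      rw [hp, hmapc, hcs, eq_inv_of_mul_eq_one_right hzero'', hcs (D.ξ a), hcs (D.ξ a), hpp,
        hinv _ (mul_mem (hcom _ _) (D.ω_inv _ hzω))]
    have f3 : D.ξ (D.ξ q) = q * D.ξ z * D.ξ (D.ξ z) := by rw [f1, map_mul, f2]
    rw [hsum1 q (hcom _ _), f1] at f3
    have f4 : p = D.ξ (D.ξ z) := by
      have h5 : q * (p * D.ξ z) = q * (D.ξ z * D.ξ (D.ξ z)) := by rw [f3, mul_assoc]
      have h6 := mul_left_cancel h5
      rw [mem_center_iff.mp (D.ω_le_center (D.ω_inv _ (D.ω_inv _ hzω))) (D.ξ z)] at h6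
      exact mul_right_cancel h6
    have h1 : (D.ξ b₀ * a) ^ 2 = 1 := by
      rw [mul_sq (hcen _ _), ← map_pow, hb₀, ← hz, hcs a, ← hp, f4, hsum1 z hzω,
        mem_center_iff.mp (D.ω_le_center (D.ω_inv _ hzω)) z, ← pow_two]
      exact mul_mem (D.ω_inv _ hzω) hzω |> fun h => by
        rw [← mem_center_iff.mp (D.ω_le_center (D.ω_inv _ hzω)) z] at h ⊢
        exact h
    have h2 : D.ξ b₀ ∈ L := by simpa using mul_mem (hLω h1 : D.ξ b₀ * a ∈ L) (inv_mem haL)
    simpa [hx3] using hLinv _ (hLinv _ h2)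
  · exact ⟨_, _, _, _, _, _, key b₀ hb₀ h hb₀L⟩
  · refine ⟨_, _, _, _, _, _, key (D.ξ (b₀ * a)) ?_ ?_ (fun h' => hb₀L ?_)⟩
    · rw [← map_pow, mul_sq (hcen _ _), hb₀, ← hz, hcs a b₀, h, ← pow_two, (hzω : z ^ 2 = 1), one_mul, hx3]
    · have hmapc : ∀ g h : T, D.ξ ⁅g, h⁆ = ⁅D.ξ g, D.ξ h⁆ := fun g h => map_commutatorElement (D.ξ : T →* T) g h
      have hinv : ∀ w ∈ D.ω, w⁻¹ = w := fun w (hw : w ^ 2 = 1) =>
        inv_eq_of_mul_eq_one_right (by rw [← pow_two, hw])
      have hzero : ∀ (g h : T), ⁅g, h⁆ * ⁅g, D.ξ h⁆ * ⁅g, D.ξ (D.ξ h)⁆ = 1 := fun g h => by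
        rw [← hmr, ← hmr, hcs]
        exact hzc _ (hsum h) g
      set p := ⁅D.ξ b₀, a⁆ with hp
      set q := ⁅b₀, D.ξ a⁆ with hq
      have hpp : ⁅D.ξ b₀, D.ξ a⁆ = z := by rw [← hmapc, h, hx3]
      have f1 : D.ξ q = p * z := by
        rw [hq, hmapc, eq_inv_of_mul_eq_one_right (hzero (D.ξ b₀) a), hpp,
          hinv _ (mul_mem (hcom _ _) hzω)]
      have f2 : D.ξ p = q * z := by
        rw [hp, hmapc, hcs, eq_inv_of_mul_eq_one_right (hzero (D.ξ a) b₀), hcs (D.ξ a), hcs (D.ξ a), hpp,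
          hinv _ (mul_mem (hcom _ _) hzω)]
      have f3 : D.ξ (D.ξ q) = q * z * D.ξ z := by rw [f1, map_mul, f2]
      rw [hsum1 q (hcom _ _), f1] at f3
      have f4 : p = D.ξ z := by
        have h5 : q * (p * z) = q * (D.ξ z * z) := by
          rw [f3, mem_center_iff.mp (D.ω_le_center hzω) (D.ξ z), mul_assoc]
        exact mul_right_cancel (mul_left_cancel h5)
      rw [map_mul, comm_mul_left' (hcen _ _), ← hp, f4, hcom', mul_one]
    · have h1 := hLinv _ (hLinv _ h')
      rw [hx3] at h1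
      simpa using mul_mem h1 (inv_mem haL)

theorem nonempty_mulEquiv {T : Type u} [Group T] [Finite T] {U : Type v} [Group U] [Finite U]
    (hT : Nat.card T = 64) (hU : Nat.card U = 64) {z z' a a' b b' : T} (G₁ : Gens z z' a a' b b')
    {w w' c c' d d' : U} (G₂ : Gens w w' c c' d d') : Nonempty (T ≃* U) := by
  classical
  set W := closure ({(b', d'), (b, d), (a', c'), (a, c), (z', w'), (z, w)} : Set (T × U)) with hW
  have hzz : ((z, w) : T × U) ^ 2 = 1 := Prod.ext G₁.hz G₂.hz
  have hzz' : ((z', w') : T × U) ^ 2 = 1 := Prod.ext G₁.hz' G₂.hz'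
  have hc1 : ∀ p : T × U, ⁅p, (z, w)⁆ = 1 := fun p => Prod.ext
    (commutatorElement_eq_one_iff_commute.mpr (mem_center_iff.mp G₁.cz p.1))
    (commutatorElement_eq_one_iff_commute.mpr (mem_center_iff.mp G₂.cz p.2))
  have hc2 : ∀ p : T × U, ⁅p, (z', w')⁆ = 1 := fun p => Prod.ext
    (commutatorElement_eq_one_iff_commute.mpr (mem_center_iff.mp G₁.cz' p.1))
    (commutatorElement_eq_one_iff_commute.mpr (mem_center_iff.mp G₂.cz' p.2))
  have c0 : Nat.card (closure (∅ : Set (T × U))) ≤ 1 := by rw [Subgroup.closure_empty, card_bot]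
  have c1 := (card_insert_le (x := (z, w)) (S := (∅ : Set (T × U))) (by rw [hzz]; exact one_mem _)
    (fun s hs => absurd hs (Set.notMem_empty s))).trans (Nat.mul_le_mul_left 2 c0)
  have c2 := (card_insert_le (x := (z', w')) (S := insert (z, w) (∅ : Set (T × U)))
    (by rw [hzz']; exact one_mem _) (fun s hs => by
      rcases hs with rfl | hs
      · rw [hc1]; exact one_mem _
      · exact absurd hs (Set.notMem_empty s))).trans (Nat.mul_le_mul_left 2 c1)
  have hm1 : ∀ {S : Set (T × U)}, (z, w) ∈ S → ((z, w) : T × U) ∈ closure S := fun h => subset_closure h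
  have c3 := (card_insert_le (x := (a, c)) (S := insert (z', w') (insert (z, w) (∅ : Set (T × U))))
    (by rw [show ((a, c) : T × U) ^ 2 = (z, w) from Prod.ext G₁.ha G₂.ha]; exact subset_closure (by simp))
    (fun s hs => by
      rcases hs with rfl | rfl | hs
      · rw [hc2]; exact one_mem _
      · rw [hc1]; exact one_mem _
      · exact absurd hs (Set.notMem_empty s))).trans (Nat.mul_le_mul_left 2 c2)
  have c4 := (card_insert_le (x := (a', c'))
    (S := insert (a, c) (insert (z', w') (insert (z, w) (∅ : Set (T × U)))))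
    (by rw [show ((a', c') : T × U) ^ 2 = (z', w') from Prod.ext G₁.ha' G₂.ha']; exact subset_closure (by simp))
    (fun s hs => by
      rcases hs with rfl | rfl | rfl | hs
      · rw [show ⁅((a', c') : T × U), (a, c)⁆ = 1 from Prod.ext G₁.haa G₂.haa]; exact one_mem _
      · rw [hc2]; exact one_mem _
      · rw [hc1]; exact one_mem _
      · exact absurd hs (Set.notMem_empty s))).trans (Nat.mul_le_mul_left 2 c3)
  have c5 := (card_insert_le (x := (b, d))
    (S := insert (a', c') (insert (a, c) (insert (z', w') (insert (z, w) (∅ : Set (T × U))))))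
    (by rw [show ((b, d) : T × U) ^ 2 = (z, w) from Prod.ext G₁.hb G₂.hb]; exact subset_closure (by simp))
    (fun s hs => by
      rcases hs with rfl | rfl | rfl | rfl | hs
      · rw [show ⁅((b, d) : T × U), (a', c')⁆ = (z, w) from Prod.ext G₁.hba' G₂.hba']
        exact subset_closure (by simp)
      · rw [show ⁅((b, d) : T × U), (a, c)⁆ = (z', w') from Prod.ext G₁.hba G₂.hba]
        exact subset_closure (by simp)
      · rw [hc2]; exact one_mem _
      · rw [hc1]; exact one_mem _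
      · exact absurd hs (Set.notMem_empty s))).trans (Nat.mul_le_mul_left 2 c4)
  have c6 := (card_insert_le (x := (b', d'))
    (S := insert (b, d) (insert (a', c') (insert (a, c) (insert (z', w') (insert (z, w) (∅ : Set (T × U)))))))
    (by rw [show ((b', d') : T × U) ^ 2 = (z', w') from Prod.ext G₁.hb' G₂.hb']; exact subset_closure (by simp))
    (fun s hs => by
      rcases hs with rfl | rfl | rfl | rfl | rfl | hs
      · rw [show ⁅((b', d') : T × U), (b, d)⁆ = 1 from Prod.ext G₁.hb'b G₂.hb'b]; exact one_mem _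
      · rw [show ⁅((b', d') : T × U), (a', c')⁆ = (z, w) * (z', w') from Prod.ext G₁.hb'a' G₂.hb'a']
        exact mul_mem (subset_closure (by simp)) (subset_closure (by simp))
      · rw [show ⁅((b', d') : T × U), (a, c)⁆ = (z, w) from Prod.ext G₁.hb'a G₂.hb'a]
        exact subset_closure (by simp)
      · rw [hc2]; exact one_mem _
      · rw [hc1]; exact one_mem _
      · exact absurd hs (Set.notMem_empty s))).trans (Nat.mul_le_mul_left 2 c5)
  have hW64 : Nat.card W ≤ 64 := by
    rw [hW]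
    simpa [insert_empty_eq] using c6
  have hs1 : Function.Surjective ((MonoidHom.fst T U).comp W.subtype) := by
    rw [← MonoidHom.range_eq_top, MonoidHom.range_eq_map, ← Subgroup.map_map, ← MonoidHom.range_eq_map,
      Subgroup.range_subtype, hW, MonoidHom.map_closure]
    simp only [Set.image_insert_eq, Set.image_singleton, MonoidHom.coe_fst]
    exact G₁.top
  have hs2 : Function.Surjective ((MonoidHom.snd T U).comp W.subtype) := by
    rw [← MonoidHom.range_eq_top, MonoidHom.range_eq_map, ← Subgroup.map_map, ← MonoidHom.range_eq_map,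
      Subgroup.range_subtype, hW, MonoidHom.map_closure]
    simp only [Set.image_insert_eq, Set.image_singleton, MonoidHom.coe_snd]
    exact G₂.top
  have hb1 := hs1.bijective_of_nat_card_le (hT ▸ hW64)
  have hb2 := hs2.bijective_of_nat_card_le (hU ▸ hW64)
  exact ⟨(MulEquiv.ofBijective _ hb1).symm.trans (MulEquiv.ofBijective _ hb2)⟩

theorem card_eq_sixty_four {T : Type u} [Group T] [Finite T] (D : Data T 2) (hna : ¬ IsMulCommutative T) :
    Nat.card T = 64 := by
  classical
  rcases card_options D hna with h | h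
  · exfalso
    obtain ⟨F, _, _, σ, hF, hσ, hodd, -⟩ := exists_typeA D hna h
    obtain ⟨p, hp⟩ := CharP.exists F
    haveI := Fact.mk (CharP.char_is_prime F p)
    have hfix : ∀ y : F, σ (σ y) = y := by
      intro y
      by_cases hy : y = 0
      · rw [hy, map_zero, map_zero]
      by_cases h1 : σ y = y
      · rw [h1, h1]
      have hy1 : y ≠ 1 := fun h => h1 (by rw [h, map_one])
      have hσy0 : σ y ≠ 0 := fun h => hy ((map_eq_zero σ).mp h)
      have hσy1 : σ y ≠ 1 := fun h => hy1 (σ.injective (h.trans (map_one σ).symm))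
      have huniv : ({0, 1, y, σ y} : Finset F) = Finset.univ := by
        refine Finset.eq_univ_of_card _ ?_
        rw [Finset.card_insert_of_notMem, Finset.card_insert_of_notMem, Finset.card_pair (Ne.symm h1), hF]
        · norm_num
        · simp [hy1.symm, hσy1.symm]
        · simp [Ne.symm hy, Ne.symm hσy0]
      have hm := Finset.mem_univ (σ (σ y))
      rw [← huniv] at hm
      simp only [Finset.mem_insert, Finset.mem_singleton] at hm
      rcases hm with h2 | h2 | h2 | h2
      · exact absurd ((map_eq_zero σ).mp h2) hσy0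
      · exact absurd (σ.injective (h2.trans (map_one σ).symm)) hσy1
      · exact h2
      · exact absurd (σ.injective h2) h1
    have hd : orderOf σ ∣ 2 := orderOf_dvd_of_pow_eq_one (RingEquiv.ext hfix)
    rcases (Nat.dvd_prime Nat.prime_two).mp hd with h1 | h1
    · exact hσ (orderOf_eq_one_iff.mp h1)
    · rw [h1] at hodd; exact absurd hodd (by decide)
  · rw [h]; norm_num

end CfsgLib.PGroups.Suzuki.RankTwo
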