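import Mathlib
import Cfsg.Agent.Lib.PGroups.Suzuki.RankTwo

/-!
# 2-groups with an involutory automorphism fixing exactly a central four-group

The automorphism is assumed to commute with an automorphism of order three moving the four-group.
-/

set_option autoImplicit false
set_option linter.all false

open scoped commutatorElement

namespace CfsgLib.PGroups.Suzuki.FourCentre

open Subgroup CfsgLib.PGroups.Suzuki.RankTwo

universe u v

/-- The data. -/
structure Setting (T : Type u) [Group T] where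
  V : Subgroup T
  t : MulAut T
  ρ : MulAut T
  isPGroup : IsPGroup 2 T
  card_V : Nat.card V = 4
  sq : ∀ v ∈ V, v ^ 2 = 1
  central : V ≤ center T
  tt : ∀ x, t (t x) = x
  rr : ∀ x, ρ (ρ (ρ x)) = x
  comm : ∀ x, t (ρ x) = ρ (t x)
  fix_iff : ∀ x, t x = x ↔ x ∈ V
  move : ∀ v ∈ V, ρ v = v → v = 1

namespace Setting

variable {T : Type u} [Group T] [Finite T] (S : Setting T)
include S

theorem t_fix {v : T} (hv : v ∈ S.V) : S.t v = v := (S.fix_iff v).mpr hv

theorem rho_mem {v : T} (hv : v ∈ S.V) : S.ρ v ∈ S.V :=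
  (S.fix_iff _).mp (by rw [S.comm, S.t_fix hv])

theorem V_normal : S.V.Normal :=
  ⟨fun z hz g => by rw [mem_center_iff.mp (S.central hz) g, mul_inv_cancel_right]; exact hz⟩

theorem exists_pow {y : T} (hy : y ≠ 1) : ∃ n : ℕ, y ^ n ≠ 1 ∧ (y ^ n) ^ 2 = 1 := by
  obtain ⟨j, hj⟩ := IsPGroup.iff_orderOf.mp S.isPGroup y
  have hj0 : j ≠ 0 := fun h => hy (orderOf_eq_one_iff.mp (by rw [hj, h, pow_zero]))
  refine ⟨2 ^ (j - 1), pow_ne_one_of_lt_orderOf (pow_ne_zero _ two_ne_zero)
    (hj ▸ Nat.pow_lt_pow_right one_lt_two (by omega)), ?_⟩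
  rw [← pow_mul, ← pow_succ, show j - 1 + 1 = j by omega, ← hj, pow_orderOf_eq_one]

theorem fpf {x : T} (hx : S.ρ x = x) : x = 1 := by
  by_cases hy : x⁻¹ * S.t x = 1
  · exact S.move x ((S.fix_iff x).mp (inv_mul_eq_one.mp hy).symm) hx
  exfalso
  obtain ⟨n, hn1, hn2⟩ := S.exists_pow hy
  have ht : S.t ((x⁻¹ * S.t x) ^ n) = (x⁻¹ * S.t x) ^ n := by
    rw [map_pow, map_mul, map_inv, S.tt]
    have h : (x⁻¹ * S.t x) ^ n = ((x⁻¹ * S.t x) ^ n)⁻¹ :=
      (inv_eq_of_mul_eq_one_right (by rw [← pow_two, hn2])).symm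
    rw [h, ← inv_pow, mul_inv_rev, inv_inv]
  refine hn1 (S.move _ ((S.fix_iff _).mp ht) ?_)
  rw [map_pow, map_mul, map_inv, hx, ← S.comm, hx]

theorem V_list {s : T} (hs : s ∈ S.V) (hs1 : s ≠ 1) {v : T} (hv : v ∈ S.V) :
    v = 1 ∨ v = s ∨ v = S.ρ s ∨ v = S.ρ (S.ρ s) := by
  classical
  haveI : Fintype S.V := Fintype.ofFinite _
  have h1 : S.ρ s ≠ s := fun h => hs1 (S.move s hs h)
  have h2 : S.ρ (S.ρ s) ≠ S.ρ s := fun h => h1 (S.ρ.injective h)
  have h3 : S.ρ (S.ρ s) ≠ s := fun h => h1 (by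
    have := congrArg S.ρ h
    rw [S.rr] at this
    exact this.symm)
  have h4 : S.ρ s ≠ 1 := fun h => hs1 ((MulEquiv.map_eq_one_iff _).mp h)
  have h5 : S.ρ (S.ρ s) ≠ 1 := fun h => h4 ((MulEquiv.map_eq_one_iff _).mp h)
  set A : Finset S.V := {1, ⟨s, hs⟩, ⟨_, S.rho_mem hs⟩, ⟨_, S.rho_mem (S.rho_mem hs)⟩} with hA
  have hcard : A.card = 4 := by
    rw [hA, Finset.card_insert_of_notMem, Finset.card_insert_of_notMem, Finset.card_pair]
    · simp [Subtype.ext_iff, h2.symm]
    · simp [Subtype.ext_iff, h1.symm, h3.symm]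
    · simp [Subtype.ext_iff, hs1.symm, h4.symm, h5.symm]
  have huniv : A = Finset.univ := Finset.eq_univ_of_card _ (by rw [hcard, ← Nat.card_eq_fintype_card, S.card_V])
  have := Finset.mem_univ (⟨v, hv⟩ : S.V)
  rw [← huniv] at this
  simpa [hA, Subtype.ext_iff] using this

theorem rho_rho {v : T} (hv : v ∈ S.V) : S.ρ (S.ρ v) = v * S.ρ v := by
  have hc : v * S.ρ v * S.ρ (S.ρ v) = 1 := S.fpf (by
    rw [map_mul, map_mul, S.rr]
    exact (mem_center_iff.mp (S.central hv) _).trans (by group))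
  have hinv : (v * S.ρ v) * (v * S.ρ v) = 1 := by
    rw [← pow_two]; exact S.sq _ (mul_mem hv (S.rho_mem hv))
  exact mul_left_cancel (hc.trans hinv.symm)

theorem coset_fix {N : Subgroup T} (hN : ∀ x ∈ N, S.ρ x ∈ N) {x : T} (hx : x⁻¹ * S.ρ x ∈ N) : x ∈ N := by
  let g : N → N := fun w => ⟨(w : T)⁻¹ * S.ρ w, mul_mem (inv_mem w.2) (hN w w.2)⟩
  have hg : Function.Injective g := by
    intro p q hpq
    have h2 : (p : T)⁻¹ * S.ρ p = (q : T)⁻¹ * S.ρ q := congrArg Subtype.val hpq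
    refine Subtype.ext (mul_inv_eq_one.mp (S.fpf ?_)).symm
    rw [map_mul, map_inv, ← eq_inv_mul_iff_mul_eq.mp h2.symm]
    group
  obtain ⟨w, hw⟩ := Finite.injective_iff_surjective.mp hg ⟨_, hx⟩
  have h3 : (w : T)⁻¹ * S.ρ w = x⁻¹ * S.ρ x := congrArg Subtype.val hw
  have h4 := S.fpf (x := x * (w : T)⁻¹) (by
    rw [map_mul, map_inv, ← eq_inv_mul_iff_mul_eq.mp h3.symm]; group)
  rw [mul_inv_eq_one.mp h4]
  exact w.2

theorem sum_mem {N : Subgroup T} (hN : ∀ x ∈ N, S.ρ x ∈ N) {x : T}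
    (hc : ⁅(x * S.ρ x * S.ρ (S.ρ x))⁻¹, x⁻¹⁆ ∈ N) : x * S.ρ x * S.ρ (S.ρ x) ∈ N := by
  refine S.coset_fix hN ?_
  have : (x * S.ρ x * S.ρ (S.ρ x))⁻¹ * S.ρ (x * S.ρ x * S.ρ (S.ρ x)) =
      ⁅(x * S.ρ x * S.ρ (S.ρ x))⁻¹, x⁻¹⁆ := by
    rw [map_mul, map_mul, S.rr, commutatorElement_def]; group
  rw [this]; exact hc

theorem comm_self {g : T} (hc : ⁅g, S.ρ g⁆ ∈ S.V) (hs : g * S.ρ g * S.ρ (S.ρ g) ∈ center T) :
    ⁅g, S.ρ g⁆ = 1 := by
  refine S.move _ hc ?_
  obtain ⟨h, hh⟩ : ∃ h, h = S.ρ g := ⟨_, rfl⟩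
  obtain ⟨y, hy⟩ : ∃ y, y = g * h * S.ρ h := ⟨_, rfl⟩
  rw [← hh] at hc hs ⊢
  rw [← hy] at hs
  have hk : S.ρ h = (g * h)⁻¹ * y := by rw [hy]; group
  have hcen := S.central hc
  calc S.ρ ⁅g, h⁆ = ⁅S.ρ g, S.ρ h⁆ := map_commutatorElement (S.ρ : T →* T) g h
    _ = h * ((g * h)⁻¹ * y) * h⁻¹ * ((g * h)⁻¹ * y)⁻¹ := by rw [← hh, hk, commutatorElement_def]
    _ = g⁻¹ * (y * h⁻¹) * y⁻¹ * (g * h) := by group
    _ = g⁻¹ * (h⁻¹ * y) * y⁻¹ * (g * h) := by rw [← mem_center_iff.mp hs h⁻¹]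
    _ = (h * g)⁻¹ * (⁅g, h⁆ * (h * g)) := by rw [commutatorElement_def]; group
    _ = (h * g)⁻¹ * ((h * g) * ⁅g, h⁆) := by rw [mem_center_iff.mp hcen (h * g)]
    _ = ⁅g, h⁆ := by group

/-- The elements moved by `t` within their coset of `V`. -/
def X : Subgroup T where
  carrier := {x | x⁻¹ * S.t x ∈ S.V}
  one_mem' := by simp [one_mem]
  mul_mem' := fun {x y} (hx : x⁻¹ * S.t x ∈ S.V) (hy : y⁻¹ * S.t y ∈ S.V) => show (x * y)⁻¹ * S.t (x * y) ∈ S.V by
    have h : (x * y)⁻¹ * S.t (x * y) = (x⁻¹ * S.t x) * (y⁻¹ * S.t y) := by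
      rw [map_mul]
      calc (x * y)⁻¹ * (S.t x * S.t y) = y⁻¹ * (x⁻¹ * S.t x) * S.t y := by group
        _ = (x⁻¹ * S.t x) * y⁻¹ * S.t y := by rw [mem_center_iff.mp (S.central hx) y⁻¹]
        _ = _ := by group
    rw [h]; exact mul_mem hx hy
  inv_mem' := fun {x} (hx : x⁻¹ * S.t x ∈ S.V) => show (x⁻¹)⁻¹ * S.t x⁻¹ ∈ S.V by
    have h : (x⁻¹)⁻¹ * S.t x⁻¹ = (x⁻¹ * S.t x)⁻¹ := by
      rw [map_inv]
      calc (x⁻¹)⁻¹ * (S.t x)⁻¹ = x * (x⁻¹ * S.t x)⁻¹ * x⁻¹ := by group
        _ = (x⁻¹ * S.t x)⁻¹ * x * x⁻¹ := by rw [mem_center_iff.mp (S.central (inv_mem hx)) x]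
        _ = _ := mul_inv_cancel_right _ _
    rw [h]; exact inv_mem hx

theorem mem_X {x : T} : x ∈ S.X ↔ x⁻¹ * S.t x ∈ S.V := Iff.rfl

theorem V_le_X : S.V ≤ S.X := fun v hv => by
  rw [mem_X, S.t_fix hv, inv_mul_cancel]; exact one_mem _

theorem t_apply {x : T} : S.t x = x * (x⁻¹ * S.t x) := (mul_inv_cancel_left _ _).symm

theorem X_rho {x : T} (hx : x ∈ S.X) : S.ρ x ∈ S.X := by
  rw [mem_X, S.comm, ← map_inv, ← map_mul]; exact S.rho_mem hx

theorem X_t {x : T} (hx : x ∈ S.X) : S.t x ∈ S.X := by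
  rw [S.t_apply]; exact mul_mem hx (S.V_le_X hx)

theorem X_sq {x : T} (hx : x ∈ S.X) : x ^ 2 ∈ S.V := by
  refine (S.fix_iff _).mp ?_
  rw [map_pow, S.t_apply, (show Commute x (x⁻¹ * S.t x) from mem_center_iff.mp (S.central hx) x).mul_pow,
    S.sq _ hx, mul_one]

theorem X_cases {s : T} (hs : s ∈ S.X) (hsV : s ∉ S.V) {x : T} (hx : x ∈ S.X) :
    ∃ v ∈ S.V, x = v ∨ x = v * s ∨ x = v * S.ρ s ∨ x = v * S.ρ (S.ρ s) := by
  have key : ∀ {p q : T}, p ∈ S.X → p⁻¹ * S.t p = q⁻¹ * S.t q → q * p⁻¹ ∈ S.V := by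
    intro p q hp h
    refine (S.fix_iff _).mp ?_
    rw [map_mul, map_inv, ← eq_inv_mul_iff_mul_eq.mp h]
    group
  have hρ : ∀ p : T, (S.ρ p)⁻¹ * S.t (S.ρ p) = S.ρ (p⁻¹ * S.t p) := fun p => by
    rw [map_mul, map_inv, S.comm]
  have hs1 : s⁻¹ * S.t s ≠ 1 := fun h => hsV ((S.fix_iff s).mp (inv_mul_eq_one.mp h).symm)
  rcases S.V_list hs hs1 hx with h | h | h | h
  · exact ⟨x, (S.fix_iff x).mp (inv_mul_eq_one.mp h).symm, Or.inl rfl⟩
  · exact ⟨x * s⁻¹, key hs h.symm, Or.inr (Or.inl (by group))⟩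
  · exact ⟨x * (S.ρ s)⁻¹, key (S.X_rho hs) ((hρ s).trans h.symm), Or.inr (Or.inr (Or.inl (by group)))⟩
  · exact ⟨x * (S.ρ (S.ρ s))⁻¹, key (S.X_rho (S.X_rho hs)) (((hρ _).trans (congrArg S.ρ (hρ s))).trans h.symm),
      Or.inr (Or.inr (Or.inr (by group)))⟩

theorem X_le {s : T} (hs : s ∈ S.X) (hsV : s ∉ S.V) {H : Subgroup T} (hV : S.V ≤ H) (h0 : s ∈ H)
    (h1 : S.ρ s ∈ H) (h2 : S.ρ (S.ρ s) ∈ H) : S.X ≤ H := by
  intro x hx
  obtain ⟨v, hv, h | h | h | h⟩ := S.X_cases hs hsV hx <;> rw [h]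
  exacts [hV hv, mul_mem (hV hv) h0, mul_mem (hV hv) h1, mul_mem (hV hv) h2]

theorem exists_mem {H : Subgroup T} (hH : ∀ x ∈ H, S.t x ∈ H) (hne : ¬ H ≤ S.V) :
    ∃ s ∈ H, s ∈ S.X ∧ s ∉ S.V := by
  classical
  obtain ⟨x, hxH, hxV⟩ := SetLike.not_le_iff_exists.mp hne
  by_cases hy : x⁻¹ * S.t x ∈ S.V
  · exact ⟨x, hxH, hy, hxV⟩
  set y := x⁻¹ * S.t x with hydef
  have hex : ∃ j : ℕ, y ^ 2 ^ j ∈ S.V := by
    obtain ⟨j, hj⟩ := S.isPGroup y
    exact ⟨j, hj ▸ one_mem _⟩
  obtain ⟨j, hj⟩ : ∃ j, Nat.find hex = j + 1 := by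
    refine ⟨Nat.find hex - 1, (Nat.sub_add_cancel ?_).symm⟩
    rw [Nat.one_le_iff_ne_zero]
    intro h
    have := Nat.find_spec hex
    rw [h, pow_zero, pow_one] at this
    exact hy this
  refine ⟨y ^ 2 ^ j, pow_mem (mul_mem (inv_mem hxH) (hH x hxH)) _, ?_, Nat.find_min hex (by omega)⟩
  have h2 := Nat.find_spec hex
  rw [hj, pow_succ, pow_mul] at h2
  have hty : S.t y = y⁻¹ := by rw [hydef, map_mul, map_inv, S.tt]; group
  rw [mem_X, map_pow, hty, inv_pow, ← mul_inv_rev, ← pow_two]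
  exact inv_mem h2

/-- `x ↦ x⁻¹ t(x)` on `X`. -/
def δ : S.X →* S.V :=
  MonoidHom.mk' (fun x => ⟨(x : T)⁻¹ * S.t x, x.2⟩) fun x y => Subtype.ext (by
    show ((x : T) * y)⁻¹ * S.t ((x : T) * y) = ((x : T)⁻¹ * S.t x) * ((y : T)⁻¹ * S.t y)
    rw [map_mul]
    calc ((x : T) * y)⁻¹ * (S.t x * S.t y) = (y : T)⁻¹ * ((x : T)⁻¹ * S.t x) * S.t y := by group
      _ = ((x : T)⁻¹ * S.t x) * (y : T)⁻¹ * S.t y := by rw [mem_center_iff.mp (S.central x.2) (y : T)⁻¹]
      _ = _ := by group)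

theorem δ_ker : S.δ.ker = S.V.subgroupOf S.X := by
  ext x
  rw [MonoidHom.mem_ker, mem_subgroupOf, Subtype.ext_iff]
  show (x : T)⁻¹ * S.t x = 1 ↔ _
  rw [inv_mul_eq_one, eq_comm, S.fix_iff]

theorem δ_surjective (hne : S.V ≠ ⊤) : Function.Surjective S.δ := by
  obtain ⟨s, -, hs, hsV⟩ := S.exists_mem (H := ⊤) (fun x _ => mem_top _) (fun h => hne (top_le_iff.mp h))
  have hs1 : s⁻¹ * S.t s ≠ 1 := fun h => hsV ((S.fix_iff s).mp (inv_mul_eq_one.mp h).symm)
  have hρ : ∀ p : T, (S.ρ p)⁻¹ * S.t (S.ρ p) = S.ρ (p⁻¹ * S.t p) := fun p => by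
    rw [map_mul, map_inv, S.comm]
  rintro ⟨v, hv⟩
  rcases S.V_list hs hs1 hv with h | h | h | h
  · exact ⟨1, by rw [map_one]; exact Subtype.ext h.symm⟩
  · exact ⟨⟨s, hs⟩, Subtype.ext h.symm⟩
  · exact ⟨⟨_, S.X_rho hs⟩, Subtype.ext ((hρ s).trans h.symm)⟩
  · exact ⟨⟨_, S.X_rho (S.X_rho hs)⟩, Subtype.ext (((hρ _).trans (congrArg S.ρ (hρ s))).trans h.symm)⟩

theorem card_map_X [S.V.Normal] (hne : S.V ≠ ⊤) : Nat.card (S.X.map (QuotientGroup.mk' S.V)) = 4 := by
  set f : S.X →* T ⧸ S.V := (QuotientGroup.mk' S.V).comp S.X.subtype with hf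
  have hrange : f.range = S.X.map (QuotientGroup.mk' S.V) := by
    rw [hf, MonoidHom.range_comp, Subgroup.range_subtype]
  have hker : f.ker = S.δ.ker := by
    rw [S.δ_ker, hf, ← MonoidHom.comap_ker, QuotientGroup.ker_mk']
    rfl
  rw [← hrange, ← Nat.card_congr (QuotientGroup.quotientKerEquivRange f).toEquiv,
    Nat.card_congr (QuotientGroup.quotientMulEquivOfEq hker).toEquiv,
    Nat.card_congr (QuotientGroup.quotientKerEquivOfSurjective S.δ (S.δ_surjective hne)).toEquiv, S.card_V]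

theorem card_X (hne : S.V ≠ ⊤) : Nat.card S.X = 16 := by
  have h := S.δ.ker.card_eq_card_quotient_mul_card_subgroup
  rw [Nat.card_congr (QuotientGroup.quotientKerEquivOfSurjective S.δ (S.δ_surjective hne)).toEquiv, S.δ_ker,
    Nat.card_congr (subgroupOfEquivOfLe S.V_le_X).toEquiv, S.card_V] at h
  exact h

theorem map_eq [S.V.Normal] (f : MulAut T) (hf : ∀ x ∈ S.V, f x ∈ S.V) : S.V.map (f : T →* T) = S.V := by
  refine eq_of_le_of_card_ge ?_ (Subgroup.card_map_of_injective (f := (f : T →* T)) f.injective).ge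
  rintro _ ⟨x, hx, rfl⟩
  exact hf x hx

theorem X_central [S.V.Normal] (hne : S.V ≠ ⊤) : S.X.map (QuotientGroup.mk' S.V) ≤ center (T ⧸ S.V) := by
  haveI : Nontrivial (T ⧸ S.V) := by
    obtain ⟨x, -, hx⟩ := SetLike.exists_of_lt (lt_top_iff_ne_top.mpr hne)
    exact ⟨⟨(x : T ⧸ S.V), 1, fun h => hx ((QuotientGroup.eq_one_iff x).mp h)⟩⟩
  haveI := Fact.mk Nat.prime_two
  haveI := (S.isPGroup.to_quotient S.V).center_nontrivial
  set H := (center (T ⧸ S.V)).comap (QuotientGroup.mk' S.V) with hH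
  have hVH : S.V ≤ H := fun v hv => by
    rw [hH, mem_comap, show QuotientGroup.mk' S.V v = 1 from (QuotientGroup.eq_one_iff v).mpr hv]
    exact one_mem _
  have hinv : ∀ (f : MulAut T), (∀ x ∈ S.V, f x ∈ S.V) → ∀ x ∈ H, f x ∈ H := by
    intro f hf x hx
    rw [hH, mem_comap, mem_center_iff] at hx ⊢
    intro g
    obtain ⟨k, rfl⟩ := QuotientGroup.mk'_surjective S.V g
    obtain ⟨k, rfl⟩ := f.surjective k
    have h := congrArg (QuotientGroup.congr S.V S.V f (S.map_eq f hf)) (hx (QuotientGroup.mk' S.V k))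
    rwa [map_mul, map_mul] at h
  obtain ⟨s, hsH, hs, hsV⟩ := S.exists_mem (H := H) (hinv S.t fun x hx => by rw [S.t_fix hx]; exact hx) (by
    intro hle
    obtain ⟨⟨z, hz⟩, hz1⟩ := exists_ne (1 : center (T ⧸ S.V))
    obtain ⟨x, rfl⟩ := QuotientGroup.mk'_surjective S.V z
    exact hz1 (Subtype.ext ((QuotientGroup.eq_one_iff x).mpr (hle hz))))
  have hρ := hinv S.ρ fun x hx => S.rho_mem hx
  rw [map_le_iff_le_comap]
  exact S.X_le hs hsV hVH hsH (hρ s hsH) (hρ _ (hρ s hsH))

/-- The setting on the quotient by `V`. -/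
noncomputable def quot [S.V.Normal] (hne : S.V ≠ ⊤) : Setting (T ⧸ S.V) where
  V := S.X.map (QuotientGroup.mk' S.V)
  t := QuotientGroup.congr S.V S.V S.t (S.map_eq S.t fun x hx => by rw [S.t_fix hx]; exact hx)
  ρ := QuotientGroup.congr S.V S.V S.ρ (S.map_eq S.ρ fun x hx => S.rho_mem hx)
  isPGroup := S.isPGroup.to_quotient S.V
  card_V := S.card_map_X hne
  sq := by
    rintro _ ⟨x, hx, rfl⟩
    rw [← map_pow]
    exact (QuotientGroup.eq_one_iff _).mpr (S.X_sq hx)
  central := S.X_central hne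
  tt := fun q => by
    obtain ⟨x, rfl⟩ := QuotientGroup.mk'_surjective S.V q
    exact congrArg (QuotientGroup.mk' S.V) (S.tt x)
  rr := fun q => by
    obtain ⟨x, rfl⟩ := QuotientGroup.mk'_surjective S.V q
    exact congrArg (QuotientGroup.mk' S.V) (S.rr x)
  comm := fun q => by
    obtain ⟨x, rfl⟩ := QuotientGroup.mk'_surjective S.V q
    exact congrArg (QuotientGroup.mk' S.V) (S.comm x)
  fix_iff := fun q => by
    obtain ⟨x, rfl⟩ := QuotientGroup.mk'_surjective S.V q
    show QuotientGroup.mk' S.V (S.t x) = QuotientGroup.mk' S.V x ↔ _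
    rw [eq_comm]
    constructor
    · intro h
      exact ⟨x, QuotientGroup.eq.mp h, rfl⟩
    · rintro ⟨y, hy, hyx⟩
      refine QuotientGroup.eq.mpr ?_
      have h1 : y⁻¹ * x ∈ S.V := QuotientGroup.eq.mp hyx
      have h2 : x ∈ S.X := by
        have := mul_mem hy (S.V_le_X h1)
        rwa [mul_inv_cancel_left] at this
      exact h2
  move := by
    rintro _ ⟨x, -, rfl⟩ hfix
    exact (QuotientGroup.eq_one_iff x).mpr (S.coset_fix (fun v hv => S.rho_mem hv) (QuotientGroup.eq.mp hfix.symm))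

theorem comm_mem_of_sq {N : Subgroup T} (h : ∀ x : T, x ^ 2 ∈ N) (x y : T) : ⁅x, y⁆ ∈ N := by
  have : ⁅x, y⁆ = x ^ 2 * (x⁻¹ * y) ^ 2 * (y⁻¹) ^ 2 := by
    simp only [commutatorElement_def, pow_two]; group
  rw [this]
  exact mul_mem (mul_mem (h x) (h _)) (h _)

theorem double {H K : Subgroup T} (h : H < K) : 2 * Nat.card H ≤ Nat.card K := by
  obtain ⟨c, hc⟩ := Subgroup.card_dvd_of_le h.le
  have h1 : Nat.card H < Nat.card K := by
    by_contra hh
    exact h.ne (Subgroup.eq_of_le_of_card_ge h.le (not_lt.mp hh))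
  have : c ≠ 0 ∧ c ≠ 1 := ⟨fun e => by rw [e, mul_zero] at hc; omega, fun e => by rw [e, mul_one] at hc; omega⟩
  rw [hc, mul_comm 2]
  exact Nat.mul_le_mul_left _ (by omega)

/-- The relations of an order 64 group with squares in `V`. -/
theorem struct (h64 : Nat.card T = 64) (hsq : ∀ x, x ^ 2 ∈ S.V) {a : T} (ha : a ∉ S.X) :
    a⁻¹ * S.t a ∈ S.X ∧ a⁻¹ * S.t a ∉ S.V ∧ ⁅S.t a, a⁆ ∈ S.V ∧ ⁅S.t a, a⁆ ≠ 1 ∧ ⁅S.ρ a, a⁆ = 1 ∧
      ⁅S.ρ (S.t a), S.t a⁆ = 1 ∧ ⁅S.t a, S.ρ a⁆ = ⁅S.t a, a⁆ * S.ρ ⁅S.t a, a⁆ ∧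
      ⁅S.ρ (S.t a), a⁆ = ⁅S.t a, a⁆ * S.ρ ⁅S.t a, a⁆ ∧
      closure ({S.ρ (S.t a), S.t a, S.ρ a, a, S.ρ ⁅S.t a, a⁆, ⁅S.t a, a⁆} : Set T) = ⊤ := by
  haveI := S.V_normal
  have hcom := fun x y => S.comm_mem_of_sq hsq x y
  have hcen : ∀ x y : T, ⁅x, y⁆ ∈ center T := fun x y => S.central (hcom x y)
  have hcs : ∀ x y : T, ⁅x, y⁆ = ⁅y, x⁆ := fun x y => by
    rw [← commutatorElement_inv y x]
    exact inv_eq_of_mul_eq_one_right (by rw [← pow_two]; exact S.sq _ (hcom y x))
  have hmr : ∀ x y w : T, ⁅w, x * y⁆ = ⁅w, x⁆ * ⁅w, y⁆ := fun x y w => by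
    rw [hcs w (x * y), hcs w x, hcs w y, comm_mul_left' (hcen y w)]
  have hzc : ∀ w ∈ S.V, ∀ g : T, ⁅w, g⁆ = 1 := fun w hw g =>
    commutatorElement_eq_one_iff_commute.mpr (mem_center_iff.mp (S.central hw) g).symm
  have hsum : ∀ g : T, g * S.ρ g * S.ρ (S.ρ g) ∈ S.V := fun g =>
    S.sum_mem (fun v hv => S.rho_mem hv) (hcom _ _)
  have hself : ∀ g : T, ⁅S.ρ g, g⁆ = 1 := fun g => by
    rw [hcs]; exact S.comm_self (hcom _ _) (S.central (hsum g))
  set b := S.t a with hb
  set w := ⁅b, a⁆ with hw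
  set s := a⁻¹ * b with hs
  have hts : S.t s = s⁻¹ := by rw [hs, map_mul, map_inv, hb, S.tt]; group
  have hsX : s ∈ S.X := by
    rw [mem_X, hts, ← mul_inv_rev, ← pow_two]; exact inv_mem (hsq s)
  have hsV : s ∉ S.V := fun h => ha h
  have hw1 : w ≠ 1 := by
    intro h
    refine hsV ((S.fix_iff s).mp ?_)
    rw [hts, hs]
    have hc : Commute b a := commutatorElement_eq_one_iff_commute.mp h
    have h1 : a * a = b * b := by
      have h2 := S.t_fix (hsq a)
      rw [map_pow, ← hb] at h2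
      rw [← pow_two, ← pow_two, h2]
    calc (a⁻¹ * b)⁻¹ = b⁻¹ * (a * a) * a⁻¹ := by group
      _ = b⁻¹ * (b * b) * a⁻¹ := by rw [h1]
      _ = b * a⁻¹ := by group
      _ = a⁻¹ * b := hc.inv_right.eq
  have hmapt : ∀ g h : T, S.t ⁅g, h⁆ = ⁅S.t g, S.t h⁆ := fun g h => map_commutatorElement (S.t : T →* T) g h
  have hmapr : ∀ g h : T, S.ρ ⁅g, h⁆ = ⁅S.ρ g, S.ρ h⁆ := fun g h => map_commutatorElement (S.ρ : T →* T) g h
  set x := ⁅b, S.ρ a⁆ with hx
  have hyx : ⁅S.ρ b, a⁆ = x := by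
    have h := S.t_fix (hcom b (S.ρ a))
    rw [hmapt, S.comm, ← hb, show S.t b = a from S.tt a, hcs] at h
    exact h
  have hrr : S.ρ x = x * S.ρ w := by
    have h1 : S.ρ x = ⁅S.ρ (S.ρ b), S.ρ a⁆ := by rw [← hyx, hmapr]
    have h2 : ⁅S.ρ a, b⁆ * ⁅S.ρ a, S.ρ b⁆ * ⁅S.ρ a, S.ρ (S.ρ b)⁆ = 1 := by
      rw [← hmr, ← hmr, hcs]; exact hzc _ (hsum b) _
    rw [hcs (S.ρ a) b, ← hx, hcs (S.ρ a) (S.ρ b), ← hmapr, ← hw, hcs (S.ρ a) (S.ρ (S.ρ b)), ← h1] at h2
    rw [eq_inv_of_mul_eq_one_right h2]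
    exact inv_eq_of_mul_eq_one_right (by rw [← pow_two]; exact S.sq _ (mul_mem (hcom _ _) (S.rho_mem (hcom _ _))))
  have hxw : x = w * S.ρ w := by
    have h1 : S.ρ (S.ρ x) = S.ρ w := by
      rw [S.rho_rho (hcom b (S.ρ a)), hrr, ← mul_assoc, ← pow_two, S.sq _ (hcom _ _), one_mul]
    have h2 : S.ρ x = w := S.ρ.injective h1
    rw [← S.rho_rho (hcom b a), ← hw, ← h2, S.rr]
  refine ⟨hsX, hsV, hcom _ _, hw1, hself a, hself b, hxw, hyx.trans hxw, ?_⟩
  set M := closure ({S.ρ b, b, S.ρ a, a, S.ρ w, w} : Set T) with hM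
  have hVM : S.V ≤ M := by
    intro v hv
    rcases S.V_list (hcom b a) hw1 hv with h | h | h | h <;> rw [h]
    · exact one_mem _
    · exact subset_closure (by simp [← hw])
    · exact subset_closure (by simp [← hw])
    · rw [S.rho_rho (hcom b a)]
      exact mul_mem (subset_closure (by simp [← hw])) (subset_closure (by simp [← hw]))
  have hrho2 : ∀ g : T, g ∈ M → S.ρ g ∈ M → S.ρ (S.ρ g) ∈ M := by
    intro g h0 h1
    have h : S.ρ (S.ρ g) = (g * S.ρ g)⁻¹ * (g * S.ρ g * S.ρ (S.ρ g)) := by group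
    rw [h]; exact mul_mem (inv_mem (mul_mem h0 h1)) (hVM (hsum g))
  have hMinv : ∀ g ∈ M, S.ρ g ∈ M := by
    intro g hg
    have hle : M ≤ M.comap (S.ρ : T →* T) := (closure_le _).mpr (by
      intro u hu
      simp only [Set.mem_insert_iff, Set.mem_singleton_iff] at hu
      rcases hu with rfl | rfl | rfl | rfl | rfl | rfl
      · exact hrho2 b (subset_closure (by simp)) (subset_closure (by simp))
      · exact subset_closure (by simp)
      · exact hrho2 a (subset_closure (by simp)) (subset_closure (by simp))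
      · exact subset_closure (by simp)
      · exact hVM (S.rho_mem (S.rho_mem (hcom b a)))
      · exact subset_closure (by simp [← hw]))
    exact hle hg
  have hsM : s ∈ M := mul_mem (inv_mem (subset_closure (by simp))) (subset_closure (by simp))
  have haM : a ∈ M := subset_closure (by simp)
  have hXM : S.X < M := SetLike.lt_iff_le_and_exists.mpr
    ⟨S.X_le hsX hsV hVM hsM (hMinv s hsM) (hMinv _ (hMinv s hsM)), a, haM, ha⟩
  have h32 := S.double hXM
  rw [S.card_X (fun h => hsV (h ▸ mem_top s))] at h32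
  by_contra hne
  have hlt := S.double (lt_top_iff_ne_top.mpr hne)
  rw [card_top, h64] at hlt
  have hidx : M.index = 2 := by
    have := M.index_mul_card
    rw [h64, show Nat.card M = 32 by omega] at this
    omega
  refine hne (eq_top_iff.mpr fun g _ => S.coset_fix hMinv ?_)
  rw [Subgroup.mul_mem_iff_of_index_two hidx, inv_mem_iff]
  refine ⟨fun h => hMinv g h, fun h => ?_⟩
  have := hMinv _ (hMinv _ h)
  rwa [S.rr] at this

end Setting

theorem shape : ∀ (N : ℕ) (T : Type u) [Group T] [Finite T] (S : Setting T), Nat.card T ≤ N →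
    ((∀ x y : T, x * y = y * x) ∧ ∀ x : T, x ^ 2 = 1 → x ∈ S.V) ∨
      (Nat.card T = 16 ∧ ∀ x : T, x ^ 2 = 1) ∨ (Nat.card T = 64 ∧ ∀ x : T, x ^ 2 ∈ S.V) := by
  intro N
  induction N with
  | zero =>
    intro T _ _ S h
    have := Nat.card_pos (α := T)
    omega
  | succ N ih =>
    intro T _ _ S hN
    haveI := S.V_normal
    by_cases hne : S.V = ⊤
    · exact Or.inl ⟨fun x y => mem_center_iff.mp (S.central (hne.ge (mem_top y))) x, fun x _ => hne.ge (mem_top x)⟩
    have hcard : Nat.card T = Nat.card (T ⧸ S.V) * 4 := by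
      rw [S.V.card_eq_card_quotient_mul_card_subgroup, S.card_V]
    have hcardX : Nat.card (S.quot hne).V = 4 := (S.quot hne).card_V
    have hX16 := S.card_X hne
    have hqV : ∀ {x : T}, QuotientGroup.mk' S.V x ∈ (S.quot hne).V → x ∈ S.X := by
      rintro x ⟨y, hy, hyx⟩
      have := mul_mem hy (S.V_le_X (QuotientGroup.eq.mp hyx))
      rwa [mul_inv_cancel_left] at this
    have hXc : ∀ {x : T}, x ∈ S.X → ∀ g : T, ⁅x, g⁆ ∈ S.V := by
      intro x hx g
      refine (QuotientGroup.eq_one_iff _).mp ?_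
      show QuotientGroup.mk' S.V ⁅x, g⁆ = 1
      rw [map_commutatorElement, commutatorElement_eq_one_iff_commute]
      exact (mem_center_iff.mp (S.X_central hne ⟨x, hx, rfl⟩) _).symm
    rcases ih (T ⧸ S.V) (S.quot hne) (by have := Nat.card_pos (α := T ⧸ S.V); omega) with
      ⟨hab, hinv⟩ | ⟨h16, hexp⟩ | ⟨h64, hsq⟩
    · -- the quotient is abelian
      have hcomV : ∀ x y : T, ⁅x, y⁆ ∈ S.V := fun x y => (QuotientGroup.eq_one_iff _).mp (by
        show QuotientGroup.mk' S.V ⁅x, y⁆ = 1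
        rw [map_commutatorElement, commutatorElement_eq_one_iff_commute]
        exact hab _ _)
      letI : CommGroup (T ⧸ S.V) := { (inferInstance : Group (T ⧸ S.V)) with mul_comm := hab }
      set Z := center T with hZ
      have hindex : Z.index ≤ 4 := by
        set R := (powMonoidHom 2 : T ⧸ S.V →* T ⧸ S.V) with hR
        have hle : R.range.comap (QuotientGroup.mk' S.V) ≤ Z := by
          intro g hg
          obtain ⟨q, hq⟩ := hg
          obtain ⟨h, rfl⟩ := QuotientGroup.mk'_surjective S.V q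
          have hq' : (QuotientGroup.mk' S.V h) ^ 2 = QuotientGroup.mk' S.V g := hq
          rw [← map_pow] at hq'
          have hv : (h ^ 2)⁻¹ * g ∈ S.V := QuotientGroup.eq.mp hq'
          have hh2 : h ^ 2 ∈ Z := mem_center_iff.mpr fun k => by
            have h1 := comm_mul_left' (x := h) (y := h) (w := k) (S.central (hcomV h k))
            rw [← pow_two, ← pow_two, S.sq _ (hcomV h k)] at h1
            exact (commutatorElement_eq_one_iff_commute.mp h1).eq.symm
          have := mul_mem hh2 (S.central hv)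
          rwa [mul_inv_cancel_left] at this
        refine le_trans (Nat.le_of_dvd (Nat.pos_of_ne_zero Subgroup.index_ne_zero_of_finite) (Subgroup.index_dvd_of_le hle)) ?_
        rw [Subgroup.index_comap_of_surjective _ (QuotientGroup.mk'_surjective S.V)]
        have h1 := R.ker.card_eq_card_quotient_mul_card_subgroup
        rw [Nat.card_congr (QuotientGroup.quotientKerEquivRange R).toEquiv, ← R.range.index_mul_card,
          mul_comm] at h1
        rw [Nat.eq_of_mul_eq_mul_left Nat.card_pos h1, ← hcardX]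
        exact Subgroup.card_le_of_le fun q hq => hinv q hq
      have habT : ∀ x y : T, x * y = y * x := by
        by_contra hc
        push Not at hc
        obtain ⟨p, q, hpq⟩ := hc
        have hZinv : ∀ g ∈ Z, S.ρ g ∈ Z := fun g hg => mem_center_iff.mpr fun k => by
          obtain ⟨k, rfl⟩ := S.ρ.surjective k
          rw [← map_mul, ← map_mul, mem_center_iff.mp hg k]
        obtain ⟨x, hxZ⟩ : ∃ x, x ∉ Z := ⟨q, fun h => hpq (mem_center_iff.mp h p)⟩
        have hxx : ⁅x, S.ρ x⁆ = 1 := S.comm_self (hcomV _ _)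
          (S.central (S.sum_mem (fun v hv => S.rho_mem hv) (hcomV _ _)))
        have hρx : S.ρ x ∉ Z := fun h => hxZ (by
          have := hZinv _ (hZinv _ h)
          rwa [S.rr] at this)
        set K := Z ⊔ zpowers x with hK
        have hZK : Z < K := SetLike.lt_iff_le_and_exists.mpr ⟨le_sup_left, x, mem_sup_right (mem_zpowers x), hxZ⟩
        have hρK : S.ρ x ∉ K := by
          intro h
          rw [hK, ← SetLike.mem_coe, Subgroup.normal_mul, Set.mem_mul] at h
          obtain ⟨z, hz, u, ⟨k, rfl⟩, hzu⟩ := h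
          rcases Int.even_or_odd k with ⟨m, rfl⟩ | ⟨m, rfl⟩
          · refine hρx ?_
            rw [← hzu]
            refine mul_mem hz ?_
            show x ^ (m + m) ∈ Z
            rw [← two_mul, zpow_mul]
            exact zpow_mem (mem_center_iff.mpr fun k => by
              have h1 := comm_mul_left' (x := x) (y := x) (w := k) (S.central (hcomV x k))
              rw [← pow_two, ← pow_two, S.sq _ (hcomV x k), commutatorElement_eq_one_iff_commute] at h1
              rw [show x ^ (2 : ℤ) = x ^ 2 by rw [zpow_two, pow_two]]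
              exact h1.eq.symm) _
          · refine hxZ (S.coset_fix hZinv ?_)
            rw [← hzu]
            show x⁻¹ * (z * x ^ (2 * m + 1)) ∈ Z
            have h2 : x ^ (2 : ℤ) ∈ Z := mem_center_iff.mpr fun k => by
              have h1 := comm_mul_left' (x := x) (y := x) (w := k) (S.central (hcomV x k))
              rw [← pow_two, ← pow_two, S.sq _ (hcomV x k), commutatorElement_eq_one_iff_commute] at h1
              rw [show x ^ (2 : ℤ) = x ^ 2 by rw [zpow_two, pow_two]]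
              exact h1.eq.symm
            rw [← mul_assoc, mem_center_iff.mp hz x⁻¹, mul_assoc, add_comm, zpow_add, zpow_one,
              inv_mul_cancel_left, zpow_mul]
            exact mul_mem hz (zpow_mem h2 m)
        set M := K ⊔ zpowers (S.ρ x) with hM
        have hKM : K < M := SetLike.lt_iff_le_and_exists.mpr
          ⟨le_sup_left, S.ρ x, mem_sup_right (mem_zpowers _), hρK⟩
        have h1 := S.double hZK
        have h2 := S.double hKM
        have hMtop : M = ⊤ := by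
          refine Subgroup.eq_top_of_le_card M ?_
          rw [← Z.index_mul_card]
          calc Z.index * Nat.card Z ≤ 4 * Nat.card Z := Nat.mul_le_mul_right _ hindex
            _ ≤ Nat.card M := by omega
        have hle : M ≤ centralizer {x} := by
          rw [hM, hK]
          refine sup_le (sup_le (fun g hg => mem_centralizer_singleton_iff.mpr ?_) ?_) ?_
          · exact (mem_center_iff.mp hg x).symm
          · exact zpowers_le.mpr (mem_centralizer_singleton_iff.mpr rfl)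
          · exact zpowers_le.mpr (mem_centralizer_singleton_iff.mpr
              (commutatorElement_eq_one_iff_commute.mp hxx).eq.symm)
        rw [hMtop] at hle
        exact hxZ (mem_center_iff.mpr fun g => mem_centralizer_singleton_iff.mp (hle (mem_top g)))
      by_cases hV : ∀ x : T, x ^ 2 = 1 → x ∈ S.V
      · exact Or.inl ⟨habT, hV⟩
      push Not at hV
      obtain ⟨s, hs2, hsV⟩ := hV
      have hsX : s ∈ S.X := hqV (hinv _ (by rw [← map_pow, hs2, map_one]))
      have hXexp : ∀ x ∈ S.X, x ^ 2 = 1 := by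
        intro x hx
        obtain ⟨v, hv, h | h | h | h⟩ := S.X_cases hsX hsV hx <;> rw [h]
        · exact S.sq v hv
        all_goals rw [Commute.mul_pow (habT _ _), S.sq v hv, one_mul]
        · exact hs2
        · rw [← map_pow, hs2, map_one]
        · rw [← map_pow, ← map_pow, hs2, map_one, map_one]
      by_cases htop : S.X = ⊤
      · refine Or.inr (Or.inl ⟨?_, fun x => hXexp x (htop.ge (mem_top x))⟩)
        rw [← hX16, htop, card_top]
      exfalso
      obtain ⟨g, -, hg⟩ := SetLike.exists_of_lt (lt_top_iff_ne_top.mpr htop)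
      classical
      have hex : ∃ j : ℕ, g ^ 2 ^ j ∈ S.X := by
        obtain ⟨j, hj⟩ := S.isPGroup g
        exact ⟨j, hj ▸ one_mem _⟩
      obtain ⟨j, hj⟩ : ∃ j, Nat.find hex = j + 1 := by
        refine ⟨Nat.find hex - 1, (Nat.sub_add_cancel ?_).symm⟩
        rw [Nat.one_le_iff_ne_zero]
        intro h
        have := Nat.find_spec hex
        rw [h, pow_zero, pow_one] at this
        exact hg this
      have hyX : g ^ 2 ^ j ∉ S.X := Nat.find_min hex (by omega)
      have hy2 : (g ^ 2 ^ j) ^ 2 ∈ S.X := by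
        rw [← pow_mul, ← pow_succ, ← hj]; exact Nat.find_spec hex
      set y := g ^ 2 ^ j with hy
      have hy2V : y ^ 2 ∉ S.V := by
        intro h
        refine hyX (hqV (hinv _ ?_))
        rw [← map_pow]
        exact (QuotientGroup.eq_one_iff _).mpr h
      have hi2 : (y⁻¹ * S.t y) ^ 2 = (y ^ 2)⁻¹ * S.t (y ^ 2) := by
        rw [Commute.mul_pow (habT _ _), inv_pow, map_pow S.t y 2]
      refine hy2V ((S.fix_iff _).mp (inv_mul_eq_one.mp ?_).symm)
      rw [← hi2]
      refine hXexp _ (hqV (hinv _ ?_))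
      rw [← map_pow, hi2]
      exact (QuotientGroup.eq_one_iff _).mpr hy2
    · exact Or.inr (Or.inr ⟨by omega, fun x => (QuotientGroup.eq_one_iff _).mp
        ((map_pow (QuotientGroup.mk' S.V) x 2).trans (hexp _))⟩)
    · -- the quotient has order 64: impossible
      exfalso
      set π := QuotientGroup.mk' S.V with hπ
      obtain ⟨A, hA⟩ : ∃ A : T ⧸ S.V, A ∉ (S.quot hne).X := by
        by_contra h
        push Not at h
        have h1 := (S.quot hne).card_X (fun h => by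
          have := (S.quot hne).card_V
          rw [h, card_top, h64] at this
          omega)
        rw [show (S.quot hne).X = ⊤ from eq_top_iff.mpr fun q _ => h q, card_top, h64] at h1
        omega
      obtain ⟨a, rfl⟩ := QuotientGroup.mk'_surjective S.V A
      obtain ⟨-, -, hwX, hw1, haa, hbb, hu, -, hgen⟩ := (S.quot hne).struct h64 hsq hA
      set b := S.t a with hb
      set w := ⁅b, a⁆ with hw
      have hπc : ∀ g h : T, π ⁅g, h⁆ = ⁅π g, π h⁆ := fun g h => map_commutatorElement π g h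
      have hwπ : π w = ⁅π b, π a⁆ := hπc _ _
      have hwX' : w ∈ S.X := hqV (by rw [hwπ]; exact hwX)
      have hwV : w ∉ S.V := fun h => hw1 (by
        show ⁅π b, π a⁆ = 1
        rw [← hwπ]
        exact (QuotientGroup.eq_one_iff w).mpr h)
      have haa' : ⁅a, S.ρ a⁆ ∈ S.V := by
        rw [← commutatorElement_inv]
        refine inv_mem ((QuotientGroup.eq_one_iff _).mp ?_)
        exact (hπc _ _).trans haa
      have hu' : (w * S.ρ w)⁻¹ * ⁅b, S.ρ a⁆ ∈ S.V := by
        refine QuotientGroup.eq.mp ?_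
        show π (w * S.ρ w) = π ⁅b, S.ρ a⁆
        rw [hπc, map_mul, hwπ]
        refine Eq.trans ?_ hu.symm
        congr 1
      have hXT : ∀ g h : T, ⁅g, h⁆ ∈ S.X := fun g h => hqV (by
        rw [hπc]; exact (S.quot hne).comm_mem_of_sq hsq _ _)
      have hcX : ∀ {x : T}, x ∈ S.X → ∀ g : T, ⁅x, g⁆ ∈ center T := fun hx g => S.central (hXc hx g)
      have hc2 : ∀ {x : T}, x ∈ S.X → ∀ g : T, ⁅x, g⁆⁻¹ = ⁅x, g⁆ := fun hx g =>
        inv_eq_of_mul_eq_one_right (by rw [← pow_two]; exact S.sq _ (hXc hx g))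
      have hsumw : w * S.ρ w * S.ρ (S.ρ w) ∈ S.V := S.sum_mem (fun v hv => S.rho_mem hv)
        (hXc (inv_mem (mul_mem (mul_mem hwX' (S.X_rho hwX')) (S.X_rho (S.X_rho hwX')))) _)
      have hww : ⁅w, S.ρ w⁆ = 1 := S.comm_self (hXc hwX' _) (S.central hsumw)
      have hwρρ : Commute w (S.ρ (S.ρ w)) := by
        have h : S.ρ (S.ρ w) = (w * S.ρ w)⁻¹ * (w * S.ρ w * S.ρ (S.ρ w)) := by group
        rw [h]
        exact (((Commute.refl w).mul_right (commutatorElement_eq_one_iff_commute.mp hww)).inv_right).mul_right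
          (mem_center_iff.mp (S.central hsumw) w)
      have hXw : ∀ x ∈ S.X, ⁅w, x⁆ = 1 := by
        intro x hx
        rw [commutatorElement_eq_one_iff_commute]
        have hle : S.X ≤ centralizer {w} := S.X_le hwX' hwV
          (fun v hv => mem_centralizer_singleton_iff.mpr (mem_center_iff.mp (S.central hv) w).symm)
          (mem_centralizer_singleton_iff.mpr rfl)
          (mem_centralizer_singleton_iff.mpr (commutatorElement_eq_one_iff_commute.mp hww).eq.symm)
          (mem_centralizer_singleton_iff.mpr hwρρ.eq.symm)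
        exact (mem_centralizer_singleton_iff.mp (hle hx)).symm
      have hmapt : ∀ g h : T, S.t ⁅g, h⁆ = ⁅S.t g, S.t h⁆ := fun g h => map_commutatorElement (S.t : T →* T) g h
      have hmapr : ∀ g h : T, S.ρ ⁅g, h⁆ = ⁅S.ρ g, S.ρ h⁆ := fun g h => map_commutatorElement (S.ρ : T →* T) g h
      have hmr : ∀ {x : T}, x ∈ S.X → ∀ g h : T, ⁅x, g * h⁆ = ⁅x, g⁆ * ⁅x, h⁆ := by
        intro x hx g h
        calc ⁅x, g * h⁆ = ⁅x, g⁆ * (g * ⁅x, h⁆ * g⁻¹) := by simp only [commutatorElement_def]; group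
          _ = ⁅x, g⁆ * ⁅x, h⁆ := by rw [mem_center_iff.mp (hcX hx h) g, mul_inv_cancel_right]
      set p := ⁅w, a⁆ with hp
      set r := ⁅w, S.ρ a⁆ with hr
      set s := ⁅S.ρ w, a⁆ with hs
      have hq : ⁅S.ρ w, S.ρ a⁆ = S.ρ p := (hmapr w a).symm
      have hpV : p ∈ S.V := hXc hwX' _
      have hrV : r ∈ S.V := hXc hwX' _
      have hsV : s ∈ S.V := hXc (S.X_rho hwX') _
      have hinvV : ∀ v ∈ S.V, v⁻¹ = v := fun v hv =>
        inv_eq_of_mul_eq_one_right (by rw [← pow_two]; exact S.sq v hv)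
      -- conjugation by `a`
      have hpsr : p * s = r := by
        set u := ⁅b, S.ρ a⁆ with hudef
        have huX : u ∈ S.X := hXT _ _
        have hbconj : a * b * a⁻¹ = w⁻¹ * b := by rw [hw, commutatorElement_def]; group
        have hraconj : a * S.ρ a * a⁻¹ = ⁅a, S.ρ a⁆ * S.ρ a := by rw [commutatorElement_def]; group
        have h1 : a * u * a⁻¹ = u * r := by
          calc a * u * a⁻¹ = ⁅a * b * a⁻¹, a * S.ρ a * a⁻¹⁆ := by
                rw [hudef]; simp only [commutatorElement_def]; group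
            _ = ⁅w⁻¹ * b, S.ρ a⁆ := by
                rw [hbconj, hraconj]
                simp only [commutatorElement_def]
                set k := a * S.ρ a * a⁻¹ * (S.ρ a)⁻¹ with hk
                have hkc : k ∈ center T := S.central haa'
                calc w⁻¹ * b * (k * S.ρ a) * (w⁻¹ * b)⁻¹ * (k * S.ρ a)⁻¹
                    = ((w⁻¹ * b) * k) * S.ρ a * (w⁻¹ * b)⁻¹ * (S.ρ a)⁻¹ * k⁻¹ := by group
                  _ = (k * (w⁻¹ * b)) * S.ρ a * (w⁻¹ * b)⁻¹ * (S.ρ a)⁻¹ * k⁻¹ := by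
                      rw [mem_center_iff.mp hkc (w⁻¹ * b)]
                  _ = k * (w⁻¹ * b * S.ρ a * (w⁻¹ * b)⁻¹ * (S.ρ a)⁻¹) * k⁻¹ := by group
                  _ = _ := by rw [← mem_center_iff.mp hkc _, mul_inv_cancel_right]
            _ = w⁻¹ * u * w * ⁅w⁻¹, S.ρ a⁆ := by rw [hudef]; simp only [commutatorElement_def]; group
            _ = u * ⁅w⁻¹, S.ρ a⁆ := by
                have hc : Commute w u := commutatorElement_eq_one_iff_commute.mp (hXw u huX)
                rw [hc.inv_left.eq, mul_assoc u, inv_mul_cancel, mul_one]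
            _ = u * r := by
                congr 1
                have h := comm_mul_left' (x := w) (y := w⁻¹) (w := S.ρ a) (hcX (inv_mem hwX') _)
                rw [mul_inv_cancel, commutatorElement_one_left, ← hr] at h
                rw [eq_inv_of_mul_eq_one_right h.symm, hinvV r hrV]
        obtain ⟨v, hv, huv⟩ : ∃ v ∈ S.V, u = w * S.ρ w * v :=
          ⟨_, hu', by group⟩
        have h2 : ⁅u, a⁆ = p * s := by
          rw [huv, comm_mul_left' (hcX (S.V_le_X hv) a), comm_mul_left' (hcX (S.X_rho hwX') a),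
            commutatorElement_eq_one_iff_commute.mpr
              (show Commute v a from (mem_center_iff.mp (S.central hv) a).symm), mul_one]
        rw [← h2]
        have h3 : ⁅u, a⁆ = u * (a * u * a⁻¹)⁻¹ := by simp only [commutatorElement_def]; group
        rw [h3, h1, mul_inv_rev, hinvV r hrV, ← mul_assoc, mem_center_iff.mp (S.central hrV) u,
          mul_inv_cancel_right]
      have hsq' : ∀ g : T, g ^ 2 ∈ S.X := fun g => hqV (by rw [map_pow]; exact hsq _)
      have hsuma : a * S.ρ a * S.ρ (S.ρ a) ∈ S.X := S.sum_mem (fun x hx => S.X_rho hx) (hXT _ _)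
      have hρr : S.ρ r = s * S.ρ p := by
        have h : ⁅S.ρ w, a⁆ * ⁅S.ρ w, S.ρ a⁆ * ⁅S.ρ w, S.ρ (S.ρ a)⁆ = 1 := by
          rw [← hmr (S.X_rho hwX'), ← hmr (S.X_rho hwX')]
          obtain ⟨x, hx, hxe⟩ : ∃ x ∈ S.X, x = a * S.ρ a * S.ρ (S.ρ a) := ⟨_, hsuma, rfl⟩
          rw [← hxe]
          have h0 : ⁅w, S.ρ (S.ρ x)⁆ = 1 := hXw _ (S.X_rho (S.X_rho hx))
          have h1 := congrArg S.ρ h0
          rw [hmapr, S.rr, map_one] at h1
          exact h1
        rw [hr, hmapr, eq_inv_of_mul_eq_one_right h, hq, hinvV _ (mul_mem hsV (S.rho_mem hpV))]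
      have hρs : S.ρ s = r * S.ρ p := by
        have h : ⁅w, S.ρ a⁆ * ⁅S.ρ w, S.ρ a⁆ * ⁅S.ρ (S.ρ w), S.ρ a⁆ = 1 := by
          rw [← comm_mul_left' (hcX (S.X_rho hwX') _), ← comm_mul_left' (hcX (S.X_rho (S.X_rho hwX')) _)]
          exact commutatorElement_eq_one_iff_commute.mpr (mem_center_iff.mp (S.central hsumw) _).symm
        rw [hs, hmapr, eq_inv_of_mul_eq_one_right h, hq, hinvV _ (mul_mem hrV (S.rho_mem hpV))]
      have hrs : r = s := by
        have hfix : S.ρ (r * s) = r * s := by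
          rw [map_mul, hρr, hρs]
          calc s * S.ρ p * (r * S.ρ p) = s * (S.ρ p * r) * S.ρ p := by group
            _ = s * (r * S.ρ p) * S.ρ p := by rw [mem_center_iff.mp (S.central hrV) (S.ρ p)]
            _ = s * r * (S.ρ p * S.ρ p) := by group
            _ = r * s := by
              rw [← pow_two, S.sq _ (S.rho_mem hpV), mul_one, mem_center_iff.mp (S.central hrV) s]
        have h := S.fpf hfix
        rw [eq_inv_of_mul_eq_one_left h, hinvV s hsV]
      have hp1 : p = 1 := by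
        rw [← hrs] at hpsr
        exact mul_eq_right.mp hpsr
      have hr1 : r = 1 := S.move r hrV (by rw [hρr, hp1, map_one, mul_one, hrs])
      -- hence `w` is central
      have htw : S.t w = w⁻¹ := by rw [hw, hmapt, hb, S.tt, commutatorElement_inv]
      have hwb : ∀ g : T, ⁅w, g⁆ = 1 → ⁅w, S.t g⁆ = 1 := by
        intro g hg
        have h := congrArg S.t hg
        rw [hmapt, htw, map_one] at h
        rw [commutatorElement_eq_one_iff_commute] at h ⊢
        simpa using h.inv_left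
      have hwc : w ∈ center T := by
        set H := centralizer ({w} : Set T) with hH
        have hmem : ∀ g : T, ⁅w, g⁆ = 1 → g ∈ H := fun g hg => mem_centralizer_singleton_iff.mpr
          (commutatorElement_eq_one_iff_commute.mp hg).eq.symm
        have hVH : S.V ≤ H := fun v hv => hmem v (hXw v (S.V_le_X hv))
        have htop : H.map π = ⊤ := by
          rw [eq_top_iff, ← hgen, closure_le]
          intro q hq'
          simp only [Set.mem_insert_iff, Set.mem_singleton_iff] at hq'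
          rcases hq' with rfl | rfl | rfl | rfl | rfl | rfl
          · refine ⟨S.ρ b, hmem _ ?_, rfl⟩
            rw [hb, ← S.comm]
            exact hwb _ hr1
          · exact ⟨b, hmem _ (hwb _ hp1), rfl⟩
          · exact ⟨S.ρ a, hmem _ hr1, rfl⟩
          · exact ⟨a, hmem _ hp1, rfl⟩
          · exact ⟨S.ρ w, hmem _ hww, congrArg (S.quot hne).ρ hwπ⟩
          · exact ⟨w, hmem _ (commutatorElement_self w), hwπ⟩
        have hHtop : H = ⊤ := by
          have h := Subgroup.comap_map_eq π H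
          rw [htop, comap_top, hπ, QuotientGroup.ker_mk', sup_eq_left.mpr hVH] at h
          exact h.symm
        exact mem_center_iff.mpr fun g => mem_centralizer_singleton_iff.mp (hHtop.ge (mem_top g))
      have hXcen : S.X ≤ center T := by
        have hρc : ∀ g ∈ center T, S.ρ g ∈ center T := fun g hg => mem_center_iff.mpr fun k => by
          obtain ⟨k, rfl⟩ := S.ρ.surjective k
          rw [← map_mul, ← map_mul, mem_center_iff.mp hg k]
        exact S.X_le hwX' hwV S.central hwc (hρc w hwc) (hρc _ (hρc w hwc))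
      -- so `w` is an involution fixed by `t`
      have hw2 : w * w = 1 := by
        have hab : ⁅a, b⁆ ∈ center T := hXcen (hXT a b)
        have h := comm_mul_left' (x := a) (y := a) (w := b) hab
        rw [← pow_two, commutatorElement_eq_one_iff_commute.mpr
          (show Commute (a ^ 2) b from (mem_center_iff.mp (hXcen (hsq' a)) b).symm)] at h
        have h' : ⁅a, b⁆ = w⁻¹ := (commutatorElement_inv b a).symm
        rw [h', ← mul_inv_rev, eq_comm, inv_eq_one] at h
        exact h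
      exact hwV ((S.fix_iff w).mp (htw.trans (inv_eq_of_mul_eq_one_right hw2)))

/-! ### The group with involutions outside the centre -/

/-- The defining relations of the Sylow 2-subgroup of `PSL₃(4)`. -/
structure GensL {T : Type u} [Group T] (z z' a a' b b' : T) : Prop where
  top : closure ({b', b, a', a, z', z} : Set T) = ⊤
  hz : z ^ 2 = 1
  hz' : z' ^ 2 = 1
  cz : z ∈ center T
  cz' : z' ∈ center T
  ha : a ^ 2 = 1
  ha' : a' ^ 2 = 1
  hb : b ^ 2 = 1
  hb' : b' ^ 2 = 1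
  haa : ⁅a', a⁆ = 1
  hba : ⁅b, a⁆ = z
  hba' : ⁅b, a'⁆ = z * z'
  hb'a : ⁅b', a⁆ = z * z'
  hb'a' : ⁅b', a'⁆ = z'
  hb'b : ⁅b', b⁆ = 1

theorem nonempty_mulEquiv {T : Type u} [Group T] [Finite T] {U : Type v} [Group U] [Finite U]
    (hT : Nat.card T = 64) (hU : Nat.card U = 64) {z z' a a' b b' : T} (G₁ : GensL z z' a a' b b')
    {w w' c c' d d' : U} (G₂ : GensL w w' c c' d d') : Nonempty (T ≃* U) := by
  classical
  set W := closure ({(b', d'), (b, d), (a', c'), (a, c), (z', w'), (z, w)} : Set (T × U)) with hW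
  have hsq : ∀ {p : T × U}, p.1 ^ 2 = 1 → p.2 ^ 2 = 1 → ∀ (H : Subgroup (T × U)), p ^ 2 ∈ H := fun h1 h2 H => by
    rw [show _ ^ 2 = (1 : T × U) from Prod.ext h1 h2]; exact one_mem H
  have hc1 : ∀ p : T × U, ⁅p, (z, w)⁆ = 1 := fun p => Prod.ext
    (commutatorElement_eq_one_iff_commute.mpr (mem_center_iff.mp G₁.cz p.1))
    (commutatorElement_eq_one_iff_commute.mpr (mem_center_iff.mp G₂.cz p.2))
  have hc2 : ∀ p : T × U, ⁅p, (z', w')⁆ = 1 := fun p => Prod.ext
    (commutatorElement_eq_one_iff_commute.mpr (mem_center_iff.mp G₁.cz' p.1))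
    (commutatorElement_eq_one_iff_commute.mpr (mem_center_iff.mp G₂.cz' p.2))
  have c0 : Nat.card (closure (∅ : Set (T × U))) ≤ 1 := by rw [Subgroup.closure_empty, card_bot]
  have c1 := (card_insert_le (x := (z, w)) (S := (∅ : Set (T × U))) (hsq G₁.hz G₂.hz _)
    (fun s hs => absurd hs (Set.notMem_empty s))).trans (Nat.mul_le_mul_left 2 c0)
  have c2 := (card_insert_le (x := (z', w')) (S := insert (z, w) (∅ : Set (T × U)))
    (hsq G₁.hz' G₂.hz' _) (fun s hs => by
      rcases hs with rfl | hs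
      · rw [hc1]; exact one_mem _
      · exact absurd hs (Set.notMem_empty s))).trans (Nat.mul_le_mul_left 2 c1)
  have c3 := (card_insert_le (x := (a, c)) (S := insert (z', w') (insert (z, w) (∅ : Set (T × U))))
    (hsq G₁.ha G₂.ha _) (fun s hs => by
      rcases hs with rfl | rfl | hs
      · rw [hc2]; exact one_mem _
      · rw [hc1]; exact one_mem _
      · exact absurd hs (Set.notMem_empty s))).trans (Nat.mul_le_mul_left 2 c2)
  have c4 := (card_insert_le (x := (a', c'))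
    (S := insert (a, c) (insert (z', w') (insert (z, w) (∅ : Set (T × U)))))
    (hsq G₁.ha' G₂.ha' _) (fun s hs => by
      rcases hs with rfl | rfl | rfl | hs
      · rw [show ⁅((a', c') : T × U), (a, c)⁆ = 1 from Prod.ext G₁.haa G₂.haa]; exact one_mem _
      · rw [hc2]; exact one_mem _
      · rw [hc1]; exact one_mem _
      · exact absurd hs (Set.notMem_empty s))).trans (Nat.mul_le_mul_left 2 c3)
  have c5 := (card_insert_le (x := (b, d))
    (S := insert (a', c') (insert (a, c) (insert (z', w') (insert (z, w) (∅ : Set (T × U))))))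
    (hsq G₁.hb G₂.hb _) (fun s hs => by
      rcases hs with rfl | rfl | rfl | rfl | hs
      · rw [show ⁅((b, d) : T × U), (a', c')⁆ = (z, w) * (z', w') from Prod.ext G₁.hba' G₂.hba']
        exact mul_mem (subset_closure (by simp)) (subset_closure (by simp))
      · rw [show ⁅((b, d) : T × U), (a, c)⁆ = (z, w) from Prod.ext G₁.hba G₂.hba]
        exact subset_closure (by simp)
      · rw [hc2]; exact one_mem _
      · rw [hc1]; exact one_mem _
      · exact absurd hs (Set.notMem_empty s))).trans (Nat.mul_le_mul_left 2 c4)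
  have c6 := (card_insert_le (x := (b', d'))
    (S := insert (b, d) (insert (a', c') (insert (a, c) (insert (z', w') (insert (z, w) (∅ : Set (T × U)))))))
    (hsq G₁.hb' G₂.hb' _) (fun s hs => by
      rcases hs with rfl | rfl | rfl | rfl | rfl | hs
      · rw [show ⁅((b', d') : T × U), (b, d)⁆ = 1 from Prod.ext G₁.hb'b G₂.hb'b]; exact one_mem _
      · rw [show ⁅((b', d') : T × U), (a', c')⁆ = (z', w') from Prod.ext G₁.hb'a' G₂.hb'a']
        exact subset_closure (by simp)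
      · rw [show ⁅((b', d') : T × U), (a, c)⁆ = (z, w) * (z', w') from Prod.ext G₁.hb'a G₂.hb'a]
        exact mul_mem (subset_closure (by simp)) (subset_closure (by simp))
      · rw [hc2]; exact one_mem _
      · rw [hc1]; exact one_mem _
      · exact absurd hs (Set.notMem_empty s))).trans (Nat.mul_le_mul_left 2 c5)
  have hW64 : Nat.card W ≤ 64 := by
    rw [hW]
    simpa [insert_empty_eq] using c6
  have hs1 : Function.Surjective ((MonoidHom.fst T U).comp W.subtype) := by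
    rw [← MonoidHom.range_eq_top, MonoidHom.range_eq_map, ← Subgroup.map_map, ← MonoidHom.range_eq_map,
      Subgroup.range_subtype, hW, MonoidHom.map_closure]
    simp only [Set.image_insert_eq, Set.image_singleton, MonoidHom.coe_fst]
    exact G₁.top
  have hs2 : Function.Surjective ((MonoidHom.snd T U).comp W.subtype) := by
    rw [← MonoidHom.range_eq_top, MonoidHom.range_eq_map, ← Subgroup.map_map, ← MonoidHom.range_eq_map,
      Subgroup.range_subtype, hW, MonoidHom.map_closure]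
    simp only [Set.image_insert_eq, Set.image_singleton, MonoidHom.coe_snd]
    exact G₂.top
  have hb1 := hs1.bijective_of_nat_card_le (hT ▸ hW64)
  have hb2 := hs2.bijective_of_nat_card_le (hU ▸ hW64)
  exact ⟨(MulEquiv.ofBijective _ hb1).symm.trans (MulEquiv.ofBijective _ hb2)⟩

theorem exists_gensL {T : Type u} [Group T] [Finite T] (S : Setting T) (h64 : Nat.card T = 64)
    (hsq : ∀ x : T, x ^ 2 ∈ S.V) {a : T} (ha2 : a ^ 2 = 1) (haV : a ∉ S.V) :
    ∃ z z' a a' b b' : T, GensL z z' a a' b b' := by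
  have hne : S.V ≠ ⊤ := fun h => haV (h ▸ mem_top a)
  have haX : a ∉ S.X := by
    intro ha
    obtain ⟨g, hg⟩ : ∃ g, g ∉ S.X := by
      by_contra h
      push Not at h
      have := S.card_X hne
      rw [show S.X = ⊤ from eq_top_iff.mpr fun x _ => h x, card_top, h64] at this
      omega
    obtain ⟨hsX, hsV, -, -, -, -, -, -, -⟩ := S.struct h64 hsq hg
    set s := g⁻¹ * S.t g with hs
    have hts : S.t s = s⁻¹ := by rw [hs, map_mul, map_inv, S.tt]; group
    have hs2 : s ^ 2 ≠ 1 := fun h => hsV ((S.fix_iff s).mp (by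
      rw [hts]; exact inv_eq_of_mul_eq_one_right (by rw [← pow_two, h])))
    obtain ⟨v, hv, h | h | h | h⟩ := S.X_cases hsX hsV ha
    · exact haV (h ▸ hv)
    all_goals
      rw [h, (show Commute v _ from (mem_center_iff.mp (S.central hv) _).symm).mul_pow, S.sq v hv, one_mul] at ha2
    · exact hs2 ha2
    · rw [← map_pow, MulEquiv.map_eq_one_iff] at ha2; exact hs2 ha2
    · rw [← map_pow, ← map_pow, MulEquiv.map_eq_one_iff, MulEquiv.map_eq_one_iff] at ha2; exact hs2 ha2
  obtain ⟨-, -, hwV, hw1, haa, hbb, hba', hb'a, htop⟩ := S.struct h64 hsq haX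
  exact ⟨_, _, _, _, _, _, ⟨htop, S.sq _ hwV, S.sq _ (S.rho_mem hwV), S.central hwV,
    S.central (S.rho_mem hwV), ha2, by rw [← map_pow, ha2, map_one],
    by rw [← map_pow, ha2, map_one], by rw [← map_pow, ← map_pow, ha2, map_one, map_one],
    haa, rfl, hba', hb'a, (map_commutatorElement (S.ρ : T →* T) (S.t a) a).symm, hbb⟩⟩

end CfsgLib.PGroups.Suzuki.FourCentre
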