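import Mathlib
import Cfsg.Agent.Lib.Classical.LinearOrder
import Cfsg.Agent.Lib.PGroups.Suzuki.FourCentre

/-!
# The Sylow 2-subgroup of `PSL₃(4)`
-/

set_option autoImplicit false
set_option linter.all false

open scoped commutatorElement MatrixGroups

namespace CfsgLib.PGroups.Suzuki.LinearThreeFour

open Subgroup CfsgLib.PGroups.Suzuki.FourCentre

universe u

variable {F : Type u} [Field F]

/-- Upper unitriangular matrices. -/
def el (u v z : F) : SL(3, F) := ⟨!![1, u, z; 0, 1, v; 0, 0, 1], by simp [Matrix.det_fin_three]⟩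

theorem el_mul (u v z u' v' z' : F) : el u v z * el u' v' z' = el (u + u') (v + v') (z + z' + u * v') := by
  refine Subtype.ext ?_
  show (!![1, u, z; 0, 1, v; 0, 0, 1] : Matrix (Fin 3) (Fin 3) F) * !![1, u', z'; 0, 1, v'; 0, 0, 1] =
    !![1, u + u', z + z' + u * v'; 0, 1, v + v'; 0, 0, 1]
  ext i j
  fin_cases i <;> fin_cases j <;> simp [Matrix.mul_apply, Fin.sum_univ_three] <;> ring

theorem el_zero : el (0 : F) 0 0 = 1 := by
  refine Subtype.ext ?_
  ext i j
  fin_cases i <;> fin_cases j <;> simp [el]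

theorem el_comm (u v z u' v' z' : F) :
    ⁅el u v z, el u' v' z'⁆ = el 0 0 (u * v' - u' * v) := by
  rw [commutatorElement_def, mul_inv_eq_iff_eq_mul, mul_inv_eq_iff_eq_mul, el_mul, el_mul, el_mul]
  congr 1 <;> ring

variable [Fintype F]

theorem exists_gensL (hF : Fintype.card F = 4)
    (P : Sylow 2 (Matrix.ProjectiveSpecialLinearGroup (Fin 3) F)) :
    Nat.card P = 64 ∧ ∃ z z' a a' b b' : ↥(P : Subgroup (Matrix.ProjectiveSpecialLinearGroup (Fin 3) F)),
      GensL z z' a a' b b' := by
  classical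
  haveI := Fact.mk Nat.prime_two
  have h2 : (2 : F) = 0 := by
    have h := Nat.cast_card_eq_zero F
    rw [hF] at h
    have h' : (2 : F) * 2 = 0 := by rw [← h]; norm_num
    rcases mul_eq_zero.1 h' with e | e <;> exact e
  obtain ⟨w, -, hw⟩ := Finset.exists_mem_notMem_of_card_lt_card (s := ({0, 1} : Finset F))
    (t := Finset.univ) (Finset.card_le_two.trans_lt (by rw [Finset.card_univ, hF]; norm_num))
  simp only [Finset.mem_insert, Finset.mem_singleton, not_or] at hw
  have hw2 : w * w = w + 1 := by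
    have h4 : w ^ 4 = w := hF ▸ FiniteField.pow_card w
    have h : w * (w - 1) * (w * w + w + 1) = 0 := by linear_combination h4
    have := (mul_eq_zero.1 h).resolve_left (mul_ne_zero hw.1 (sub_ne_zero.2 hw.2))
    linear_combination this - (w + 1) * h2
  set c : F := w + 1 with hc
  have huniv : ∀ x : F, x = 0 ∨ x = 1 ∨ x = c ∨ x = 1 + c := by
    intro x
    have hc0 : c ≠ 0 := fun h => hw.2 (by linear_combination h - h2)
    have hc1 : c ≠ 1 := fun h => hw.1 (by linear_combination h)
    have h4 : ({0, 1, c, 1 + c} : Finset F).card = 4 := by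
      rw [Finset.card_insert_of_notMem, Finset.card_insert_of_notMem, Finset.card_pair]
      · intro h; exact one_ne_zero (by linear_combination -h : (1 : F) = 0)
      · simp only [Finset.mem_insert, Finset.mem_singleton, not_or]
        exact ⟨hc1.symm, fun h => hc0 (by linear_combination -h)⟩
      · simp only [Finset.mem_insert, Finset.mem_singleton, not_or]
        exact ⟨zero_ne_one, hc0.symm, fun h => hc1 (by linear_combination -h - h2)⟩
    have := Finset.mem_univ x
    rw [← Finset.eq_univ_of_card _ (h4.trans hF.symm)] at this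
    simpa using this
  let π := QuotientGroup.mk' (center SL(3, F))
  let e : F × F × F → Matrix.ProjectiveSpecialLinearGroup (Fin 3) F := fun p => π (el p.1 p.2.1 p.2.2)
  have hemul : ∀ p q : F × F × F, e p * e q = e (p.1 + q.1, p.2.1 + q.2.1, p.2.2 + q.2.2 + p.1 * q.2.1) :=
    fun p q => by show π _ * π _ = π _; rw [← map_mul, el_mul]
  have he1 : e (0, 0, 0) = 1 := by show π _ = 1; rw [el_zero, map_one]
  let U : Subgroup (Matrix.ProjectiveSpecialLinearGroup (Fin 3) F) :=
    { carrier := Set.range e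
      one_mem' := ⟨(0, 0, 0), he1⟩
      mul_mem' := by
        rintro _ _ ⟨p, rfl⟩ ⟨q, rfl⟩
        exact ⟨_, (hemul p q).symm⟩
      inv_mem' := by
        rintro _ ⟨p, rfl⟩
        refine ⟨(-p.1, -p.2.1, -p.2.2 + p.1 * p.2.1), eq_inv_of_mul_eq_one_left ?_⟩
        rw [hemul, ← he1]
        congr 1
        refine Prod.ext ?_ (Prod.ext ?_ ?_) <;> simp }
  have heinj : Function.Injective e := by
    intro p q h
    have h1 : (el p.1 p.2.1 p.2.2)⁻¹ * el q.1 q.2.1 q.2.2 ∈ center SL(3, F) := QuotientGroup.eq.mp h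
    obtain ⟨r, -, hr⟩ := Matrix.SpecialLinearGroup.mem_center_iff.mp h1
    have h2' : (el q.1 q.2.1 q.2.2 : Matrix (Fin 3) (Fin 3) F) =
        (el p.1 p.2.1 p.2.2 : Matrix (Fin 3) (Fin 3) F) * Matrix.scalar (Fin 3) r := by
      rw [hr, ← Matrix.SpecialLinearGroup.coe_mul, mul_inv_cancel_left]
    have e00 := congrFun (congrFun h2' 0) 0
    simp [el] at e00
    subst e00
    have e01 := congrFun (congrFun h2' 0) 1
    have e12 := congrFun (congrFun h2' 1) 2
    have e02 := congrFun (congrFun h2' 0) 2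
    simp [el] at e01 e12 e02
    exact Prod.ext e01.symm (Prod.ext e12.symm e02.symm)
  let eU : F × F × F ≃ U := Equiv.ofInjective e heinj
  have hU : Nat.card U = 64 := by
    rw [← Nat.card_congr eU, Nat.card_prod, Nat.card_prod, Nat.card_eq_fintype_card, hF]
  have hfac : (Nat.card (Matrix.ProjectiveSpecialLinearGroup (Fin 3) F)).factorization 2 = 6 := by
    have h1 := CfsgLib.Classical.card_SL (F := F) 3 (by norm_num)
    have h3 := CfsgLib.Classical.card_SL_eq_gcd_mul_card_PSL (F := F) (ι := Fin 3)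
    rw [hF, Fintype.card_fin, show Nat.gcd 3 (4 - 1) = 3 from rfl] at h3
    rw [hF, Fin.prod_univ_three, h3] at h1
    norm_num [-Nat.card_eq_fintype_card] at h1
    have h5 : Nat.card (Matrix.ProjectiveSpecialLinearGroup (Fin 3) F) = 20160 := by omega
    rw [h5, show (20160 : ℕ) = 2 ^ 6 * 315 from rfl, Nat.factorization_mul (by norm_num) (by norm_num),
      Finsupp.add_apply, Nat.Prime.factorization_pow Nat.prime_two, Finsupp.single_eq_same,
      Nat.factorization_eq_zero_of_not_dvd (by norm_num)]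
  let P' : Sylow 2 (Matrix.ProjectiveSpecialLinearGroup (Fin 3) F) :=
    Sylow.ofCard U (by rw [hU, hfac]; rfl)
  let ε : U ≃* ↥(P : Subgroup (Matrix.ProjectiveSpecialLinearGroup (Fin 3) F)) := P'.equiv P
  refine ⟨(Nat.card_congr ε.toEquiv).symm.trans hU, ε (eU (0, 0, 1)), ε (eU (0, 0, w)), ε (eU (1, 0, 0)),
    ε (eU (c, 0, 0)), ε (eU (0, 1, 0)), ε (eU (0, c, 0)), ?_⟩
  have hmul : ∀ p q : F × F × F, eU p * eU q = eU (p.1 + q.1, p.2.1 + q.2.1, p.2.2 + q.2.2 + p.1 * q.2.1) :=
    fun p q => Subtype.ext (hemul p q)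
  have h1' : eU (0, 0, 0) = 1 := Subtype.ext he1
  have hcomm : ∀ p q : F × F × F, ⁅eU p, eU q⁆ = eU (0, 0, p.1 * q.2.1 - q.1 * p.2.1) := fun p q =>
    Subtype.ext (by
      show ⁅e p, e q⁆ = e _
      show ⁅π _, π _⁆ = π _
      rw [← map_commutatorElement, el_comm])
  have hsq : ∀ p : F × F × F, p.1 * p.2.1 = 0 → eU p ^ 2 = 1 := fun p hp => by
    rw [pow_two, hmul, ← h1', hp]
    congr 1
    refine Prod.ext ?_ (Prod.ext ?_ ?_)
    · show p.1 + p.1 = 0; linear_combination p.1 * h2
    · show p.2.1 + p.2.1 = 0; linear_combination p.2.1 * h2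
    · show p.2.2 + p.2.2 + 0 = 0; linear_combination p.2.2 * h2
  have hcen : ∀ z : F, eU (0, 0, z) ∈ center U := fun z => mem_center_iff.mpr fun g => by
    obtain ⟨p, rfl⟩ := eU.surjective g
    rw [hmul, hmul]
    congr 1
    refine Prod.ext ?_ (Prod.ext ?_ ?_) <;> simp [add_comm]
  have hzz : eU (0, 0, 1) * eU (0, 0, w) = eU (0, 0, c) := by
    rw [hmul]; congr 1; refine Prod.ext ?_ (Prod.ext ?_ ?_) <;> simp [hc, add_comm]
  have hεc : ∀ {g : U}, g ∈ center U → ε g ∈ center _ := fun {g} hg => mem_center_iff.mpr fun k => by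
    obtain ⟨k, rfl⟩ := ε.surjective k
    rw [← map_mul, ← map_mul, mem_center_iff.mp hg k]
  have hεsq : ∀ {p : F × F × F}, p.1 * p.2.1 = 0 → ε (eU p) ^ 2 = 1 := fun {p} hp => by
    rw [← map_pow, hsq p hp, map_one]
  have hεcomm : ∀ p q : F × F × F, ⁅ε (eU p), ε (eU q)⁆ = ε (eU (0, 0, p.1 * q.2.1 - q.1 * p.2.1)) := fun p q => by
    rw [← hcomm]; exact (map_commutatorElement ε.toMonoidHom _ _).symm
  refine ⟨?_, hεsq (by simp), hεsq (by simp), hεc (hcen 1), hεc (hcen w), hεsq (by simp), hεsq (by simp),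
    hεsq (by simp), hεsq (by simp), ?_, ?_, ?_, ?_, ?_, ?_⟩
  · rw [eq_top_iff]
    intro g _
    obtain ⟨g, rfl⟩ := ε.surjective g
    obtain ⟨⟨u, v, z⟩, rfl⟩ := eU.surjective g
    set H := closure ({ε (eU (0, c, 0)), ε (eU (0, 1, 0)), ε (eU (c, 0, 0)), ε (eU (1, 0, 0)),
      ε (eU (0, 0, w)), ε (eU (0, 0, 1))} : Set _) with hH
    have hdec : eU (u, v, z) = eU (0, 0, z) * eU (0, v, 0) * eU (u, 0, 0) := by
      rw [hmul, hmul]; simp
    rw [hdec, map_mul, map_mul]
    have hu : ∀ x : F, ε (eU (x, 0, 0)) ∈ H ∧ ε (eU (0, x, 0)) ∈ H := fun x => by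
      rcases huniv x with rfl | rfl | rfl | rfl
      · rw [h1', map_one]; exact ⟨one_mem _, one_mem _⟩
      · exact ⟨subset_closure (by simp), subset_closure (by simp)⟩
      · exact ⟨subset_closure (by simp), subset_closure (by simp)⟩
      · constructor
        · have : eU (1 + c, 0, 0) = eU (1, 0, 0) * eU (c, 0, 0) := by rw [hmul]; simp
          rw [this, map_mul]; exact mul_mem (subset_closure (by simp)) (subset_closure (by simp))
        · have : eU (0, 1 + c, 0) = eU (0, 1, 0) * eU (0, c, 0) := by rw [hmul]; simp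
          rw [this, map_mul]; exact mul_mem (subset_closure (by simp)) (subset_closure (by simp))
    refine mul_mem (mul_mem ?_ (hu v).2) (hu u).1
    rcases huniv z with rfl | rfl | rfl | rfl
    · rw [h1', map_one]; exact one_mem _
    · exact subset_closure (by simp)
    · rw [← hzz, map_mul]; exact mul_mem (subset_closure (by simp)) (subset_closure (by simp))
    · rw [show (1 : F) + c = w by linear_combination h2]
      exact subset_closure (by simp)
  · rw [hεcomm]; simp [h1']
  · rw [hεcomm]; congr 2; refine Prod.ext rfl (Prod.ext rfl ?_); show _ = (1 : F); linear_combination -h2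
  · rw [hεcomm, ← map_mul, hzz]; congr 2; refine Prod.ext rfl (Prod.ext rfl ?_); show _ = c
    linear_combination -c * h2
  · rw [hεcomm, ← map_mul, hzz]; congr 2; refine Prod.ext rfl (Prod.ext rfl ?_); show _ = c
    linear_combination -c * h2
  · rw [hεcomm]; congr 2; refine Prod.ext rfl (Prod.ext rfl ?_); show _ = w
    linear_combination -hw2 - (2 * w + 1) * h2
  · rw [hεcomm]; simp [h1']

end CfsgLib.PGroups.Suzuki.LinearThreeFour
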