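import Mathlib
import Cfsg.Prelude.Def_LieRecognition
import Cfsg.Agent.Lib.Classical.Unitary.Matrix
import Cfsg.Agent.Lib.Classical.Unitary.Structure

/-!
# Sylow 2-subgroups of `PSU₃(2ⁿ)`

A Sylow 2-subgroup of `PSU₃(2ⁿ)` is parametrised by the pairs `(s, a)` with `a + a^q = s^(q+1)`, the product being
`(s, a) (s', a') = (s + s', a + a' + s^q s')`.  It follows that it is a Suzuki 2-group of order `q³` with centre of
order `q`.
-/

set_option autoImplicit false
set_option linter.all false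

open scoped commutatorElement

namespace CfsgLib.PGroups.Suzuki.Unitary

open CfsgLib.Classical CfsgLib.Classical.Herm

universe u v

variable {F : Type u} [Field F] {σ : F →+* F}

/-- The parameters of a Sylow 2-subgroup of the three dimensional unitary group. -/
abbrev Pts (σ : F →+* F) : Type u := {p : F × F // p.2 + σ p.2 = σ p.1 * p.1}

/-- A parametrisation of a group by `Pts σ`. -/
structure Param (σ : F →+* F) (P : Type v) [Group P] where
  el : Pts σ ≃ P
  mul : ∀ x y z : Pts σ, z.1 = (x.1.1 + y.1.1, x.1.2 + y.1.2 + σ x.1.1 * y.1.1) → el x * el y = el z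

theorem add_self' [CharP F 2] (x : F) : x + x = 0 := CharTwo.add_self_eq_zero x

theorem exists_pt (hσ : IsInvol σ) (s : F) : ∃ x : Pts σ, x.1.1 = s := by
  obtain ⟨a, ha⟩ := hσ.exists_trace_eq (μ := σ s * s) (by rw [map_mul, hσ.invol, mul_comm])
  exact ⟨⟨(s, a), ha⟩, rfl⟩

theorem card_pts [CharP F 2] [Finite F] (hσ : IsInvol σ) {q : ℕ}
    (hq : Nat.card (fixedSub σ) = q) (hF : Nat.card F = q ^ 2) : Nat.card (Pts σ) = q ^ 3 := by
  classical
  haveI : Fintype F := Fintype.ofFinite F
  have hfib : ∀ s : F, Nat.card {a : F // a + σ a = σ s * s} = q := by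
    intro s
    obtain ⟨x, rfl⟩ := exists_pt hσ s
    have hx := x.2
    refine (Nat.card_congr ?_).trans hq
    exact
      { toFun := fun a => ⟨a.1 + x.1.2, by
          rw [mem_fixedSub, map_add]
          have := a.2
          linear_combination this + hx - add_self' a.1 - add_self' x.1.2 + add_self' (σ x.1.1 * x.1.1)⟩
        invFun := fun c => ⟨c.1 + x.1.2, by
          have hc : σ c.1 = c.1 := c.2
          rw [map_add, hc]
          linear_combination hx + add_self' c.1⟩
        left_inv := fun a => Subtype.ext (by show a.1 + x.1.2 + x.1.2 = a.1; rw [add_assoc, add_self', add_zero])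
        right_inv := fun c => Subtype.ext (by show c.1 + x.1.2 + x.1.2 = c.1; rw [add_assoc, add_self', add_zero]) }
  let e : Pts σ ≃ Σ s : F, {a : F // a + σ a = σ s * s} :=
    { toFun := fun x => ⟨x.1.1, x.1.2, x.2⟩
      invFun := fun y => ⟨(y.1, y.2.1), y.2.2⟩
      left_inv := fun x => rfl
      right_inv := fun y => rfl }
  rw [Nat.card_congr e, Nat.card_sigma]
  simp only [hfib, Finset.sum_const, Finset.card_univ, smul_eq_mul]
  rw [← Nat.card_eq_fintype_card, hF]
  ring

namespace Param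

variable {P : Type v} [Group P] (X : Param σ P) [CharP F 2]

/-- The parameter of the identity. -/
def zero : Pts σ := ⟨(0, 0), by simp⟩

theorem el_zero : X.el zero = 1 := by
  have h := X.mul zero zero zero (by simp [zero])
  exact mul_left_cancel (h.trans (mul_one _).symm)

theorem eq_one_iff (x : Pts σ) : X.el x = 1 ↔ x.1 = (0, 0) := by
  rw [← X.el_zero, X.el.apply_eq_iff_eq, Subtype.ext_iff]
  rfl

variable (hσ : IsInvol σ)
include hσ X

/-- The product of two parameters. -/
def prod (x y : Pts σ) : Pts σ :=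
  ⟨(x.1.1 + y.1.1, x.1.2 + y.1.2 + σ x.1.1 * y.1.1), by
    simp only [map_add, map_mul, hσ.invol]
    linear_combination x.2 + y.2⟩

theorem mul' (x y : Pts σ) : X.el x * X.el y = X.el (prod hσ x y) := X.mul x y _ rfl

theorem commute_iff (x y : Pts σ) :
    X.el x * X.el y = X.el y * X.el x ↔ σ x.1.1 * y.1.1 = σ y.1.1 * x.1.1 := by
  rw [X.mul' hσ, X.mul' hσ, X.el.apply_eq_iff_eq, Subtype.ext_iff]
  simp only [prod, Prod.mk.injEq]
  constructor
  · intro h
    linear_combination h.2
  · intro h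
    exact ⟨add_comm _ _, by linear_combination h⟩

theorem mem_center_iff (x : Pts σ) : X.el x ∈ Subgroup.center P ↔ x.1.1 = 0 := by
  rw [Subgroup.mem_center_iff]
  constructor
  · intro h
    by_contra hs
    obtain ⟨l, hl⟩ := hσ.exists_ne
    obtain ⟨y, hy⟩ := exists_pt hσ (l * x.1.1)
    have h1 := ((X.commute_iff hσ x y).mp (h (X.el y)).symm)
    rw [hy, map_mul] at h1
    have h2 : (σ l - l) * (σ x.1.1 * x.1.1) = 0 := by linear_combination -h1
    rcases mul_eq_zero.mp h2 with h3 | h3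
    · exact hl (sub_eq_zero.mp h3)
    · rcases mul_eq_zero.mp h3 with h4 | h4
      · exact hs (IsInvol.apply_eq_zero_iff.1 h4)
      · exact hs h4
  · intro h g
    obtain ⟨y, rfl⟩ := X.el.surjective g
    rw [eq_comm, X.commute_iff hσ, h, map_zero, zero_mul, mul_zero]

theorem sq (x : Pts σ) : ∃ z : Pts σ, z.1 = (0, σ x.1.1 * x.1.1) ∧ X.el x * X.el x = X.el z :=
  ⟨prod hσ x x, by simp [prod, add_self'], X.mul' hσ x x⟩

theorem sq_mem_center (g : P) : g * g ∈ Subgroup.center P := by
  obtain ⟨x, rfl⟩ := X.el.surjective g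
  obtain ⟨z, hz, he⟩ := X.sq hσ x
  rw [he, X.mem_center_iff hσ, hz]

theorem mem_center_iff_sq (g : P) : g ∈ Subgroup.center P ↔ g * g = 1 := by
  obtain ⟨x, rfl⟩ := X.el.surjective g
  obtain ⟨z, hz, he⟩ := X.sq hσ x
  rw [X.mem_center_iff hσ, he, X.eq_one_iff, hz, Prod.mk.injEq, mul_eq_zero,
    IsInvol.apply_eq_zero_iff, or_self, and_iff_right rfl]

theorem card_center [Finite F] {q : ℕ} (hq : Nat.card (fixedSub σ) = q) :
    Nat.card (Subgroup.center P) = q := by
  refine (Nat.card_congr ?_).trans hq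
  let e : {x : Pts σ // x.1.1 = 0} ≃ Subgroup.center P :=
    X.el.subtypeEquiv fun x => (X.mem_center_iff hσ x).symm
  refine e.symm.trans
    { toFun := fun x => ⟨x.1.1.2, ?_⟩
      invFun := fun c => ⟨⟨(0, c.1), ?_⟩, rfl⟩
      left_inv := fun x => Subtype.ext (Subtype.ext (Prod.ext x.2.symm rfl))
      right_inv := fun c => rfl }
  · rw [mem_fixedSub]
    have h1 := x.1.2
    rw [x.2, mul_zero] at h1
    linear_combination h1 - add_self' x.1.1.2
  · rw [mem_fixedSub.mp c.2, mul_zero]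
    exact add_self' _

theorem commutator_eq : commutator P = Subgroup.center P := by
  refine le_antisymm ?_ ?_
  · rw [commutator_eq_closure, Subgroup.closure_le]
    rintro _ ⟨a, b, rfl⟩
    obtain ⟨x, rfl⟩ := X.el.surjective a
    obtain ⟨y, rfl⟩ := X.el.surjective b
    obtain ⟨c, hc⟩ := X.el.surjective ⁅X.el x, X.el y⁆
    rw [← hc, SetLike.mem_coe, X.mem_center_iff hσ]
    have h : X.el c * (X.el y * X.el x) = X.el x * X.el y := by rw [hc, commutatorElement_def]; group
    rw [X.mul' hσ, X.mul' hσ, X.mul' hσ, X.el.apply_eq_iff_eq, Subtype.ext_iff] at h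
    have h1 := congrArg Prod.fst h
    simp only [prod] at h1
    linear_combination h1
  · intro g hg
    obtain ⟨x, rfl⟩ := X.el.surjective g
    have hs := (X.mem_center_iff hσ x).mp hg
    obtain ⟨y₁, hy₁⟩ := exists_pt hσ (1 : F)
    have hfix : σ x.1.2 = x.1.2 := by
      have h1 := x.2
      rw [hs, mul_zero] at h1
      linear_combination h1 - add_self' x.1.2
    obtain ⟨t, ht⟩ := hσ.exists_trace_eq hfix
    obtain ⟨y₂, hy₂⟩ := exists_pt hσ t
    have h : X.el x = ⁅X.el y₁, X.el y₂⁆ := by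
      rw [commutatorElement_def, eq_mul_inv_iff_mul_eq, eq_mul_inv_iff_mul_eq]
      rw [X.mul' hσ, X.mul' hσ, X.mul' hσ, X.el.apply_eq_iff_eq, Subtype.ext_iff]
      simp only [prod, hs, hy₁, hy₂, map_one, map_zero, zero_add, Prod.mk.injEq]
      refine ⟨by ring, ?_⟩
      linear_combination -ht + add_self' (σ t)
    rw [h]
    exact Subgroup.commutator_mem_commutator (Subgroup.mem_top _) (Subgroup.mem_top _)

omit X hσ in
/-- Scaling a parameter by a fixed scalar. -/
def smulPt (l : fixedSub σ) (x : Pts σ) : Pts σ :=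
  ⟨((l : F) * x.1.1, (l : F) ^ 2 * x.1.2), by
    have hl : σ (l : F) = (l : F) := l.2
    simp only [map_mul, map_pow, hl]
    linear_combination (l : F) ^ 2 * x.2⟩

omit X hσ in
theorem smulPt_smulPt (l m : fixedSub σ) (x : Pts σ) : smulPt l (smulPt m x) = smulPt (l * m) x :=
  Subtype.ext (by simp [smulPt, mul_assoc, mul_pow])

omit X hσ in
theorem smulPt_one (x : Pts σ) : smulPt (1 : fixedSub σ) x = x :=
  Subtype.ext (by simp [smulPt])

omit X hσ in
/-- Scaling as a permutation. -/
def smulEquiv (l : (fixedSub σ)ˣ) : Pts σ ≃ Pts σ where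
  toFun := smulPt (l : fixedSub σ)
  invFun := smulPt ((l⁻¹ : (fixedSub σ)ˣ) : fixedSub σ)
  left_inv x := by rw [smulPt_smulPt, Units.inv_mul, smulPt_one]
  right_inv x := by rw [smulPt_smulPt, Units.mul_inv, smulPt_one]

/-- The automorphism `(s, a) ↦ (l s, l² a)` for a fixed scalar `l`. -/
noncomputable def scale (l : (fixedSub σ)ˣ) : MulAut P where
  toEquiv := X.el.symm.trans ((smulEquiv l).trans X.el)
  map_mul' a b := by
    obtain ⟨x, rfl⟩ := X.el.surjective a
    obtain ⟨y, rfl⟩ := X.el.surjective b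
    simp only [X.mul' hσ, Equiv.toFun_as_coe, Equiv.trans_apply, Equiv.symm_apply_apply,
      X.el.apply_eq_iff_eq]
    have hl : σ ((l : fixedSub σ) : F) = ((l : fixedSub σ) : F) := (l : fixedSub σ).2
    refine Subtype.ext (Prod.ext ?_ ?_)
    · simp only [smulEquiv, Equiv.coe_fn_mk, smulPt, prod]; ring
    · simp only [smulEquiv, Equiv.coe_fn_mk, smulPt, prod, map_mul, hl]; ring

theorem scale_apply (l : (fixedSub σ)ˣ) (x : Pts σ) :
    ∃ z : Pts σ, z.1 = (((l : fixedSub σ) : F) * x.1.1, ((l : fixedSub σ) : F) ^ 2 * x.1.2) ∧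
      scale X hσ l (X.el x) = X.el z :=
  ⟨smulPt (l : fixedSub σ) x, rfl, by simp [scale, smulEquiv]⟩

/-- The scalar automorphisms as a homomorphism. -/
noncomputable def scaleHom : (fixedSub σ)ˣ →* MulAut P where
  toFun := scale X hσ
  map_one' := MulEquiv.ext fun a => by
    obtain ⟨x, rfl⟩ := X.el.surjective a
    obtain ⟨z, hz, he⟩ := scale_apply X hσ 1 x
    rw [he, MulAut.one_apply, X.el.apply_eq_iff_eq]
    exact Subtype.ext (by simp [hz])
  map_mul' l m := MulEquiv.ext fun a => by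
    obtain ⟨x, rfl⟩ := X.el.surjective a
    obtain ⟨z, hz, he⟩ := scale_apply X hσ (l * m) x
    obtain ⟨y, hy, hye⟩ := scale_apply X hσ m x
    obtain ⟨w, hw, hwe⟩ := scale_apply X hσ l y
    rw [he, MulAut.mul_apply, hye, hwe, X.el.apply_eq_iff_eq]
    exact Subtype.ext (by simp [hz, hw, hy, mul_assoc, mul_pow])

theorem isSuzukiTwoGroup [Finite F] {n : ℕ} (hn : 2 ≤ n) (hq : Nat.card (fixedSub σ) = 2 ^ n)
    (hF : Nat.card F = (2 ^ n) ^ 2) : Cfsg.IsSuzukiTwoGroup P := by
  classical
  haveI : Finite P := Finite.of_equiv _ X.el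
  haveI : Fintype F := Fintype.ofFinite F
  have hcP : Nat.card P = (2 ^ n) ^ 3 := by rw [← Nat.card_congr X.el, card_pts hσ hq hF]
  have hcen := X.card_center hσ hq
  refine ⟨inferInstance, IsPGroup.of_card (n := n * 3) (by rw [hcP, pow_mul]), ?_, ?_,
    (scaleHom X hσ).range, ?_, ?_⟩
  · by_contra h
    push Not at h
    have htop : Subgroup.center P = ⊤ := eq_top_iff.mpr fun g _ =>
      Subgroup.mem_center_iff.mpr fun k => h k g
    rw [htop, Subgroup.card_top, hcP] at hcen
    have h2 : 1 < 2 ^ n := Nat.one_lt_two_pow (by omega)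
    have := Nat.pow_lt_pow_right h2 (show 1 < 3 by norm_num)
    rw [pow_one] at this
    omega
  · have h4 : 4 ≤ Nat.card (Subgroup.center P) := by
      rw [hcen]
      calc 4 = 2 ^ 2 := rfl
        _ ≤ 2 ^ n := Nat.pow_le_pow_right two_pos hn
    haveI : Fintype (Subgroup.center P) := Fintype.ofFinite _
    rw [Nat.card_eq_fintype_card] at h4
    obtain ⟨a, b, c, hab, hac, hbc⟩ := Fintype.two_lt_card_iff.mp (show 2 < Fintype.card (Subgroup.center P) by omega)
    have hsq : ∀ z : Subgroup.center P, (z : P) * z = 1 := fun z => (X.mem_center_iff_sq hσ _).mp z.2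
    have hne : ∀ {z w : Subgroup.center P}, z ≠ w → (z : P) ≠ w := fun h h' => h (Subtype.ext h')
    by_cases ha : (a : P) = 1
    · exact ⟨b, c, hne hbc, ha ▸ (hne hab).symm, hsq b, ha ▸ (hne hac).symm, hsq c⟩
    · by_cases hb : (b : P) = 1
      · exact ⟨a, c, hne hac, ha, hsq a, hb ▸ (hne hbc).symm, hsq c⟩
      · exact ⟨a, b, hne hab, ha, hsq a, hb, hsq b⟩
  · exact isCyclic_of_surjective _ (scaleHom X hσ).rangeRestrict_surjective
  · intro g k hg hg2 hk hk2
    obtain ⟨x, rfl⟩ := X.el.surjective g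
    obtain ⟨y, rfl⟩ := X.el.surjective k
    have hxs := (X.mem_center_iff hσ x).mp ((X.mem_center_iff_sq hσ _).mpr hg2)
    have hys := (X.mem_center_iff hσ y).mp ((X.mem_center_iff_sq hσ _).mpr hk2)
    rw [Ne, X.eq_one_iff] at hg hk
    have hxa : x.1.2 ≠ 0 := fun h => hg (Prod.ext hxs h)
    have hya : y.1.2 ≠ 0 := fun h => hk (Prod.ext hys h)
    have hfix : ∀ {z : Pts σ}, z.1.1 = 0 → z.1.2 ∈ fixedSub σ := by
      intro z hz
      rw [mem_fixedSub]
      have h1 := z.2
      rw [hz, mul_zero] at h1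
      linear_combination h1 - add_self' z.1.2
    haveI : CharP (fixedSub σ) 2 := inferInstance
    obtain ⟨r, hr⟩ := (PerfectRing.bijective_frobenius (R := fixedSub σ) (p := 2)).2
      (⟨y.1.2, hfix hys⟩ / ⟨x.1.2, hfix hxs⟩)
    change r ^ 2 = _ at hr
    have hr0 : r ≠ 0 := fun h => by
      rw [h, zero_pow two_ne_zero, eq_comm, div_eq_zero_iff] at hr
      rcases hr with h' | h'
      · exact hya (congrArg Subtype.val h')
      · exact hxa (congrArg Subtype.val h')
    have hr' : ((r : fixedSub σ) : F) ^ 2 * x.1.2 = y.1.2 := by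
      have h := congrArg Subtype.val hr
      push_cast at h
      rw [h, div_mul_cancel₀ _ hxa]
    refine ⟨⟨scaleHom X hσ (Units.mk0 r hr0), Units.mk0 r hr0, rfl⟩, ?_, ?_⟩
    · obtain ⟨z, hz, he⟩ := scale_apply X hσ (Units.mk0 r hr0) x
      show scale X hσ (Units.mk0 r hr0) (X.el x) = _
      rw [he, X.el.apply_eq_iff_eq]
      refine Subtype.ext ?_
      rw [hz, hxs, mul_zero]
      exact Prod.ext hys.symm hr'
    · rintro ⟨_, l, rfl⟩ hl
      obtain ⟨z, hz, he⟩ := scale_apply X hσ l x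
      have h1 : z = y := X.el.injective (he.symm.trans hl)
      have h2 : ((l : fixedSub σ) : F) ^ 2 * x.1.2 = y.1.2 := by rw [← h1, hz]
      have h3 : ((l : fixedSub σ) : F) = (r : F) :=
        CharTwo.sq_injective (mul_right_cancel₀ hxa (h2.trans hr'.symm))
      have h4 : l = Units.mk0 r hr0 := Units.ext (Subtype.ext h3)
      subst h4
      rfl

end Param

/-- An Eichler transformation composed with another one with the same centre. -/
theorem eich_mul {V : Type v} [AddCommGroup V] [Module F V] [FiniteDimensional F V] {B : V →ₛₗ[σ] V →ₗ[F] F}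
    (h : IsHerm B) {u x y : V} (hu : B u u = 0) (hux : B u x = 0) (huy : B u y = 0) {a b : F}
    (ha : a + σ a = -B x x) (hb : b + σ b = -B y y) (huxy : B u (x + y) = 0)
    (hc : a + b - B x y + σ (a + b - B x y) = -B (x + y) (x + y)) :
    h.eich hu hux ha * h.eich hu huy hb = h.eich hu huxy hc := by
  ext z
  simp only [Subgroup.coe_mul, LinearEquiv.mul_apply, IsHerm.eich_apply, map_add, map_sub,
    LinearMap.add_apply, smul_right, hu, hux, huy, h.eq_zero_symm hux, h.eq_zero_symm huy]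
  match_scalars <;> ring

section PSU

variable [Fintype F] {n : ℕ}

theorem charP_two (hn : 1 ≤ n) (hF : Fintype.card F = (2 ^ n) ^ 2) : CharP F 2 := by
  refine CharTwo.of_one_ne_zero_of_two_eq_zero one_ne_zero ?_
  have h := Nat.cast_card_eq_zero F
  rw [hF, Nat.cast_pow, Nat.cast_pow, ← pow_mul] at h
  simpa using eq_zero_of_pow_eq_zero h

theorem exists_param (hn : 1 ≤ n) (hF : Fintype.card F = (2 ^ n) ^ 2)
    (S : Sylow 2 (Cfsg.PSU 3 F (2 ^ n))) :
    Nonempty (Param (powHom hF) ↥(S : Subgroup (Cfsg.PSU 3 F (2 ^ n)))) := by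
  classical
  haveI := charP_two hn hF
  haveI := Fact.mk Nat.prime_two
  set B := hermStd 3 hF with hBdef
  have h : IsHerm B := hermStd_isHerm hF
  have hσ : IsInvol (powHom hF) := powHom_isInvol hF
  have h3 : Module.finrank F (Fin 3 → F) = 3 := finrank_std
  obtain ⟨u, hu, huu⟩ := h.exists_isotropic (by omega)
  obtain ⟨f, huf, hff⟩ := h.exists_isotropic_partner hu huu
  have hd := h.hyperbolic_disc (f := f) huu huf
  have hr := h.finrank_orth (h.pair_nondeg hd)
  rw [h.pair_finrank hd, h3] at hr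
  obtain ⟨w, hw, hww⟩ := h.exists_norm_in (h.orth_nondeg (h.pair_nondeg hd)) (by omega) (map_one _)
  rw [h.mem_orth] at hw
  have huw : B u w = 0 := hw u (Submodule.subset_span (Set.mem_insert u _))
  have hfw : B f w = 0 := hw f (Submodule.subset_span (Set.mem_insert_of_mem u rfl))
  have hfu : B f u = 1 := by rw [← h.symm, huf, map_one]
  have hux : ∀ s : F, B u (s • w) = 0 := fun s => by rw [smul_right, huw, mul_zero]
  have hcond : ∀ x : Pts (powHom hF), x.1.2 + powHom hF x.1.2 = -B (x.1.1 • w) (x.1.1 • w) := fun x => by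
    rw [smul_left, smul_right, hww, mul_one, CharTwo.neg_eq]
    exact x.2
  let E : Pts (powHom hF) → HSU B := fun x =>
    ⟨h.eich huu (hux x.1.1) (hcond x), h.eich_mem huu (hux x.1.1) (hcond x)⟩
  have hEmul : ∀ x y z : Pts (powHom hF),
      z.1 = (x.1.1 + y.1.1, x.1.2 + y.1.2 + powHom hF x.1.1 * y.1.1) → E x * E y = E z := by
    intro x y z hz
    have hz1 : z.1.1 = x.1.1 + y.1.1 := congrArg Prod.fst hz
    have hz2 : z.1.2 = x.1.2 + y.1.2 + powHom hF x.1.1 * y.1.1 := congrArg Prod.snd hz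
    have hB : B (x.1.1 • w) (y.1.1 • w) = powHom hF x.1.1 * y.1.1 := by
      rw [smul_left, smul_right, hww, mul_one]
    refine Subtype.ext ?_
    show h.eich huu (hux x.1.1) (hcond x) * h.eich huu (hux y.1.1) (hcond y) = h.eich huu (hux z.1.1) (hcond z)
    rw [eich_mul h huu (hux _) (hux _) (hcond x) (hcond y) (by rw [← add_smul]; exact hux _)
      (by rw [← add_smul, hB, CharTwo.sub_eq_add, ← hz1, ← hz2]; exact hcond z)]
    refine Subtype.ext (LinearEquiv.ext fun t => ?_)
    simp only [IsHerm.eich_apply, ← add_smul, hB, CharTwo.sub_eq_add, hz1, hz2]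
  have hEinj : Function.Injective E := by
    intro x y hxy
    have h1 : (h.eich huu (hux x.1.1) (hcond x) : (Fin 3 → F) ≃ₗ[F] (Fin 3 → F)) f =
        (h.eich huu (hux y.1.1) (hcond y) : (Fin 3 → F) ≃ₗ[F] (Fin 3 → F)) f := by
      have h0 : (E x : HU B) = (E y : HU B) := congrArg Subtype.val hxy
      exact congrArg (fun g : HU B => (g : (Fin 3 → F) ≃ₗ[F] (Fin 3 → F)) f) h0
    simp only [IsHerm.eich_apply, huf, one_smul, mul_one, smul_left, h.eq_zero_symm hfw, mul_zero,
      sub_zero] at h1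
    have e1 := congrArg (B w) h1
    have e2 := congrArg (B f) h1
    simp only [map_add, smul_right, hww, h.eq_zero_symm hfw, h.eq_zero_symm huw, hff, hfw, hfu, mul_one,
      mul_zero, add_zero, zero_add] at e1 e2
    exact Subtype.ext (Prod.ext e1 e2)
  -- the subgroup of Eichler transformations
  let U : Subgroup (HSU B) :=
    { carrier := Set.range E
      one_mem' := ⟨⟨(0, 0), by simp⟩, by
        have h0 := hEmul ⟨(0, 0), by simp⟩ ⟨(0, 0), by simp⟩ ⟨(0, 0), by simp⟩ (by simp)
        exact mul_left_cancel (h0.trans (mul_one _).symm)⟩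
      mul_mem' := by
        rintro _ _ ⟨x, rfl⟩ ⟨y, rfl⟩
        exact ⟨⟨(x.1.1 + y.1.1, x.1.2 + y.1.2 + powHom hF x.1.1 * y.1.1), by
          simp only [map_add, map_mul, hσ.invol]
          linear_combination x.2 + y.2⟩, (hEmul x y _ rfl).symm⟩
      inv_mem' := by
        rintro _ ⟨x, rfl⟩
        have hx' : (x.1.2 + powHom hF x.1.1 * x.1.1) + powHom hF (x.1.2 + powHom hF x.1.1 * x.1.1) =
            powHom hF x.1.1 * x.1.1 := by
          simp only [map_add, map_mul, hσ.invol]
          linear_combination x.2 + add_self' (powHom hF x.1.1 * x.1.1)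
        refine ⟨⟨(x.1.1, x.1.2 + powHom hF x.1.1 * x.1.1), hx'⟩, eq_inv_of_mul_eq_one_left ?_⟩
        rw [hEmul _ x ⟨(0, 0), by simp⟩ (by
          simp only [Prod.mk.injEq]
          exact ⟨(add_self' _).symm, by
            linear_combination -add_self' x.1.2 - add_self' (powHom hF x.1.1 * x.1.1)⟩)]
        have h0 := hEmul ⟨(0, 0), by simp⟩ ⟨(0, 0), by simp⟩ ⟨(0, 0), by simp⟩ (by simp)
        exact mul_left_cancel (h0.trans (mul_one _).symm) }
  let eU : Pts (powHom hF) ≃ U := Equiv.ofInjective E hEinj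
  have hcU : Nat.card U = (2 ^ n) ^ 3 := by
    rw [← Nat.card_congr eU, card_pts hσ (card_fixed_powHom hF) (by rw [Nat.card_eq_fintype_card, hF])]
  -- into the projective group
  let ψ : U →* Cfsg.PSU 3 F (2 ^ n) :=
    (QuotientGroup.mk' (Subgroup.center (Cfsg.SU 3 F (2 ^ n)))).comp
      ((suEquiv 3 hF).symm.toMonoidHom.comp U.subtype)
  have hodd : Odd (Nat.card (Subgroup.center (Cfsg.SU 3 F (2 ^ n)))) := by
    rw [card_center_SU hF 3 le_rfl]
    exact Odd.of_dvd_nat ⟨2 ^ (n - 1), by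
      rw [← pow_succ', show n - 1 + 1 = n by omega]⟩ (Nat.gcd_dvd_right _ _)
  have hψ : Function.Injective ψ := by
    rw [← MonoidHom.ker_eq_bot_iff, eq_bot_iff]
    intro g hg
    have h1 : (suEquiv 3 hF).symm (g : HSU B) ∈ Subgroup.center (Cfsg.SU 3 F (2 ^ n)) :=
      (QuotientGroup.eq_one_iff _).mp hg
    have h2 : orderOf ((suEquiv 3 hF).symm (g : HSU B)) ∣ (2 ^ n) ^ 3 := by
      rw [MulEquiv.orderOf_eq, Subgroup.orderOf_coe, ← hcU]
      exact orderOf_dvd_natCard g
    have h3 : orderOf ((suEquiv 3 hF).symm (g : HSU B)) ∣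
        Nat.card (Subgroup.center (Cfsg.SU 3 F (2 ^ n))) := Subgroup.orderOf_dvd_natCard _ h1
    have h4 := Nat.eq_one_of_dvd_coprimes
      (((Nat.coprime_two_left.mpr hodd).pow_left n).pow_left 3) h2 h3
    rw [MulEquiv.orderOf_eq, Subgroup.orderOf_coe, orderOf_eq_one_iff] at h4
    rw [h4]
    exact one_mem _
  have hcR : Nat.card ψ.range = (2 ^ n) ^ 3 := by
    rw [← Nat.card_congr (MonoidHom.ofInjective hψ).toEquiv, hcU]
  have hfac : (Nat.card (Cfsg.PSU 3 F (2 ^ n))).factorization 2 = n * 3 := by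
    have hsu := card_SU hF 3 (by norm_num)
    simp only [Finset.prod_range_succ, Finset.prod_range_zero, one_mul] at hsu
    norm_num [-Nat.card_eq_fintype_card] at hsu
    have hq1 : 1 ≤ (2 ^ n) ^ 2 := Nat.one_le_pow _ _ (by positivity)
    have hsu' : Nat.card (Cfsg.SU 3 F (2 ^ n)) =
        (2 ^ n) ^ 3 * (((2 ^ n) ^ 2 - 1) * ((2 ^ n) ^ 3 + 1)) := by
      refine Nat.eq_of_mul_eq_mul_left (Nat.add_pos_right (2 ^ n) one_pos) ?_
      rw [hsu]; ring
    have hq' : Nat.card (Cfsg.PSU 3 F (2 ^ n)) *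
        Nat.card (Subgroup.center (Cfsg.SU 3 F (2 ^ n))) = Nat.card (Cfsg.SU 3 F (2 ^ n)) :=
      (Subgroup.card_eq_card_quotient_mul_card_subgroup _).symm
    have heven : Even (2 ^ n) := Nat.even_pow.mpr ⟨even_two, by omega⟩
    have hoddR : ¬ 2 ∣ ((2 ^ n) ^ 2 - 1) * ((2 ^ n) ^ 3 + 1) := by
      rw [Nat.Prime.dvd_mul Nat.prime_two, not_or]
      constructor
      · have := Nat.even_pow.mpr ⟨heven, two_ne_zero⟩
        rw [even_iff_two_dvd] at this
        omega
      · have := Nat.even_pow.mpr ⟨heven, three_ne_zero⟩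
        rw [even_iff_two_dvd] at this
        omega
    have hne : ((2 ^ n) ^ 2 - 1) * ((2 ^ n) ^ 3 + 1) ≠ 0 := fun h0 => hoddR (h0 ▸ dvd_zero 2)
    have h5 : (_ : ℕ).factorization 2 = (_ : ℕ).factorization 2 := congrArg (fun m : ℕ => m.factorization 2) hq'
    rw [hsu', Nat.factorization_mul (Nat.card_pos.ne') (Nat.card_pos.ne'), Finsupp.add_apply,
      Nat.factorization_mul (by positivity) hne, Finsupp.add_apply,
      Nat.factorization_eq_zero_of_not_dvd (fun hd => Nat.not_even_iff_odd.mpr hodd (even_iff_two_dvd.mpr hd)),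
      Nat.factorization_eq_zero_of_not_dvd hoddR, add_zero, add_zero, ← pow_mul,
      Nat.Prime.factorization_pow Nat.prime_two, Finsupp.single_eq_same] at h5
    exact h5
  let S' : Sylow 2 (Cfsg.PSU 3 F (2 ^ n)) := Sylow.ofCard ψ.range (by rw [hcR, hfac, pow_mul])
  let e : U ≃* ↥(S : Subgroup (Cfsg.PSU 3 F (2 ^ n))) := (MonoidHom.ofInjective hψ).trans (S'.equiv S)
  exact ⟨⟨eU.trans e.toEquiv, fun x y z hz => by
    show e (eU x) * e (eU y) = e (eU z)
    rw [← map_mul]
    exact congrArg e (Subtype.ext (hEmul x y z hz))⟩⟩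

end PSU

end CfsgLib.PGroups.Suzuki.Unitary
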