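import Mathlib
import Cfsg.Agent.Lib.PGroups.Suzuki.Weights

/-!
Owner: helper11. Maps on subgroups which are additive and equivariant for an automorphism acting on both sides
as multiplication by the same generator of the multiplicative group of a field with `2 ^ n` elements.
-/

set_option autoImplicit false
set_option maxHeartbeats 400000

namespace CfsgLib.PGroups.Suzuki.Equivariant

universe u v

variable {F : Type v} [Field F] [Fintype F] [CharP F 2] {n : ℕ} {μ : F}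

omit [CharP F 2] in
theorem sqrt_sq (hn : 1 ≤ n) (hF : Fintype.card F = 2 ^ n) (u : F) : (u ^ 2 ^ (n - 1)) ^ 2 = u := by
  rw [← pow_mul, ← pow_succ, show n - 1 + 1 = n by omega, ← hF, FiniteField.pow_card]

omit [CharP F 2] in
theorem sqrt_mul_self (hn : 1 ≤ n) (hF : Fintype.card F = 2 ^ n) (u : F) :
    (u * u) ^ 2 ^ (n - 1) = u := by
  rw [← pow_two, ← pow_mul, mul_comm, pow_mul, sqrt_sq hn hF]

omit [CharP F 2] in
theorem exists_pow_eq (hn : 1 ≤ n) (hF : Fintype.card F = 2 ^ n) (hμ : orderOf μ = 2 ^ n - 1) {a b : F}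
    (ha : a ≠ 0) (hb : b ≠ 0) : ∃ i : ℕ, μ ^ i * a = b := by
  classical
  have h2 : 2 ≤ 2 ^ n := le_self_pow₀ (by norm_num) (by omega)
  have hinj : Set.InjOn (fun i => μ ^ i) (Finset.range (2 ^ n - 1) : Finset ℕ) := fun i hi j hj h => by
    simp only [Finset.coe_range, Set.mem_Iio] at hi hj
    exact pow_injOn_Iio_orderOf (hμ ▸ hi) (hμ ▸ hj) h
  have hμ0 : μ ≠ 0 := fun h => by
    have h1 := pow_orderOf_eq_one μ
    rw [hμ, h, zero_pow (by omega)] at h1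
    exact zero_ne_one h1
  have heq : (Finset.range (2 ^ n - 1)).image (fun i => μ ^ i) = Finset.univ.erase 0 := by
    refine Finset.eq_of_subset_of_card_le (fun x hx => ?_) ?_
    · obtain ⟨i, -, rfl⟩ := Finset.mem_image.mp hx
      exact Finset.mem_erase.mpr ⟨pow_ne_zero _ hμ0, Finset.mem_univ _⟩
    · rw [Finset.card_image_of_injOn hinj, Finset.card_range, Finset.card_erase_of_mem (Finset.mem_univ _),
        Finset.card_univ, hF]
  have hmem : b / a ∈ Finset.univ.erase (0 : F) :=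
    Finset.mem_erase.mpr ⟨div_ne_zero hb ha, Finset.mem_univ _⟩
  rw [← heq] at hmem
  obtain ⟨i, -, hi⟩ := Finset.mem_image.mp hmem
  exact ⟨i, by rw [show μ ^ i = b / a from hi, div_mul_cancel₀ _ ha]⟩

theorem weight_one (hn : 2 ≤ n) (hF : Fintype.card F = 2 ^ n) (hμ : orderOf μ = 2 ^ n - 1)
    (B : F → F → F) (hl : ∀ u u' v, B (u + u') v = B u v + B u' v)
    (hr : ∀ u v v', B u (v + v') = B u v + B u v') (heq : ∀ u v, B (μ * u) (μ * v) = μ * B u v) :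
    ∃ K, ∀ u v, B u v = K * (u * v) ^ 2 ^ (n - 1) := by
  classical
  obtain ⟨s, c, hB, hs⟩ := monomials hF (by omega) B hl hr heq
  have hμ0 : μ ≠ 0 := fun h => by
    have h1 := pow_orderOf_eq_one μ
    have h4 : 4 ≤ 2 ^ n := le_trans (by norm_num) (Nat.pow_le_pow_right two_pos hn)
    rw [hμ, h, zero_pow (by omega)] at h1
    exact zero_ne_one h1
  have hpair : ∀ p ∈ s, (p.1 : ℕ) = n - 1 ∧ (p.2 : ℕ) = n - 1 := by
    intro p hp
    have h2 : μ ^ (2 ^ (p.1 : ℕ) + 2 ^ (p.2 : ℕ)) = μ ^ (2 ^ (n - 1) + 2 ^ (n - 1)) := by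
      rw [← two_mul (2 ^ (n - 1)), ← pow_succ', show n - 1 + 1 = n by omega, pow_add, (hs p hp).2,
        ← hF, FiniteField.pow_card]
    have h3 := pow_eq_modEq hμ0 h2
    rw [hμ] at h3
    rcases two_pows hn p.1.2 p.2.2 (by omega) (by omega) h3 with ⟨h4, h5⟩ | ⟨h4, h5⟩ <;> exact ⟨h4, h5⟩
  refine ⟨∑ p ∈ s, c p, fun u v => ?_⟩
  rw [hB, Finset.sum_mul]
  exact Finset.sum_congr rfl fun p hp => by rw [(hpair p hp).1, (hpair p hp).2, mul_pow]

variable {Q : Type u} [Group Q] {σ : MulAut Q}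

/-- The standing hypotheses on a coordinate of a subgroup. -/
structure Coord (σ : MulAut Q) (μ : F) (B : Subgroup Q) (c : Q → F) : Prop where
  map_mem : ∀ x ∈ B, σ x ∈ B
  add : ∀ x ∈ B, ∀ y ∈ B, c (x * y) = c x + c y
  equiv : ∀ x ∈ B, c (σ x) = μ * c x
  surj : ∀ u, ∃ x ∈ B, c x = u

omit [Fintype F] [CharP F 2] in
theorem Coord.one {B : Subgroup Q} {c : Q → F} (h : Coord σ μ B c) : c 1 = 0 := by
  have := h.add 1 B.one_mem 1 B.one_mem
  rwa [mul_one, left_eq_add] at this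

omit [Fintype F] [CharP F 2] in
theorem Coord.inv {B : Subgroup Q} {c : Q → F} (h : Coord σ μ B c) {x : Q} (hx : x ∈ B) :
    c x⁻¹ = -c x := by
  rw [eq_neg_iff_add_eq_zero, ← h.add _ (B.inv_mem hx) _ hx, inv_mul_cancel, h.one]

omit [Fintype F] [CharP F 2] in
/-- An additive map vanishing with the coordinate depends only on the coordinate. -/
theorem Coord.congr {B : Subgroup Q} {c f : Q → F} (h : Coord σ μ B c)
    (hf : ∀ x ∈ B, ∀ y ∈ B, f (x * y) = f x + f y) (hz : ∀ x ∈ B, c x = 0 → f x = 0) {x y : Q}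
    (hx : x ∈ B) (hy : y ∈ B) (he : c x = c y) : f x = f y := by
  have h0 : c (x⁻¹ * y) = 0 := by
    rw [h.add _ (B.inv_mem hx) _ hy, h.inv hx, he, neg_add_cancel]
  have h1 := hf x hx _ (B.mul_mem (B.inv_mem hx) hy)
  rw [mul_inv_cancel_left, hz _ (B.mul_mem (B.inv_mem hx) hy) h0, add_zero] at h1
  exact h1.symm

omit [CharP F 2] in
theorem exists_linear (hn : 1 ≤ n) (hF : Fintype.card F = 2 ^ n) (hμ : orderOf μ = 2 ^ n - 1)
    {B : Subgroup Q} {c f : Q → F} (h : Coord σ μ B c)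
    (hf : ∀ x ∈ B, ∀ y ∈ B, f (x * y) = f x + f y) (hz : ∀ x ∈ B, c x = 0 → f x = 0)
    (he : ∀ x ∈ B, f (σ x) = μ * f x) : ∃ K, ∀ x ∈ B, f x = K * c x := by
  obtain ⟨x₁, hx₁, hc₁⟩ := h.surj 1
  have hpow : ∀ i : ℕ, (σ ^ i) x₁ ∈ B ∧ c ((σ ^ i) x₁) = μ ^ i ∧ f ((σ ^ i) x₁) = μ ^ i * f x₁ := by
    intro i
    induction i with
    | zero => simpa using ⟨hx₁, hc₁⟩
    | succ i ih =>
      rw [pow_succ', MulAut.mul_apply]
      refine ⟨h.map_mem _ ih.1, ?_, ?_⟩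
      · rw [h.equiv _ ih.1, ih.2.1, pow_succ']
      · rw [he _ ih.1, ih.2.2, pow_succ', mul_assoc]
  refine ⟨f x₁, fun x hx => ?_⟩
  by_cases hc : c x = 0
  · rw [hz x hx hc, hc, mul_zero]
  obtain ⟨i, hi⟩ := exists_pow_eq hn hF hμ one_ne_zero hc
  rw [mul_one] at hi
  obtain ⟨h1, h2, h3⟩ := hpow i
  rw [h.congr hf hz hx h1 (hi.symm.trans h2.symm), h3, ← hi, mul_comm]

theorem exists_bilinear (hn : 2 ≤ n) (hF : Fintype.card F = 2 ^ n) (hμ : orderOf μ = 2 ^ n - 1)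
    {B B' : Subgroup Q} {c c' : Q → F} (h : Coord σ μ B c) (h' : Coord σ μ B' c') (f : Q → Q → F)
    (hl : ∀ x ∈ B, ∀ y ∈ B, ∀ a ∈ B', f (x * y) a = f x a + f y a)
    (hr : ∀ x ∈ B, ∀ a ∈ B', ∀ b ∈ B', f x (a * b) = f x a + f x b)
    (hzl : ∀ x ∈ B, ∀ a ∈ B', c x = 0 → f x a = 0) (hzr : ∀ x ∈ B, ∀ a ∈ B', c' a = 0 → f x a = 0)
    (he : ∀ x ∈ B, ∀ a ∈ B', f (σ x) (σ a) = μ * f x a) :
    ∃ K, ∀ x ∈ B, ∀ a ∈ B', f x a = K * (c x * c' a) ^ 2 ^ (n - 1) := by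
  choose L hL using h.surj
  choose L' hL' using h'.surj
  have key : ∀ x ∈ B, ∀ a ∈ B', f x a = f (L (c x)) (L' (c' a)) := fun x hx a ha =>
    (h.congr (f := fun z => f z a) (fun z hz w hw => hl z hz w hw a ha) (fun z hz => hzl z hz a ha)
      hx (hL _).1 (hL _).2.symm).trans
    (h'.congr (f := fun z => f (L (c x)) z) (hr _ (hL _).1) (fun z hz => hzr _ (hL _).1 z hz)
      ha (hL' _).1 (hL' _).2.symm)
  obtain ⟨K, hK⟩ := weight_one hn hF hμ (fun u v => f (L u) (L' v)) (fun u u' v => by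
      show f (L (u + u')) (L' v) = _
      rw [← hl _ (hL u).1 _ (hL u').1 _ (hL' v).1, key _ (B.mul_mem (hL u).1 (hL u').1) _ (hL' v).1,
        h.add _ (hL u).1 _ (hL u').1, (hL u).2, (hL u').2, (hL' v).2])
    (fun u v v' => by
      show f (L u) (L' (v + v')) = _
      rw [← hr _ (hL u).1 _ (hL' v).1 _ (hL' v').1, key _ (hL u).1 _ (B'.mul_mem (hL' v).1 (hL' v').1),
        h'.add _ (hL' v).1 _ (hL' v').1, (hL u).2, (hL' v).2, (hL' v').2])
    (fun u v => by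
      show f (L (μ * u)) (L' (μ * v)) = _
      rw [← he _ (hL u).1 _ (hL' v).1, key _ (h.map_mem _ (hL u).1) _ (h'.map_mem _ (hL' v).1),
        h.equiv _ (hL u).1, h'.equiv _ (hL' v).1, (hL u).2, (hL' v).2])
  exact ⟨K, fun x hx a ha => (key x hx a ha).trans (hK _ _)⟩

/-- An alternating equivariant biadditive map vanishes. -/
theorem bilinear_eq_zero (hn : 2 ≤ n) (hF : Fintype.card F = 2 ^ n) (hμ : orderOf μ = 2 ^ n - 1)
    {B : Subgroup Q} {c : Q → F} (h : Coord σ μ B c) (f : Q → Q → F)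
    (hl : ∀ x ∈ B, ∀ y ∈ B, ∀ a ∈ B, f (x * y) a = f x a + f y a)
    (hr : ∀ x ∈ B, ∀ a ∈ B, ∀ b ∈ B, f x (a * b) = f x a + f x b)
    (hzl : ∀ x ∈ B, ∀ a ∈ B, c x = 0 → f x a = 0) (hzr : ∀ x ∈ B, ∀ a ∈ B, c a = 0 → f x a = 0)
    (he : ∀ x ∈ B, ∀ a ∈ B, f (σ x) (σ a) = μ * f x a) (halt : ∀ x ∈ B, f x x = 0) :
    ∀ x ∈ B, ∀ a ∈ B, f x a = 0 := by
  obtain ⟨K, hK⟩ := exists_bilinear hn hF hμ h h f hl hr hzl hzr he
  obtain ⟨x₁, hx₁, hc₁⟩ := h.surj 1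
  have h1 := halt x₁ hx₁
  rw [hK x₁ hx₁ x₁ hx₁, hc₁, one_mul, one_pow, mul_one] at h1
  intro x hx a ha
  rw [hK x hx a ha, h1, zero_mul]

end CfsgLib.PGroups.Suzuki.Equivariant
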