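import Mathlib
import Cfsg.Agent.Lib.PGroups.Suzuki.EquivariantMaps

/-!
Owner: helper11. A 2-group with an involutory automorphism whose fixed points are elementary abelian of order
`2 ^ n` and permuted transitively by a commuting automorphism of order `2 ^ n - 1`: it is abelian, or of order
`2 ^ (3 n)` with an abelian inverted subgroup of index `2 ^ n`.
-/

set_option autoImplicit false
set_option maxHeartbeats 800000
set_option linter.unusedSectionVars false
set_option linter.style.haveILetI false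

open scoped commutatorElement

namespace CfsgLib.PGroups.Suzuki.InvolutorySinger

open Equivariant Subgroup

universe u v

variable {Q : Type u} [Group Q] [Finite Q] {F : Type v} [Field F] [Fintype F] [CharP F 2]
  {α σ : MulAut Q} {C : Subgroup Q} {n : ℕ} {ec : Q → F} {μ : F}

/-- The standing hypotheses. -/
structure Singer (α σ : MulAut Q) (C : Subgroup Q) (n : ℕ) (ec : Q → F) (μ : F) : Prop where
  two_le : 2 ≤ n
  cardF : Fintype.card F = 2 ^ n
  ord : orderOf μ = 2 ^ n - 1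
  pgroup : IsPGroup 2 Q
  inv : ∀ x, α (α x) = x
  comm : ∀ x, α (σ x) = σ (α x)
  per : σ ^ (2 ^ n - 1) = 1
  fix : ∀ x, x ∈ C ↔ α x = x
  central : ∀ c ∈ C, ∀ g : Q, g * c = c * g
  sqC : ∀ c ∈ C, c * c = 1
  cardC : Nat.card C = 2 ^ n
  coord : Coord σ μ C ec
  inj : ∀ c ∈ C, ec c = 0 → c = 1

/-- An abelian inverted subgroup, homocyclic of exponent `2 ^ j`. -/
structure Level (α σ : MulAut Q) (C : Subgroup Q) (n j : ℕ) (A : Subgroup Q) : Prop where
  one_le : 1 ≤ j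
  abelian : ∀ a ∈ A, ∀ b ∈ A, a * b = b * a
  le : C ≤ A
  map : ∀ a ∈ A, σ a ∈ A
  neg : ∀ a ∈ A, α a = a⁻¹
  exp : ∀ a ∈ A, a ^ 2 ^ j = 1
  card : Nat.card A = (2 ^ n) ^ j

/-- The top coordinate. -/
def top (ec : Q → F) (j : ℕ) (a : Q) : F := ec (a ^ 2 ^ (j - 1))

/-- The coordinate of the coset of an element moved into `A`. -/
def coset (α : MulAut Q) (ec : Q → F) (j : ℕ) (x : Q) : F := top ec j (x⁻¹ * α x)

theorem map_mem_normalizer {β : MulAut Q} {A : Subgroup Q} (h : ∀ a ∈ A, β a ∈ A) [Finite A] {x : Q}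
    (hx : x ∈ normalizer (A : Set Q)) : β x ∈ normalizer (A : Set Q) := by
  have hsurj : ∀ a ∈ A, ∃ b ∈ A, β b = a := fun a ha => by
    have hinj : Function.Injective fun b : A => (⟨β b, h b b.2⟩ : A) := fun b b' e =>
      Subtype.ext (β.injective (congrArg Subtype.val e))
    obtain ⟨b, hb⟩ := (Finite.injective_iff_surjective.mp hinj) ⟨a, ha⟩
    exact ⟨b, b.2, congrArg Subtype.val hb⟩
  rw [mem_normalizer_iff] at hx ⊢
  intro a
  constructor
  · intro ha
    obtain ⟨b, hb, rfl⟩ := hsurj a ha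
    rw [← map_inv, ← map_mul, ← map_mul]
    exact h _ ((hx b).mp hb)
  · intro ha
    obtain ⟨b, hb, hbe⟩ := hsurj _ ha
    have : a = β (x⁻¹ * b * x) := by
      rw [map_mul, map_mul, hbe, map_inv]; group
    rw [this]
    refine h _ ((hx _).mpr ?_)
    convert hb using 1
    group

/-- The elements of the normaliser fixed modulo `A`. -/
def next (α : MulAut Q) (A : Subgroup Q) : Subgroup Q where
  carrier := {x | x ∈ normalizer (A : Set Q) ∧ x⁻¹ * α x ∈ A}
  one_mem' := ⟨one_mem _, by simp⟩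
  mul_mem' := fun {x y} hx hy => ⟨mul_mem hx.1 hy.1, by
    rw [map_mul, show (x * y)⁻¹ * (α x * α y) = (y⁻¹ * (x⁻¹ * α x) * y) * (y⁻¹ * α y) by group]
    exact A.mul_mem ((mem_normalizer_iff''.mp hy.1 _).mp hx.2) hy.2⟩
  inv_mem' := fun {x} hx => ⟨inv_mem hx.1, by
    rw [map_inv, inv_inv, show x * (α x)⁻¹ = x * (x⁻¹ * α x)⁻¹ * x⁻¹ by group]
    exact (mem_normalizer_iff.mp hx.1 _).mp (A.inv_mem hx.2)⟩

theorem mem_normalizer_of_conj_le {A : Subgroup Q} {g : Q} (h : ∀ a ∈ A, g * a * g⁻¹ ∈ A) :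
    g ∈ normalizer (A : Set Q) := by
  have hmap : A.map (MulAut.conj g).toMonoidHom = A := by
    refine eq_of_le_of_card_ge (fun _ ⟨a, ha, he⟩ => he ▸ h a ha) ?_
    rw [card_map_of_injective (MulAut.conj g).injective]
  exact mem_normalizer_iff.mpr fun a => ⟨fun ha => h a ha, fun ha => by
    obtain ⟨b, hb, hbe⟩ := hmap.ge ha
    exact (MulAut.conj g).injective hbe ▸ hb⟩

namespace Singer

variable (S : Singer α σ C n ec μ)
include S

theorem one_eq : ec 1 = 0 := S.coord.one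

/-- A proper invariant subgroup has an element of its normaliser fixed modulo it. -/
theorem exists_next {H : Subgroup Q} (hαH : ∀ a ∈ H, α a ∈ H) (hH : H ≠ ⊤) :
    ∃ x ∈ normalizer (H : Set Q), x ∉ H ∧ x⁻¹ * α x ∈ H := by
  classical
  haveI : Fact (Nat.Prime 2) := ⟨Nat.prime_two⟩
  haveI := S.pgroup.isNilpotent
  set N := normalizer (H : Set Q)
  have hlt : H < N := Group.normalizerCondition_of_isNilpotent H (lt_top_iff_ne_top.mpr hH)
  have hNα : ∀ x ∈ N, α x ∈ N := fun x hx => map_mem_normalizer hαH hx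
  let K := H.subgroupOf N
  let f : N ⧸ K → N ⧸ K := Quotient.map' (fun x => (⟨α x, hNα _ x.2⟩ : N)) (by
    intro a b hab
    rw [QuotientGroup.leftRel_apply] at hab ⊢
    show (α (a : Q))⁻¹ * α (b : Q) ∈ H
    rw [← map_inv, ← map_mul]
    exact hαH _ hab)
  have hf : ∀ y, f (f y) = y := fun y => by
    induction y using QuotientGroup.induction_on with
    | H z => exact congrArg (fun w : N => (w : N ⧸ K)) (Subtype.ext (S.inv z))
  let π : Equiv.Perm (N ⧸ K) := ⟨f, f, hf, hf⟩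
  haveI : Fintype (N ⧸ K) := Fintype.ofFinite _
  have hdvd : 2 ∣ Fintype.card (N ⧸ K) := by
    rw [← Nat.card_eq_fintype_card]
    obtain ⟨k, hk⟩ := (S.pgroup.to_subgroup N).index K
    show 2 ∣ K.index
    rw [hk]
    refine dvd_pow_self 2 fun hk0 => ?_
    rw [hk0, pow_zero, index_eq_one, subgroupOf_eq_top] at hk
    exact hlt.not_ge hk
  have hπ : π ^ 2 ^ 1 = 1 := Equiv.ext fun y => by
    rw [pow_one, pow_two]; exact hf y
  obtain ⟨y, hy, hy1⟩ := Equiv.Perm.exists_fixed_point_of_prime' hdvd hπ (a := ((1 : N) : N ⧸ K)) (by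
    show ((⟨α ((1 : N) : Q), hNα _ (1 : N).2⟩ : N) : N ⧸ K) = _
    exact congrArg (fun w : N => (w : N ⧸ K)) (Subtype.ext (map_one α)))
  induction y using QuotientGroup.induction_on with
  | H z =>
    refine ⟨z, z.2, fun hz => hy1 ?_, ?_⟩
    · rw [QuotientGroup.eq]
      show (z : Q)⁻¹ * 1 ∈ H
      rw [mul_one]; exact H.inv_mem hz
    · have h := (QuotientGroup.eq.mp hy.symm : z⁻¹ * (⟨α z, hNα _ z.2⟩ : N) ∈ K)
      exact h

variable {j : ℕ} {A : Subgroup Q} (L : Level α σ C n j A)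
include L

theorem pow_top_mem {a : Q} (ha : a ∈ A) : a ^ 2 ^ (j - 1) ∈ C := by
  rw [S.fix, map_pow, L.neg a ha, inv_pow, inv_eq_iff_mul_eq_one, ← pow_add, ← two_mul, ← pow_succ',
    Nat.sub_add_cancel L.one_le]
  exact L.exp a ha

theorem top_add {a b : Q} (ha : a ∈ A) (hb : b ∈ A) : top ec j (a * b) = top ec j a + top ec j b := by
  rw [top, Commute.mul_pow (L.abelian a ha b hb), S.coord.add _ (S.pow_top_mem L ha) _ (S.pow_top_mem L hb)]
  rfl

theorem top_inv {a : Q} (ha : a ∈ A) : top ec j a⁻¹ = top ec j a := by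
  rw [top, inv_pow, S.coord.inv (S.pow_top_mem L ha), CharTwo.neg_eq]; rfl

theorem top_conj {a x : Q} (ha : a ∈ A) : top ec j (x⁻¹ * a * x) = top ec j a := by
  have h : (x⁻¹ * a * x) ^ 2 ^ (j - 1) = x⁻¹ * a ^ 2 ^ (j - 1) * x := by
    simpa using (conj_pow (i := 2 ^ (j - 1)) (a := x⁻¹) (b := a))
  rw [top, h, mul_assoc, ← S.central _ (S.pow_top_mem L ha) x, inv_mul_cancel_left]
  rfl

theorem pow_eq_one_of_top {a : Q} (ha : a ∈ A) (h : top ec j a = 0) : a ^ 2 ^ (j - 1) = 1 :=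
  S.inj _ (S.pow_top_mem L ha) h

theorem squares_and_surj :
    (∀ a ∈ A, a ^ 2 ^ (j - 1) = 1 → ∃ b ∈ A, a = b * b) ∧ ∀ u, ∃ a ∈ A, top ec j a = u := by
  classical
  letI : CommGroup A :=
    { (inferInstance : Group A) with mul_comm := fun a b => Subtype.ext (L.abelian a a.2 b b.2) }
  set sq : A →* A := powMonoidHom 2
  have hker : Nat.card sq.ker = 2 ^ n := by
    refine (Nat.card_congr ?_).trans S.cardC
    exact
      { toFun := fun a => ⟨(a.1 : Q), by
          rw [S.fix, L.neg _ a.1.2, inv_eq_iff_mul_eq_one, ← pow_two]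
          exact congrArg Subtype.val (show a.1 ^ 2 = 1 from a.2)⟩
        invFun := fun c => ⟨⟨c.1, L.le c.2⟩, show (⟨c.1, L.le c.2⟩ : A) ^ 2 = 1 from
          Subtype.ext (by rw [SubmonoidClass.coe_pow, pow_two]; exact S.sqC _ c.2)⟩
        left_inv := fun a => rfl
        right_inv := fun c => rfl }
  let K : ℕ → Subgroup A := fun i => (powMonoidHom (2 ^ i) : A →* A).ker
  have hKmem : ∀ i (a : A), a ∈ K i ↔ a ^ 2 ^ i = 1 := fun i a => Iff.rfl
  have hK : ∀ i, Nat.card (K i) ≤ (2 ^ n) ^ i := by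
    intro i
    induction i with
    | zero =>
      have : K 0 = ⊥ := (eq_bot_iff_forall _).mpr fun a ha => by simpa using (hKmem 0 a).mp ha
      rw [this, card_bot, pow_zero]
    | succ i ih =>
      set r := sq.comp (K (i + 1)).subtype
      have h1 := r.ker.card_eq_card_quotient_mul_card_subgroup
      rw [Nat.card_congr (QuotientGroup.quotientKerEquivRange r).toEquiv] at h1
      rw [h1, pow_succ]
      refine Nat.mul_le_mul ((card_le_of_le (K := K i) ?_).trans ih) ?_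
      · rintro _ ⟨a, rfl⟩
        rw [hKmem]
        show (a.1 ^ 2) ^ 2 ^ i = 1
        rw [← pow_mul, ← pow_succ']
        exact (hKmem _ _).mp a.2
      · refine hker ▸ Nat.card_le_card_of_injective
          (fun a : r.ker => (⟨a.1.1, a.2⟩ : sq.ker)) fun a b h =>
          Subtype.ext (Subtype.ext (congrArg (fun z : sq.ker => (z : A)) h))
  have hrange : Nat.card sq.range = (2 ^ n) ^ (j - 1) := by
    have h1 := sq.ker.card_eq_card_quotient_mul_card_subgroup
    rw [Nat.card_congr (QuotientGroup.quotientKerEquivRange sq).toEquiv, hker, L.card,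
      show (2 ^ n) ^ j = (2 ^ n) ^ (j - 1) * 2 ^ n by rw [← pow_succ, Nat.sub_add_cancel L.one_le]] at h1
    exact (Nat.eq_of_mul_eq_mul_right (pow_pos two_pos n) h1).symm
  have heq : sq.range = K (j - 1) := by
    refine eq_of_le_of_card_ge ?_ (hrange ▸ hK _)
    rintro _ ⟨a, rfl⟩
    rw [hKmem]
    show (a ^ 2) ^ 2 ^ (j - 1) = 1
    rw [← pow_mul, ← pow_succ', Nat.sub_add_cancel L.one_le]
    exact Subtype.ext (by rw [SubmonoidClass.coe_pow]; exact L.exp a a.2)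
  refine ⟨fun a ha h => ?_, ?_⟩
  · obtain ⟨b, hb⟩ := heq.ge (show (⟨a, ha⟩ : A) ∈ K (j - 1) from (hKmem _ _).mpr
      (Subtype.ext (by rw [SubmonoidClass.coe_pow]; exact h)))
    exact ⟨b, b.2, by
      have h2 := congrArg Subtype.val (show b ^ 2 = (⟨a, ha⟩ : A) from hb)
      rw [SubmonoidClass.coe_pow, pow_two] at h2
      exact h2.symm⟩
  · let p : A →* C :=
      { toFun := fun a => ⟨(a : Q) ^ 2 ^ (j - 1), S.pow_top_mem L a.2⟩
        map_one' := Subtype.ext (one_pow _)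
        map_mul' := fun a b => Subtype.ext (Commute.mul_pow (L.abelian a a.2 b b.2) _) }
    have hpk : p.ker = K (j - 1) := by
      ext a
      rw [hKmem, MonoidHom.mem_ker, ← Subtype.coe_inj, ← Subtype.coe_inj (b := (1 : A))]
      simp [p]
    have h1 := p.ker.card_eq_card_quotient_mul_card_subgroup
    rw [Nat.card_congr (QuotientGroup.quotientKerEquivRange p).toEquiv, hpk, ← heq, hrange, L.card,
      show (2 ^ n) ^ j = 2 ^ n * (2 ^ n) ^ (j - 1) by rw [← pow_succ', Nat.sub_add_cancel L.one_le]] at h1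
    have hsurj : p.range = ⊤ := eq_top_of_card_eq _
      ((Nat.eq_of_mul_eq_mul_right (by positivity) h1).symm.trans S.cardC.symm)
    intro u
    obtain ⟨c, hc, rfl⟩ := S.coord.surj u
    obtain ⟨a, ha⟩ := hsurj.ge (mem_top (⟨c, hc⟩ : C))
    exact ⟨a, a.2, congrArg ec (congrArg Subtype.val ha)⟩

theorem coord_top : Coord σ μ A (top ec j) where
  map_mem := L.map
  add := fun _ ha _ hb => S.top_add L ha hb
  equiv := fun a ha => by
    rw [top, ← map_pow, S.coord.equiv _ (S.pow_top_mem L ha)]; rfl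
  surj := (S.squares_and_surj L).2

theorem mem_next {x : Q} : x ∈ next α A ↔ x ∈ normalizer (A : Set Q) ∧ x⁻¹ * α x ∈ A := Iff.rfl

theorem le_next : A ≤ next α A := fun a ha =>
  ⟨le_normalizer ha, A.mul_mem (A.inv_mem ha) (L.neg a ha ▸ A.inv_mem ha)⟩

theorem coset_add {x y : Q} (hx : x ∈ next α A) (hy : y ∈ next α A) :
    coset α ec j (x * y) = coset α ec j x + coset α ec j y := by
  rw [coset, map_mul, show (x * y)⁻¹ * (α x * α y) = (y⁻¹ * (x⁻¹ * α x) * y) * (y⁻¹ * α y) by group,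
    S.top_add L ((mem_normalizer_iff''.mp hy.1 _).mp hx.2) hy.2, S.top_conj L hx.2]
  rfl

theorem coset_of_mem {a : Q} (ha : a ∈ A) : coset α ec j a = 0 := by
  rw [coset, L.neg a ha, S.top_add L (A.inv_mem ha) (A.inv_mem ha), CharTwo.add_self_eq_zero]

theorem coset_eq_zero {x : Q} (hx : x ∈ next α A) (h : coset α ec j x = 0) : x ∈ A := by
  obtain ⟨b, hb, he⟩ := (S.squares_and_surj L).1 _ hx.2 (S.pow_eq_one_of_top L hx.2 h)
  have hC : x * b ∈ C := by
    rw [S.fix, map_mul, L.neg b hb, show α x = x * (b * b) by rw [← he, mul_inv_cancel_left]]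
    group
  have := A.mul_mem (L.le hC) (A.inv_mem hb)
  rwa [mul_inv_cancel_right] at this

theorem map_next {x : Q} (hx : x ∈ next α A) : σ x ∈ next α A := by
  refine ⟨map_mem_normalizer L.map hx.1, ?_⟩
  rw [S.comm, ← map_inv, ← map_mul]
  exact L.map _ hx.2

theorem coord_coset (hA : A ≠ ⊤) : Coord σ μ (next α A) (coset α ec j) := by
  have hadd := fun x (hx : x ∈ next α A) y (hy : y ∈ next α A) => S.coset_add L hx hy
  have heq : ∀ x ∈ next α A, coset α ec j (σ x) = μ * coset α ec j x := fun x hx => by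
    rw [coset, S.comm, ← map_inv, ← map_mul, (S.coord_top L).equiv _ hx.2]
    rfl
  refine ⟨fun x hx => S.map_next L hx, hadd, heq, fun u => ?_⟩
  obtain ⟨x, hxN, hxA, hx⟩ := S.exists_next (fun a ha => L.neg a ha ▸ A.inv_mem ha) hA
  have hxB : x ∈ next α A := ⟨hxN, hx⟩
  have h0 : coset α ec j x ≠ 0 := fun h => hxA (S.coset_eq_zero L hxB h)
  by_cases hu : u = 0
  · exact ⟨1, one_mem _, by rw [S.coset_of_mem L A.one_mem, hu]⟩
  obtain ⟨i, hi⟩ := exists_pow_eq (by have := S.two_le; omega) S.cardF S.ord h0 hu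
  have hpow : ∀ i : ℕ, (σ ^ i) x ∈ next α A ∧ coset α ec j ((σ ^ i) x) = μ ^ i * coset α ec j x := by
    intro i
    induction i with
    | zero => simpa using hxB
    | succ i ih =>
      rw [pow_succ', MulAut.mul_apply, heq _ ih.1, ih.2, pow_succ', mul_assoc]
      exact ⟨S.map_next L ih.1, rfl⟩
  exact ⟨_, (hpow i).1, (hpow i).2.trans hi⟩

theorem card_next (hA : A ≠ ⊤) : Nat.card (next α A) = (2 ^ n) ^ (j + 1) := by
  set h := S.coord_coset L hA
  let f : next α A →* Multiplicative F :=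
    { toFun := fun x => Multiplicative.ofAdd (coset α ec j x)
      map_one' := congrArg Multiplicative.ofAdd h.one
      map_mul' := fun x y => congrArg Multiplicative.ofAdd (h.add _ x.2 _ y.2) }
  have hf : Function.Surjective f := fun u => by
    obtain ⟨x, hx, he⟩ := h.surj u.toAdd
    exact ⟨⟨x, hx⟩, he⟩
  have hk : f.ker = A.subgroupOf (next α A) := by
    ext x
    exact ⟨fun hx => S.coset_eq_zero L x.2 hx, fun hx => S.coset_of_mem L hx⟩
  have h1 := f.ker.card_eq_card_quotient_mul_card_subgroup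
  rw [Nat.card_congr (QuotientGroup.quotientKerEquivOfSurjective f hf).toEquiv, hk,
    Nat.card_congr (subgroupOfEquivOfLe (S.le_next L)).toEquiv, L.card, Nat.card_congr Multiplicative.toAdd,
    @Nat.card_eq_fintype_card F, S.cardF] at h1
  rw [h1, pow_succ']

/-! ### Squares and commutators of the next layer -/

theorem sq_mem {x : Q} (hx : x ∈ next α A) : x * x ∈ A :=
  S.coset_eq_zero L (mul_mem hx hx) (by rw [S.coset_add L hx hx, CharTwo.add_self_eq_zero])

theorem commutator_mem {x y : Q} (hx : x ∈ next α A) (hy : y ∈ next α A) : ⁅x, y⁆ ∈ A := by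
  refine S.coset_eq_zero L (by rw [commutatorElement_def]; exact mul_mem (mul_mem (mul_mem hx hy) (inv_mem hx)) (inv_mem hy)) ?_
  rw [commutatorElement_def, S.coset_add L (mul_mem (mul_mem hx hy) (inv_mem hx)) (inv_mem hy),
    S.coset_add L (mul_mem hx hy) (inv_mem hx), S.coset_add L hx hy]
  have hi : ∀ z ∈ next α A, coset α ec j z⁻¹ = coset α ec j z := fun z hz => by
    have h := S.coset_add L (inv_mem hz) hz
    rw [inv_mul_cancel, S.coset_of_mem L A.one_mem] at h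
    exact CharTwo.add_eq_zero.mp h.symm
  rw [hi x hx, hi y hy]
  linear_combination (coset α ec j x + coset α ec j y) * (CharTwo.two_eq_zero : (2 : F) = 0)

/-- The displacement of an element of `A`. -/
theorem disp_mem {x a : Q} (hx : x ∈ normalizer (A : Set Q)) (ha : a ∈ A) : x⁻¹ * a * x * a⁻¹ ∈ A :=
  A.mul_mem ((mem_normalizer_iff''.mp hx _).mp ha) (A.inv_mem ha)

theorem disp_mul {x a b : Q} (hx : x ∈ normalizer (A : Set Q)) (ha : a ∈ A) (hb : b ∈ A) :
    x⁻¹ * (a * b) * x * (a * b)⁻¹ = (x⁻¹ * a * x * a⁻¹) * (x⁻¹ * b * x * b⁻¹) := by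
  have h := L.abelian a⁻¹ (A.inv_mem ha) _ (S.disp_mem L hx hb)
  calc x⁻¹ * (a * b) * x * (a * b)⁻¹
      = x⁻¹ * a * x * ((x⁻¹ * b * x * b⁻¹) * a⁻¹) := by group
    _ = x⁻¹ * a * x * (a⁻¹ * (x⁻¹ * b * x * b⁻¹)) := by rw [h]
    _ = _ := by group

theorem disp_mul_left {x y a : Q} :
    (x * y)⁻¹ * a * (x * y) * a⁻¹ = (y⁻¹ * (x⁻¹ * a * x * a⁻¹) * y) * (y⁻¹ * a * y * a⁻¹) := by group

/-- The identity coming from the involution. -/
theorem disp_self {x : Q} (hx : x ∈ next α A) :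
    x⁻¹ * (x⁻¹ * α x) * x * (x⁻¹ * α x)⁻¹ =
      ((x * x) * (x⁻¹ * α x))⁻¹ * ((x * x) * (x⁻¹ * α x))⁻¹ := by
  obtain ⟨z, hz⟩ : ∃ z, x⁻¹ * α x = z := ⟨_, rfl⟩
  obtain ⟨s, hs⟩ : ∃ s, x * x = s := ⟨_, rfl⟩
  have hzA : z ∈ A := hz ▸ hx.2
  have hsA : s ∈ A := hs ▸ S.sq_mem L hx
  have hαx : α x = x * z := by rw [← hz, mul_inv_cancel_left]
  rw [hz, hs]
  have h1 : s * (x⁻¹ * z * x * z) = s⁻¹ := by
    rw [← L.neg s hsA, ← hs, map_mul, hαx]
    group
  have h2 : x⁻¹ * z * x = s⁻¹ * s⁻¹ * z⁻¹ := by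
    rw [eq_mul_inv_iff_mul_eq, eq_inv_mul_iff_mul_eq, h1]
  rw [h2, mul_inv_rev, L.abelian z⁻¹ (A.inv_mem hzA) s⁻¹ (A.inv_mem hsA)]
  rw [mul_assoc (s⁻¹ * s⁻¹), show s⁻¹ * z⁻¹ * (s⁻¹ * z⁻¹) = s⁻¹ * (z⁻¹ * s⁻¹) * z⁻¹ by group,
    L.abelian z⁻¹ (A.inv_mem hzA) s⁻¹ (A.inv_mem hsA)]
  group

theorem disp_pow_top {x a : Q} (hx : x ∈ normalizer (A : Set Q)) (ha : a ∈ A) :
    (x⁻¹ * a * x * a⁻¹) ^ 2 ^ (j - 1) = 1 :=
  S.pow_eq_one_of_top L (S.disp_mem L hx ha) (by
    rw [S.top_add L ((mem_normalizer_iff''.mp hx _).mp ha) (A.inv_mem ha), S.top_conj L ha, S.top_inv L ha,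
      CharTwo.add_self_eq_zero])

theorem pow_mem_C {w : Q} {m : ℕ} (hw : w ∈ A) (h : w ^ 2 ^ (m + 1) = 1) : w ^ 2 ^ m ∈ C := by
  rw [S.fix, L.neg _ (A.pow_mem hw _), inv_eq_iff_mul_eq_one, ← pow_add, ← two_mul, ← pow_succ', h]

theorem ec_conj {w x : Q} {k : ℕ} (h : w ^ k ∈ C) : ec ((x⁻¹ * w * x) ^ k) = ec (w ^ k) := by
  have h' : (x⁻¹ * w * x) ^ k = x⁻¹ * w ^ k * x := by
    simpa using (conj_pow (i := k) (a := x⁻¹) (b := w))
  rw [h', mul_assoc, ← S.central _ h x, inv_mul_cancel_left]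

theorem conj_pow_mem {w x : Q} {k : ℕ} (h : w ^ k ∈ C) : (x⁻¹ * w * x) ^ k ∈ C := by
  have h' : (x⁻¹ * w * x) ^ k = x⁻¹ * w ^ k * x := by
    simpa using (conj_pow (i := k) (a := x⁻¹) (b := w))
  rw [h', mul_assoc, ← S.central _ h x, inv_mul_cancel_left]
  exact h

/-- The displacement in the layer `m` is a multiple of the root of the product of the coordinates. -/
theorem layer_bilinear (hA : A ≠ ⊤) {m : ℕ}
    (H : ∀ x ∈ next α A, ∀ a ∈ A, (x⁻¹ * a * x * a⁻¹) ^ 2 ^ (m + 1) = 1) :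
    ∃ K, ∀ x ∈ next α A, ∀ a ∈ A, ec ((x⁻¹ * a * x * a⁻¹) ^ 2 ^ m) =
      K * (coset α ec j x * top ec j a) ^ 2 ^ (n - 1) := by
  have hC : ∀ x ∈ next α A, ∀ a ∈ A, (x⁻¹ * a * x * a⁻¹) ^ 2 ^ m ∈ C := fun x hx a ha =>
    S.pow_mem_C L (S.disp_mem L hx.1 ha) (H x hx a ha)
  refine exists_bilinear S.two_le S.cardF S.ord (S.coord_coset L hA) (S.coord_top L)
    (fun x a => ec ((x⁻¹ * a * x * a⁻¹) ^ 2 ^ m)) ?_ ?_ ?_ ?_ ?_
  · intro x hx y hy a ha
    show ec ((_ : Q) ^ _) = _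
    rw [S.disp_mul_left L, Commute.mul_pow (L.abelian _
        ((mem_normalizer_iff''.mp hy.1 _).mp (S.disp_mem L hx.1 ha)) _ (S.disp_mem L hy.1 ha)),
      S.coord.add _ (S.conj_pow_mem L (hC x hx a ha)) _ (hC y hy a ha), S.ec_conj L (hC x hx a ha)]
  · intro x hx a ha b hb
    show ec ((_ : Q) ^ _) = _
    rw [S.disp_mul L hx.1 ha hb, Commute.mul_pow (L.abelian _ (S.disp_mem L hx.1 ha) _ (S.disp_mem L hx.1 hb)),
      S.coord.add _ (hC x hx a ha) _ (hC x hx b hb)]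
  · intro x hx a ha h0
    have hxA := S.coset_eq_zero L hx h0
    have h1 : x⁻¹ * a * x * a⁻¹ = 1 := by
      rw [mul_assoc x⁻¹, ← L.abelian x hxA a ha, inv_mul_cancel_left, mul_inv_cancel]
    show ec ((_ : Q) ^ _) = 0
    rw [h1, one_pow, S.one_eq]
  · intro x hx a ha h0
    obtain ⟨b, hb, rfl⟩ := (S.squares_and_surj L).1 a ha (S.pow_eq_one_of_top L ha h0)
    show ec ((_ : Q) ^ _) = 0
    rw [S.disp_mul L hx.1 hb hb, ← pow_two, ← pow_mul, ← pow_succ', H x hx b hb, S.one_eq]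
  · intro x hx a ha
    show ec ((_ : Q) ^ _) = μ * ec ((_ : Q) ^ _)
    rw [← map_inv, ← map_inv, ← map_mul, ← map_mul, ← map_mul, ← map_pow, S.coord.equiv _ (hC x hx a ha)]

theorem commutator_top (hA : A ≠ ⊤) {x y : Q} (hx : x ∈ next α A) (hy : y ∈ next α A) :
    top ec j ⁅x, y⁆ = 0 := by
  have hcm := fun {a b : Q} (ha : a ∈ next α A) (hb : b ∈ next α A) => S.commutator_mem L ha hb
  have hconj : ∀ {a g : Q}, a ∈ A → g ∈ next α A → g * a * g⁻¹ ∈ A := fun ha hg =>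
    (mem_normalizer_iff.mp hg.1 _).mp ha
  have hconjtop : ∀ {a g : Q}, a ∈ A → top ec j (g * a * g⁻¹) = top ec j a := fun {a g} ha => by
    simpa using S.top_conj L (x := g⁻¹) ha
  refine bilinear_eq_zero S.two_le S.cardF S.ord (S.coord_coset L hA) (fun x y => top ec j ⁅x, y⁆)
    ?_ ?_ ?_ ?_ ?_ ?_ x hx y hy
  · intro x hx y hy a ha
    show top ec j ⁅x * y, a⁆ = _
    rw [show ⁅x * y, a⁆ = (x * ⁅y, a⁆ * x⁻¹) * ⁅x, a⁆ by rw [commutatorElement_def, commutatorElement_def, commutatorElement_def]; group,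
      S.top_add L (hconj (hcm hy ha) hx) (hcm hx ha), hconjtop (hcm hy ha)]
    exact add_comm _ _
  · intro x hx a ha b hb
    show top ec j ⁅x, a * b⁆ = _
    rw [show ⁅x, a * b⁆ = ⁅x, a⁆ * (a * ⁅x, b⁆ * a⁻¹) by rw [commutatorElement_def, commutatorElement_def, commutatorElement_def]; group,
      S.top_add L (hcm hx ha) (hconj (hcm hx hb) ha), hconjtop (hcm hx hb)]
  · intro x hx a ha h0
    have hxA := S.coset_eq_zero L hx h0
    show top ec j ⁅x, a⁆ = 0
    rw [show ⁅x, a⁆ = x * (a * x⁻¹ * a⁻¹) by rw [commutatorElement_def]; group,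
      S.top_add L hxA (hconj (A.inv_mem hxA) ha), hconjtop (A.inv_mem hxA), S.top_inv L hxA,
      CharTwo.add_self_eq_zero]
  · intro x hx a ha h0
    have haA := S.coset_eq_zero L ha h0
    show top ec j ⁅x, a⁆ = 0
    rw [show ⁅x, a⁆ = (x * a * x⁻¹) * a⁻¹ by rw [commutatorElement_def],
      S.top_add L (hconj haA hx) (A.inv_mem haA), hconjtop haA, S.top_inv L haA, CharTwo.add_self_eq_zero]
  · intro x hx a ha
    show top ec j ⁅σ x, σ a⁆ = μ * top ec j ⁅x, a⁆
    rw [← map_commutatorElement, (S.coord_top L).equiv _ (hcm hx ha)]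
  · intro x _
    show top ec j ⁅x, x⁆ = 0
    rw [commutatorElement_self, (S.coord_top L).one]

/-- The square of an element in the coset coordinate. -/
theorem square_linear (hA : A ≠ ⊤) :
    ∃ κ, ∀ x ∈ next α A, top ec j (x * x) = κ * coset α ec j x := by
  refine exists_linear (by have := S.two_le; omega) S.cardF S.ord (S.coord_coset L hA) ?_ ?_ ?_
  · intro x hx y hy
    rw [show x * y * (x * y) = x * x * ⁅x⁻¹, y⁆ * (y * y) by rw [commutatorElement_def]; group,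
      S.top_add L (A.mul_mem (S.sq_mem L hx) (S.commutator_mem L (inv_mem hx) hy)) (S.sq_mem L hy),
      S.top_add L (S.sq_mem L hx) (S.commutator_mem L (inv_mem hx) hy),
      S.commutator_top L hA (inv_mem hx) hy, add_zero]
  · intro x hx h0
    have hxA := S.coset_eq_zero L hx h0
    rw [S.top_add L hxA hxA, CharTwo.add_self_eq_zero]
  · intro x hx
    rw [← map_mul, (S.coord_top L).equiv _ (S.sq_mem L hx)]

omit S L in
/-- The exceptional configuration. -/
structure Final (α σ : MulAut Q) (C : Subgroup Q) (n : ℕ) (ec : Q → F) (A : Subgroup Q) : Prop where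
  level : Level α σ C n 2 A
  ne_top : A ≠ ⊤
  whole : next α A = ⊤
  sq : ∀ x : Q, x * x ∈ C
  beta : ∀ x : Q, ∀ a ∈ A, ec (x⁻¹ * a * x * a⁻¹) = (coset α ec 2 x * top ec 2 a) ^ 2 ^ (n - 1)

theorem inv_coset (_hA : A ≠ ⊤) {κ : F} (hκ : ∀ x ∈ next α A, top ec j (x * x) = κ * coset α ec j x)
    {z : Q} (hz : z ∈ next α A) (hneg : α z = z⁻¹) : coset α ec j z = κ * coset α ec j z := by
  rw [← hκ z hz]
  conv_lhs => rw [coset, hneg, ← mul_inv_rev, S.top_inv L (S.sq_mem L hz)]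

theorem central_case (hA : A ≠ ⊤) (hna : ¬ IsMulCommutative Q)
    (hc : ∀ x ∈ next α A, ∀ a ∈ A, x * a = a * x) :
    ∃ A', A < A' ∧ Level α σ C n (j + 1) A' := by
  set B := next α A with hB
  have hj := L.one_le
  -- the next layer is abelian
  have hdesc : ∀ m, m ≤ j → ∀ x ∈ B, ∀ y ∈ B, ⁅x, y⁆ ^ 2 ^ (j - m) = 1 := by
    intro m
    induction m with
    | zero => exact fun _ x hx y hy => L.exp _ (S.commutator_mem L hx hy)
    | succ m ih =>
      intro hm
      obtain ⟨k, hk⟩ : ∃ k, j - m = k + 1 := ⟨j - m - 1, by omega⟩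
      rw [show j - (m + 1) = k by omega]
      have ih' := ih (by omega)
      rw [hk] at ih'
      have hC : ∀ x ∈ B, ∀ y ∈ B, ⁅x, y⁆ ^ 2 ^ k ∈ C := fun x hx y hy =>
        S.pow_mem_C L (S.commutator_mem L hx hy) (ih' x hx y hy)
      intro x hx y hy
      refine S.inj _ (hC x hx y hy) ?_
      refine bilinear_eq_zero S.two_le S.cardF S.ord (S.coord_coset L hA)
        (fun x y => ec (⁅x, y⁆ ^ 2 ^ k)) ?_ ?_ ?_ ?_ ?_ ?_ x hx y hy
      · intro x hx y hy a ha
        show ec ((_ : Q) ^ _) = _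
        rw [show ⁅x * y, a⁆ = x * ⁅y, a⁆ * x⁻¹ * ⁅x, a⁆ by
            rw [commutatorElement_def, commutatorElement_def, commutatorElement_def]; group,
          hc x hx _ (S.commutator_mem L hy ha), mul_inv_cancel_right,
          Commute.mul_pow (L.abelian _ (S.commutator_mem L hy ha) _ (S.commutator_mem L hx ha)),
          S.coord.add _ (hC y hy a ha) _ (hC x hx a ha), add_comm]
      · intro x hx a ha b hb
        show ec ((_ : Q) ^ _) = _
        rw [show ⁅x, a * b⁆ = ⁅x, a⁆ * (a * ⁅x, b⁆ * a⁻¹) by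
            rw [commutatorElement_def, commutatorElement_def, commutatorElement_def]; group,
          hc a ha _ (S.commutator_mem L hx hb), mul_inv_cancel_right,
          Commute.mul_pow (L.abelian _ (S.commutator_mem L hx ha) _ (S.commutator_mem L hx hb)),
          S.coord.add _ (hC x hx a ha) _ (hC x hx b hb)]
      · intro x hx a ha h0
        show ec ((_ : Q) ^ _) = 0
        rw [commutatorElement_eq_one_iff_mul_comm.mpr (hc a ha x (S.coset_eq_zero L hx h0)).symm, one_pow,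
          S.one_eq]
      · intro x hx a ha h0
        show ec ((_ : Q) ^ _) = 0
        rw [commutatorElement_eq_one_iff_mul_comm.mpr (hc x hx a (S.coset_eq_zero L ha h0)), one_pow,
          S.one_eq]
      · intro x hx a ha
        show ec ((_ : Q) ^ _) = μ * ec ((_ : Q) ^ _)
        rw [← map_commutatorElement, ← map_pow, S.coord.equiv _ (hC x hx a ha)]
      · intro x _
        show ec ((_ : Q) ^ _) = 0
        rw [commutatorElement_self, one_pow, S.one_eq]
  have hab : ∀ x ∈ B, ∀ y ∈ B, x * y = y * x := fun x hx y hy => by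
    refine commutatorElement_eq_one_iff_mul_comm.mp ?_
    simpa using hdesc j le_rfl x hx y hy
  have hBA : A ≤ B := S.le_next L
  have hBlt : A < B := lt_of_le_of_ne hBA fun e => by
    obtain ⟨x, hxN, hxA, hx⟩ := S.exists_next (fun a ha => L.neg a ha ▸ A.inv_mem ha) hA
    exact hxA (e ▸ (⟨hxN, hx⟩ : x ∈ next α A))
  have hBtop : B ≠ ⊤ := fun e => hna ⟨⟨fun x y => hab x (e ▸ mem_top x) y (e ▸ mem_top y)⟩⟩
  have hαB : ∀ a ∈ B, α a ∈ B := fun a ha => by
    have h := B.mul_mem ha (hBA ha.2)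
    rwa [mul_inv_cancel_left] at h
  obtain ⟨κ, hκ⟩ := S.square_linear L hA
  obtain ⟨x', hx'N, hx'B, hx'⟩ := S.exists_next hαB hBtop
  set z := x'⁻¹ * α x' with hzdef
  have hzneg : α z = z⁻¹ := by
    rw [hzdef, map_mul, map_inv, S.inv, mul_inv_rev, inv_inv]
  -- the coordinate of `z` does not vanish
  have hz0 : coset α ec j z ≠ 0 ∨ κ ≠ 1 := by
    by_contra hcon
    push Not at hcon
    obtain ⟨h0, hκ1⟩ := hcon
    refine hx'B ⟨?_, S.coset_eq_zero L hx' h0⟩
    refine mem_normalizer_iff.mpr fun a => ?_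
    have hkey : ∀ g ∈ normalizer (B : Set Q), ∀ a ∈ A, g * a * g⁻¹ ∈ A := by
      intro g hg a ha
      have hgB : g * a * g⁻¹ ∈ B := (mem_normalizer_iff.mp hg a).mp (hBA ha)
      refine S.coset_eq_zero L hgB ?_
      have h := hκ _ hgB
      rw [hκ1, one_mul] at h
      rw [← h, top, show g * a * g⁻¹ * (g * a * g⁻¹) = g * (a * a) * g⁻¹ by group, conj_pow, ← pow_two, ← pow_mul, ← pow_succ', Nat.sub_add_cancel hj,
        L.exp a ha, mul_one, mul_inv_cancel, S.one_eq]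
    refine ⟨fun ha => hkey x' hx'N a ha, fun ha => ?_⟩
    have h := hkey x'⁻¹ (inv_mem hx'N) _ ha
    convert h using 1
    group
  have hz0' : coset α ec j z ≠ 0 := fun h0 => by
    rcases hz0 with h | h
    · exact h h0
    · -- here the next layer is the one step extension of `C`
      have hj1 : ∀ g ∈ normalizer (B : Set Q), ∀ a ∈ A, j = 1 → g * a * g⁻¹ ∈ A := fun g _ a ha hj1 => by
        have hAC : A = C := (eq_of_le_of_card_ge L.le (by rw [L.card, S.cardC, hj1, pow_one])).symm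
        rw [hAC] at ha ⊢
        rw [S.central a ha g, mul_inv_cancel_right]
        exact ha
      by_cases hj1' : j = 1
      · refine hx'B ⟨?_, S.coset_eq_zero L hx' h0⟩
        refine mem_normalizer_iff.mpr fun a => ⟨fun ha => hj1 x' hx'N a ha hj1', fun ha => ?_⟩
        have h := hj1 x'⁻¹ (inv_mem hx'N) _ ha hj1'
        convert h using 1
        group
      · obtain ⟨x, hx, hc1⟩ := (S.coord_coset L hA).surj 1
        have h1 := S.disp_self L hx
        have hh : x⁻¹ * (x⁻¹ * α x) * x = x⁻¹ * α x := by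
          rw [mul_assoc _ _ x, ← hc x hx _ hx.2, inv_mul_cancel_left]
        rw [hh, mul_inv_cancel] at h1
        have h2 : ((x * x) * (x⁻¹ * α x)) ^ 2 = 1 := by
          rw [pow_two]
          refine inv_eq_one.mp ?_
          rw [mul_inv_rev, ← h1]
        have h3 : top ec j ((x * x) * (x⁻¹ * α x)) = 0 := by
          obtain ⟨i, hi⟩ : ∃ i, j - 1 = i + 1 := ⟨j - 2, by omega⟩
          rw [top, hi, pow_succ', pow_mul, h2, one_pow, S.one_eq]
        rw [S.top_add L (S.sq_mem L hx) hx.2, hκ x hx] at h3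
        change κ * coset α ec j x + coset α ec j x = 0 at h3
        rw [hc1, mul_one] at h3
        exact h (CharTwo.add_eq_zero.mp h3)
  have hκ1 : κ = 1 := mul_right_cancel₀ hz0' ((S.inv_coset L hA hκ hx' hzneg).symm.trans (one_mul _).symm)
  refine ⟨B, hBlt, by omega, hab, L.le.trans hBA, fun a ha => S.map_next L ha, ?_, ?_, S.card_next L hA⟩
  · let D : Subgroup Q :=
      { carrier := {a | a ∈ B ∧ α a = a⁻¹}
        one_mem' := ⟨one_mem _, by simp⟩
        mul_mem' := fun {a b} ha hb => ⟨mul_mem ha.1 hb.1, by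
          rw [map_mul, ha.2, hb.2, mul_inv_rev, hab _ (B.inv_mem ha.1) _ (B.inv_mem hb.1)]⟩
        inv_mem' := fun {a} ha => ⟨inv_mem ha.1, by rw [map_inv, ha.2]⟩ }
    have hDσ : ∀ a ∈ D, σ a ∈ D := fun a ha => ⟨S.map_next L ha.1, by rw [S.comm, ha.2, map_inv]⟩
    have hzi : ∀ i : ℕ, (σ ^ i) z ∈ D ∧ coset α ec j ((σ ^ i) z) = μ ^ i * coset α ec j z := by
      intro i
      induction i with
      | zero => simpa using (show z ∈ D from ⟨hx', hzneg⟩)
      | succ i ih =>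
        rw [pow_succ', MulAut.mul_apply, (S.coord_coset L hA).equiv _ ih.1.1, ih.2, pow_succ', mul_assoc]
        exact ⟨hDσ _ ih.1, rfl⟩
    intro a ha
    suffices a ∈ D from this.2
    by_cases h0 : coset α ec j a = 0
    · exact ⟨ha, L.neg a (S.coset_eq_zero L ha h0)⟩
    obtain ⟨i, hi⟩ := exists_pow_eq (by have := S.two_le; omega) S.cardF S.ord hz0' h0
    have hw := (hzi i).1
    have hd : ((σ ^ i) z)⁻¹ * a ∈ A := by
      refine S.coset_eq_zero L (mul_mem (inv_mem hw.1) ha) ?_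
      rw [S.coset_add L (inv_mem hw.1) ha, (S.coord_coset L hA).inv hw.1, (hzi i).2, hi, neg_add_cancel]
    have := D.mul_mem hw (show ((σ ^ i) z)⁻¹ * a ∈ D from ⟨hBA hd, L.neg _ hd⟩)
    rwa [mul_inv_cancel_left] at this
  · intro a ha
    rw [pow_succ', pow_mul, pow_two]
    exact L.exp _ (S.sq_mem L ha)

theorem displaced_case (hA : A ≠ ⊤) (hc : ¬ ∀ x ∈ next α A, ∀ a ∈ A, x * a = a * x) :
    j = 2 ∧ Final α σ C n ec A := by
  classical
  set B := next α A with hB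
  have hj := L.one_le
  have hex : ∃ m, ∀ x ∈ B, ∀ a ∈ A, (x⁻¹ * a * x * a⁻¹) ^ 2 ^ m = 1 :=
    ⟨j - 1, fun x hx a ha => S.disp_pow_top L hx.1 ha⟩
  set m := Nat.find hex
  have hm := Nat.find_spec hex
  have hm0 : m ≠ 0 := fun h0 => hc fun x hx a ha => by
    have h := hm x hx a ha
    rw [show Nat.find hex = 0 from h0, pow_zero, pow_one, mul_inv_eq_one, mul_assoc, inv_mul_eq_iff_eq_mul] at h
    exact h.symm
  have hmj : m ≤ j - 1 := Nat.find_le fun x hx a ha => S.disp_pow_top L hx.1 ha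
  obtain ⟨k, hk⟩ : ∃ k, m = k + 1 := ⟨m - 1, by omega⟩
  have hm' : ∀ x ∈ B, ∀ a ∈ A, (x⁻¹ * a * x * a⁻¹) ^ 2 ^ (k + 1) = 1 := hk ▸ hm
  obtain ⟨Kb, hKb⟩ := S.layer_bilinear L hA hm'
  have hKb0 : Kb ≠ 0 := fun h0 => Nat.find_min hex (show k < Nat.find hex by omega) fun x hx a ha =>
    S.inj _ (S.pow_mem_C L (S.disp_mem L hx.1 ha) (hm' x hx a ha)) (by rw [hKb x hx a ha, h0, zero_mul])
  obtain ⟨κ, hκ⟩ := S.square_linear L hA
  obtain ⟨x₁, hx₁, hc₁⟩ := (S.coord_coset L hA).surj 1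
  have hk0 : Kb * (κ : F) ^ 2 ^ (n - 1) = 0 := by
    have h := hKb x₁ hx₁ _ (S.sq_mem L hx₁)
    rw [hκ x₁ hx₁, hc₁, one_mul, mul_one, show x₁⁻¹ * (x₁ * x₁) * x₁ * (x₁ * x₁)⁻¹ = 1 by group, one_pow,
      S.one_eq] at h
    exact h.symm
  have hκ0 : κ = 0 := eq_zero_of_pow_eq_zero ((mul_eq_zero.mp hk0).resolve_left hKb0)
  -- the layer of the displacement is the highest one
  obtain ⟨t, ht⟩ : ∃ t, x₁ * x₁ * (x₁⁻¹ * α x₁) = t := ⟨_, rfl⟩
  have htA : t ∈ A := ht ▸ A.mul_mem (S.sq_mem L hx₁) hx₁.2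
  have httop : top ec j t = 1 := by
    rw [← ht, S.top_add L (S.sq_mem L hx₁) hx₁.2, hκ x₁ hx₁, hκ0, zero_mul, zero_add]
    exact hc₁
  have hd : x₁⁻¹ * (x₁⁻¹ * α x₁) * x₁ * (x₁⁻¹ * α x₁)⁻¹ = t⁻¹ * t⁻¹ := by rw [S.disp_self L hx₁, ht]
  have htp : t⁻¹ ^ 2 ^ (k + 2) = 1 := by
    have h := hm' x₁ hx₁ _ hx₁.2
    rw [hd, ← pow_two, ← pow_mul, ← pow_succ'] at h
    exact h
  have hkj : k + 2 = j := by
    by_contra hne
    have h1 : t⁻¹ ^ 2 ^ (j - 1) = 1 := orderOf_dvd_iff_pow_eq_one.mp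
      ((orderOf_dvd_iff_pow_eq_one.mpr htp).trans (pow_dvd_pow 2 (by omega)))
    have h2 := S.top_inv L htA
    rw [httop, top, h1, S.one_eq] at h2
    exact zero_ne_one h2
  have hKb1 : Kb = 1 := by
    have h := hKb x₁ hx₁ _ hx₁.2
    rw [hd, ← pow_two, ← pow_mul, ← pow_succ', show k + 1 = j - 1 by omega] at h
    change top ec j t⁻¹ = Kb * (coset α ec j x₁ * coset α ec j x₁) ^ 2 ^ (n - 1) at h
    rw [S.top_inv L htA, httop, hc₁, one_mul, one_pow, mul_one] at h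
    exact h.symm
  have hβ : ∀ x ∈ B, ∀ a ∈ A, ec ((x⁻¹ * a * x * a⁻¹) ^ 2 ^ k) =
      (coset α ec j x * top ec j a) ^ 2 ^ (n - 1) := fun x hx a ha => by
    rw [hKb x hx a ha, hKb1, one_mul]
  -- there are only two layers
  have hk2 : k = 0 := by
    by_contra hk2
    obtain ⟨l, rfl⟩ : ∃ l, k = l + 1 := ⟨k - 1, by omega⟩
    obtain ⟨lam, hlam0, hlam1⟩ : ∃ lam : F, lam ≠ 0 ∧ lam ≠ 1 := by
      by_contra hcon
      push Not at hcon
      have h4 : 4 ≤ Fintype.card F :=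
        S.cardF ▸ le_trans (by norm_num) (Nat.pow_le_pow_right two_pos S.two_le)
      have h2 : Fintype.card F ≤ 2 := by
        rw [← Finset.card_univ]
        refine (Finset.card_le_card (t := ({0, 1} : Finset F)) fun x _ => ?_).trans Finset.card_le_two
        by_cases hx : x = 0
        · simp [hx]
        · simp [hcon x hx]
      omega
    obtain ⟨a, ha, hea⟩ := (S.coord_top L).surj (lam ^ 2)
    obtain ⟨d, hddef⟩ : ∃ d, x₁⁻¹ * a * x₁ * a⁻¹ = d := ⟨_, rfl⟩
    have hdA : d ∈ A := hddef ▸ S.disp_mem L hx₁.1 ha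
    obtain ⟨b, hb, hdb⟩ := (S.squares_and_surj L).1 d hdA (hddef ▸ S.disp_pow_top L hx₁.1 ha)
    have hdtop : ec (d ^ 2 ^ (l + 1)) = lam := by
      rw [← hddef, hβ x₁ hx₁ a ha, hc₁, hea, one_mul, pow_two,
        sqrt_mul_self (by have := S.two_le; omega) S.cardF]
    have hbtop : top ec j b = lam := by
      rw [top, show j - 1 = (l + 1) + 1 by omega, pow_succ', pow_mul, pow_two, ← hdb, hdtop]
    have h1 : (x₁⁻¹ * d * x₁ * d⁻¹) * (d * d) = 1 := by
      have h2 : x₁⁻¹ * d * x₁ * d =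
          (x₁ * x₁)⁻¹ * a * (x₁ * x₁) * (x₁⁻¹ * a * x₁)⁻¹ * (x₁⁻¹ * a * x₁ * a⁻¹) := by
        rw [← hddef]; group
      have h3 : (x₁ * x₁)⁻¹ * a * (x₁ * x₁) = a := by
        rw [mul_assoc, ← L.abelian _ (S.sq_mem L hx₁) a ha, inv_mul_cancel_left]
      rw [h3] at h2
      calc x₁⁻¹ * d * x₁ * d⁻¹ * (d * d) = x₁⁻¹ * d * x₁ * d := by group
        _ = 1 := by rw [h2]; group
    have hdd : (x₁⁻¹ * b * x₁ * b⁻¹) ∈ A := S.disp_mem L hx₁.1 hb
    rw [show x₁⁻¹ * d * x₁ * d⁻¹ = x₁⁻¹ * (b * b) * x₁ * (b * b)⁻¹ by rw [← hdb],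
      S.disp_mul L hx₁.1 hb hb] at h1
    have h4 : ((x₁⁻¹ * b * x₁ * b⁻¹) * d) ^ 2 = 1 := by
      rw [Commute.mul_pow (L.abelian _ hdd _ hdA), pow_two, pow_two]
      exact h1
    have h5 : ec ((x₁⁻¹ * b * x₁ * b⁻¹) ^ 2 ^ (l + 1)) + ec (d ^ 2 ^ (l + 1)) = 0 := by
      rw [← S.coord.add _ (S.pow_mem_C L hdd (hm' x₁ hx₁ b hb)) _
        (hddef ▸ S.pow_mem_C L (S.disp_mem L hx₁.1 ha) (hm' x₁ hx₁ a ha)),
        ← Commute.mul_pow (L.abelian _ hdd _ hdA), pow_succ', pow_mul, h4, one_pow, S.one_eq]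
    rw [hβ x₁ hx₁ b hb, hc₁, hbtop, one_mul, hdtop] at h5
    have h6 := congrArg (· ^ 2) (CharTwo.add_eq_zero.mp h5)
    simp only [sqrt_sq (by have := S.two_le; omega : 1 ≤ n) S.cardF] at h6
    exact hlam1 (mul_left_cancel₀ hlam0 (by rw [mul_one, ← pow_two]; exact h6.symm))
  subst hk2
  obtain rfl : j = 2 := hkj.symm
  -- the next layer is everything
  have hsqC : ∀ x ∈ B, x * x ∈ C := fun x hx => by
    rw [S.fix, L.neg _ (S.sq_mem L hx), inv_eq_iff_mul_eq_one]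
    have h := hκ x hx
    rw [hκ0, zero_mul] at h
    simpa [pow_two] using S.pow_eq_one_of_top L (S.sq_mem L hx) h
  have hwhole : B = ⊤ := by
    by_contra hBtop
    have hαB : ∀ a ∈ B, α a ∈ B := fun a ha => by
      have h := B.mul_mem ha (S.le_next L ha.2)
      rwa [mul_inv_cancel_left] at h
    obtain ⟨x', hx'N, hx'B, hx'⟩ := S.exists_next hαB hBtop
    obtain ⟨z, hz⟩ : ∃ z, x'⁻¹ * α x' = z := ⟨_, rfl⟩
    have hzB : z ∈ B := hz ▸ hx'
    have hzneg : α z = z⁻¹ := by rw [← hz, map_mul, map_inv, S.inv, mul_inv_rev, inv_inv]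
    have hzA : z ∈ A := S.coset_eq_zero L hzB (by
      rw [S.inv_coset L hA hκ hzB hzneg, hκ0, zero_mul])
    have hkey : ∀ a ∈ A, x'⁻¹ * a * x' ∈ A := by
      intro a ha
      obtain ⟨w, hw⟩ : ∃ w, x'⁻¹ * a * x' = w := ⟨_, rfl⟩
      rw [hw]
      have hwB : w ∈ B := hw ▸ (mem_normalizer_iff''.mp hx'N _).mp (S.le_next L ha)
      refine S.coset_eq_zero L hwB ?_
      have hαx : α x' = x' * z := by rw [← hz, mul_inv_cancel_left]
      have hαw : α w = z⁻¹ * w⁻¹ * z := by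
        rw [← hw, map_mul, map_mul, map_inv, hαx, L.neg a ha]; group
      rw [coset, hαw, show w⁻¹ * (z⁻¹ * w⁻¹ * z) = (w * w)⁻¹ * (w * z⁻¹ * w⁻¹ * z) by group,
        S.top_add L (A.inv_mem (S.sq_mem L hwB))
          (A.mul_mem ((mem_normalizer_iff.mp hwB.1 _).mp (A.inv_mem hzA)) hzA),
        S.top_inv L (S.sq_mem L hwB), hκ w hwB, hκ0, zero_mul, zero_add,
        S.top_add L ((mem_normalizer_iff.mp hwB.1 _).mp (A.inv_mem hzA)) hzA]
      have h7 : top ec 2 (w * z⁻¹ * w⁻¹) = top ec 2 z⁻¹ := by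
        simpa using S.top_conj L (x := w⁻¹) (A.inv_mem hzA)
      rw [h7, S.top_inv L hzA, CharTwo.add_self_eq_zero]
    refine hx'B ⟨?_, hz.symm ▸ hzA⟩
    exact inv_mem_iff.mp (mem_normalizer_of_conj_le fun a ha => by
      simpa using hkey a ha)
  refine ⟨rfl, L, hA, hwhole, fun x => hsqC x (hwhole ▸ mem_top x), fun x a ha => ?_⟩
  simpa using hβ x (hwhole ▸ mem_top x) a ha

end Singer

end CfsgLib.PGroups.Suzuki.InvolutorySinger
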