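import Mathlib
import Cfsg.Agent.Lib.PGroups.Suzuki.FourCentre
import Cfsg.Agent.Lib.PGroups.Suzuki.Unitary

/-!
# Actions of `S₃` on 2-groups of order 64

A nonabelian group of order 64 with a fixed-point-free automorphism of order three has centre a four-group
containing all squares.  If that automorphism is inverted by an involutory automorphism the group has
involutions outside its centre, and so is the Sylow 2-subgroup of `PSL₃(4)`.
-/

set_option autoImplicit false
set_option linter.all false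

open scoped commutatorElement

namespace CfsgLib.PGroups.Suzuki.SThreeAction

open Subgroup CfsgLib.PGroups.Suzuki.RankTwo

universe u v

theorem coset_fix {G : Type u} [Group G] [Finite G] {ρ : MulAut G} (hfp : ∀ x, ρ x = x → x = 1)
    {N : Subgroup G} (hN : ∀ x ∈ N, ρ x ∈ N) {x : G} (hx : x⁻¹ * ρ x ∈ N) : x ∈ N := by
  let g : N → N := fun w => ⟨(w : G)⁻¹ * ρ w, mul_mem (inv_mem w.2) (hN w w.2)⟩
  have hg : Function.Injective g := by
    intro p q hpq
    have h2 : (p : G)⁻¹ * ρ p = (q : G)⁻¹ * ρ q := congrArg Subtype.val hpq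
    refine Subtype.ext (mul_inv_eq_one.mp (hfp _ ?_)).symm
    rw [map_mul, map_inv, ← eq_inv_mul_iff_mul_eq.mp h2.symm]
    group
  obtain ⟨w, hw⟩ := Finite.injective_iff_surjective.mp hg ⟨_, hx⟩
  have h3 : (w : G)⁻¹ * ρ w = x⁻¹ * ρ x := congrArg Subtype.val hw
  have h4 := hfp (x * (w : G)⁻¹) (by
    rw [map_mul, map_inv, ← eq_inv_mul_iff_mul_eq.mp h3.symm]; group)
  rw [mul_inv_eq_one.mp h4]
  exact w.2

theorem sum_fix {G : Type u} [Group G] [Finite G] {ρ : MulAut G} (hfp : ∀ x, ρ x = x → x = 1)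
    (hrr : ∀ x, ρ (ρ (ρ x)) = x) {N : Subgroup G} (hN : ∀ x ∈ N, ρ x ∈ N) {x : G}
    (hc : ⁅(x * ρ x * ρ (ρ x))⁻¹, x⁻¹⁆ ∈ N) : x * ρ x * ρ (ρ x) ∈ N := by
  refine coset_fix hfp hN ?_
  have : (x * ρ x * ρ (ρ x))⁻¹ * ρ (x * ρ x * ρ (ρ x)) = ⁅(x * ρ x * ρ (ρ x))⁻¹, x⁻¹⁆ := by
    rw [map_mul, map_mul, hrr, commutatorElement_def]; group
  rw [this]; exact hc

theorem comm_self_fix {G : Type u} [Group G] {ρ : MulAut G} {g : G} (hc : ⁅g, ρ g⁆ ∈ center G)
    (hs : g * ρ g * ρ (ρ g) ∈ center G) : ρ ⁅g, ρ g⁆ = ⁅g, ρ g⁆ := by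
  obtain ⟨h, hh⟩ : ∃ h, h = ρ g := ⟨_, rfl⟩
  obtain ⟨y, hy⟩ : ∃ y, y = g * h * ρ h := ⟨_, rfl⟩
  rw [← hh] at hc hs ⊢
  rw [← hy] at hs
  have hk : ρ h = (g * h)⁻¹ * y := by rw [hy]; group
  calc ρ ⁅g, h⁆ = ⁅ρ g, ρ h⁆ := map_commutatorElement (ρ : G →* G) g h
    _ = h * ((g * h)⁻¹ * y) * h⁻¹ * ((g * h)⁻¹ * y)⁻¹ := by rw [← hh, hk, commutatorElement_def]
    _ = g⁻¹ * (y * h⁻¹) * y⁻¹ * (g * h) := by group
    _ = g⁻¹ * (h⁻¹ * y) * y⁻¹ * (g * h) := by rw [← mem_center_iff.mp hs h⁻¹]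
    _ = (h * g)⁻¹ * (⁅g, h⁆ * (h * g)) := by rw [commutatorElement_def]; group
    _ = (h * g)⁻¹ * ((h * g) * ⁅g, h⁆) := by rw [mem_center_iff.mp hc (h * g)]
    _ = ⁅g, h⁆ := by group

theorem map_center_mem {G : Type u} [Group G] (ρ : MulAut G) {g : G} (hg : g ∈ center G) : ρ g ∈ center G :=
  mem_center_iff.mpr fun k => by
    obtain ⟨k, rfl⟩ := ρ.surjective k
    rw [← map_mul, ← map_mul, mem_center_iff.mp hg k]

theorem card_mod_three {G : Type u} [Group G] [Finite G] {ρ : MulAut G} (hfp : ∀ x, ρ x = x → x = 1)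
    (hrr : ∀ x, ρ (ρ (ρ x)) = x) {H : Subgroup G} (hH : ∀ x ∈ H, ρ x ∈ H) : Nat.card H % 3 = 1 := by
  classical
  haveI := Fact.mk Nat.prime_three
  haveI : Fintype H := Fintype.ofFinite _
  let f : Function.End H := fun x => ⟨ρ x, hH x x.2⟩
  have hf : f ^ 3 ^ 1 = 1 := funext fun x => Subtype.ext (hrr x)
  have h := Equiv.Perm.card_fixedPoints_modEq hf
  have h1 : Fintype.card (Function.fixedPoints f) = 1 := Fintype.card_eq_one_iff.mpr
    ⟨⟨1, Subtype.ext (map_one ρ)⟩, fun x => Subtype.ext (Subtype.ext (hfp _ (congrArg Subtype.val x.2)))⟩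
  rw [h1] at h
  rw [Nat.card_eq_fintype_card]
  exact h

theorem double {G : Type u} [Group G] [Finite G] {H K : Subgroup G} (h : H < K) :
    2 * Nat.card H ≤ Nat.card K := by
  obtain ⟨c, hc⟩ := Subgroup.card_dvd_of_le h.le
  have h1 : Nat.card H < Nat.card K := by
    by_contra hh
    exact h.ne (Subgroup.eq_of_le_of_card_ge h.le (not_lt.mp hh))
  have : c ≠ 0 ∧ c ≠ 1 := ⟨fun e => by rw [e, mul_zero] at hc; omega, fun e => by rw [e, mul_one] at hc; omega⟩
  rw [hc, mul_comm 2]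
  exact Nat.mul_le_mul_left _ (by omega)

theorem abelian_of_index {G : Type u} [Group G] [Finite G] {ρ : MulAut G} (hfp : ∀ x, ρ x = x → x = 1)
    (hrr : ∀ x, ρ (ρ (ρ x)) = x) (hidx : (center G).index ≤ 4) (hcom : ∀ x y : G, ⁅x, y⁆ ∈ center G) :
    ∀ x y : G, x * y = y * x := by
  intro p x
  by_contra hne
  have hxZ : x ∉ center G := fun h => hne (mem_center_iff.mp h p)
  have hZinv : ∀ g ∈ center G, ρ g ∈ center G := fun g hg => map_center_mem ρ hg
  have hsum : x * ρ x * ρ (ρ x) ∈ center G := sum_fix hfp hrr hZinv (hcom _ _)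
  have hxx : ⁅x, ρ x⁆ = 1 := hfp _ (comm_self_fix (hcom _ _) hsum)
  obtain ⟨A, hA⟩ : ∃ A, A = closure (insert x (insert (ρ x) (center G : Set G))) := ⟨_, rfl⟩
  have hZA : center G ≤ A := fun g hg => hA ▸ subset_closure (Or.inr (Or.inr hg))
  have hxA : x ∈ A := hA ▸ subset_closure (Or.inl rfl)
  have hρxA : ρ x ∈ A := hA ▸ subset_closure (Or.inr (Or.inl rfl))
  have hAinv : ∀ g ∈ A, ρ g ∈ A := by
    intro g hg
    have hle : A ≤ A.comap (ρ : G →* G) := by
      conv_lhs => rw [hA]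
      refine (closure_le _).mpr ?_
      rintro u (rfl | rfl | hu)
      · exact hρxA
      · show ρ (ρ x) ∈ A
        have h : ρ (ρ x) = (x * ρ x)⁻¹ * (x * ρ x * ρ (ρ x)) := by group
        rw [h]; exact mul_mem (inv_mem (mul_mem hxA hρxA)) (hZA hsum)
      · exact hZA (hZinv u hu)
    exact hle hg
  have hlt : center G < A := SetLike.lt_iff_le_and_exists.mpr ⟨hZA, x, hxA, hxZ⟩
  obtain ⟨d, hd⟩ := Subgroup.card_dvd_of_le hZA
  have h1 := double hlt
  have m1 := card_mod_three hfp hrr hAinv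
  have m2 := card_mod_three hfp hrr hZinv
  have hd2 : 2 ≤ d := by
    by_contra h
    have : Nat.card A ≤ Nat.card (center G) := by
      rw [hd]; exact (Nat.mul_le_mul_left _ (show d ≤ 1 by omega)).trans (mul_one _).le
    have := Nat.card_pos (α := center G)
    omega
  have hd4 : 4 ≤ d := by
    rw [hd, Nat.mul_mod, m2] at m1
    omega
  have htop : A = ⊤ := by
    refine Subgroup.eq_top_of_le_card A ?_
    rw [hd, ← (center G).index_mul_card, mul_comm _ d]
    exact Nat.mul_le_mul_right _ (hidx.trans hd4)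
  have hle : A ≤ centralizer {x} := by
    rw [hA, closure_le]
    rintro u (rfl | rfl | hu)
    · exact mem_centralizer_singleton_iff.mpr rfl
    · exact mem_centralizer_singleton_iff.mpr (commutatorElement_eq_one_iff_commute.mp hxx).eq.symm
    · exact mem_centralizer_singleton_iff.mpr (mem_center_iff.mp hu x).symm
  exact hne (mem_centralizer_singleton_iff.mp (hle (htop.ge (mem_top p))))

/-- An order 64 group with a four-group of squares and commutators, and an automorphism of order three. -/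
structure Fpf (T : Type u) [Group T] where
  V : Subgroup T
  ρ : MulAut T
  card_V : Nat.card V = 4
  sq : ∀ v ∈ V, v ^ 2 = 1
  central : V ≤ center T
  center_le : center T ≤ V
  rr : ∀ x, ρ (ρ (ρ x)) = x
  fpf : ∀ x, ρ x = x → x = 1
  rho_mem : ∀ v ∈ V, ρ v ∈ V
  card_eq : Nat.card T = 64
  sq_mem : ∀ x, x ^ 2 ∈ V

namespace Fpf

variable {T : Type u} [Group T] [Finite T] (S : Fpf T)
include S

theorem com (x y : T) : ⁅x, y⁆ ∈ S.V := by
  have : ⁅x, y⁆ = x ^ 2 * (x⁻¹ * y) ^ 2 * (y⁻¹) ^ 2 := by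
    simp only [commutatorElement_def, pow_two]; group
  rw [this]
  exact mul_mem (mul_mem (S.sq_mem x) (S.sq_mem _)) (S.sq_mem _)

theorem symm' (x y : T) : ⁅x, y⁆ = ⁅y, x⁆ := by
  rw [← commutatorElement_inv y x]
  exact inv_eq_of_mul_eq_one_right (by rw [← pow_two]; exact S.sq _ (S.com y x))

theorem mul_left (x y w : T) : ⁅x * y, w⁆ = ⁅x, w⁆ * ⁅y, w⁆ := comm_mul_left' (S.central (S.com y w))

theorem mul_right (w x y : T) : ⁅w, x * y⁆ = ⁅w, x⁆ * ⁅w, y⁆ := by
  rw [S.symm' w (x * y), S.symm' w x, S.symm' w y, S.mul_left]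

theorem zero {w : T} (hw : w ∈ S.V) (g : T) : ⁅w, g⁆ = 1 :=
  commutatorElement_eq_one_iff_commute.mpr (mem_center_iff.mp (S.central hw) g).symm

theorem sum (g : T) : g * S.ρ g * S.ρ (S.ρ g) ∈ S.V := sum_fix S.fpf S.rr S.rho_mem (S.com _ _)

theorem self (g : T) : ⁅S.ρ g, g⁆ = 1 := by
  rw [S.symm']
  exact S.fpf _ (comm_self_fix (S.central (S.com _ _)) (S.central (S.sum g)))

theorem rho_rho {v : T} (hv : v ∈ S.V) : S.ρ (S.ρ v) = v * S.ρ v := by
  have hc : v * S.ρ v * S.ρ (S.ρ v) = 1 := S.fpf _ (by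
    rw [map_mul, map_mul, S.rr]
    exact (mem_center_iff.mp (S.central hv) _).trans (by group))
  have hinv : (v * S.ρ v) * (v * S.ρ v) = 1 := by
    rw [← pow_two]; exact S.sq _ (mul_mem hv (S.rho_mem v hv))
  exact mul_left_cancel (hc.trans hinv.symm)

theorem inv_eq {v : T} (hv : v ∈ S.V) : v⁻¹ = v :=
  inv_eq_of_mul_eq_one_right (by rw [← pow_two]; exact S.sq v hv)

theorem cross (a b : T) : ⁅b, S.ρ a⁆ = ⁅b, a⁆ * S.ρ ⁅b, a⁆ ∧ ⁅S.ρ b, a⁆ = ⁅b, a⁆ * S.ρ ⁅b, a⁆ := by
  have hmap : ∀ g h : T, S.ρ ⁅g, h⁆ = ⁅S.ρ g, S.ρ h⁆ := fun g h => map_commutatorElement (S.ρ : T →* T) g h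
  obtain ⟨w, hw⟩ : ∃ w, w = ⁅b, a⁆ := ⟨_, rfl⟩
  obtain ⟨x, hx⟩ : ∃ x, x = ⁅b, S.ρ a⁆ := ⟨_, rfl⟩
  obtain ⟨y, hy⟩ : ∃ y, y = ⁅S.ρ b, a⁆ := ⟨_, rfl⟩
  rw [← hw, ← hx, ← hy]
  have hρw : S.ρ w = ⁅S.ρ b, S.ρ a⁆ := by rw [hw, hmap]
  have hy' : S.ρ y = x * S.ρ w := by
    have h : ⁅b, S.ρ a⁆ * ⁅S.ρ b, S.ρ a⁆ * ⁅S.ρ (S.ρ b), S.ρ a⁆ = 1 := by
      rw [← S.mul_left, ← S.mul_left]; exact S.zero (S.sum b) _
    rw [← hx, ← hρw] at h
    rw [hy, hmap, eq_inv_of_mul_eq_one_right h]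
    exact S.inv_eq (mul_mem (hx ▸ S.com _ _) (hρw ▸ S.com _ _))
  have hx' : S.ρ x = y * S.ρ w := by
    have h : ⁅S.ρ b, a⁆ * ⁅S.ρ b, S.ρ a⁆ * ⁅S.ρ b, S.ρ (S.ρ a)⁆ = 1 := by
      rw [← S.mul_right, ← S.mul_right, S.symm']; exact S.zero (S.sum a) _
    rw [← hy, ← hρw] at h
    rw [hx, hmap, eq_inv_of_mul_eq_one_right h]
    exact S.inv_eq (mul_mem (hy ▸ S.com _ _) (hρw ▸ S.com _ _))
  have hwV : w ∈ S.V := hw ▸ S.com _ _
  have hxV : x ∈ S.V := hx ▸ S.com _ _
  have hyV : y ∈ S.V := hy ▸ S.com _ _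
  have hfix : S.ρ (x * y) = x * y := by
    rw [map_mul, hx', hy']
    calc y * S.ρ w * (x * S.ρ w) = y * (S.ρ w * x) * S.ρ w := by group
      _ = y * (x * S.ρ w) * S.ρ w := by rw [mem_center_iff.mp (S.central hxV) (S.ρ w)]
      _ = y * x * (S.ρ w * S.ρ w) := by group
      _ = x * y := by
        rw [← pow_two, S.sq _ (S.rho_mem w hwV), mul_one, mem_center_iff.mp (S.central hxV) y]
  have hxy : x = y := by
    rw [eq_inv_of_mul_eq_one_left (S.fpf _ hfix), S.inv_eq hyV]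
  rw [← hxy] at hx' ⊢
  refine ⟨?_, ?_⟩ <;>
  · have h1 : S.ρ (S.ρ x) = S.ρ w := by
      rw [S.rho_rho hxV, hx', ← mul_assoc, ← pow_two, S.sq _ hxV, one_mul]
    have h2 : S.ρ x = w := S.ρ.injective h1
    rw [← S.rho_rho hwV, ← h2, S.rr]

theorem generates {a b : T} (ha : a ∉ S.V) (hb : ∀ v ∈ S.V, b ≠ v ∧ b ≠ v * a ∧ b ≠ v * S.ρ a ∧ b ≠ v * S.ρ (S.ρ a))
    {H : Subgroup T} (hV : S.V ≤ H) (h1 : a ∈ H) (h2 : S.ρ a ∈ H) (h3 : b ∈ H) (h4 : S.ρ b ∈ H) : H = ⊤ := by
  obtain ⟨M, hM⟩ : ∃ M, M = closure (insert b (insert (S.ρ b) (insert a (insert (S.ρ a) (S.V : Set T))))) :=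
    ⟨_, rfl⟩
  have hsub : ∀ {g}, g ∈ insert b (insert (S.ρ b) (insert a (insert (S.ρ a) (S.V : Set T)))) → g ∈ M :=
    fun hg => hM ▸ subset_closure hg
  have hVM : S.V ≤ M := fun v hv => hsub (by simp [hv])
  have hr2 : ∀ g, g ∈ M → S.ρ g ∈ M → S.ρ (S.ρ g) ∈ M := fun g h0 h1 => by
    have h : S.ρ (S.ρ g) = (g * S.ρ g)⁻¹ * (g * S.ρ g * S.ρ (S.ρ g)) := by group
    rw [h]; exact mul_mem (inv_mem (mul_mem h0 h1)) (hVM (S.sum g))
  have hMinv : ∀ g ∈ M, S.ρ g ∈ M := by
    intro g hg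
    have hle : M ≤ M.comap (S.ρ : T →* T) := by
      conv_lhs => rw [hM]
      refine (closure_le _).mpr ?_
      rintro u (rfl | rfl | rfl | rfl | hu)
      · exact hsub (by simp)
      · exact hr2 b (hsub (by simp)) (hsub (by simp))
      · exact hsub (by simp)
      · exact hr2 a (hsub (by simp)) (hsub (by simp))
      · exact hVM (S.rho_mem u hu)
    exact hle hg
  have hMH : M ≤ H := by
    rw [hM, closure_le]
    rintro g (rfl | rfl | rfl | rfl | hg)
    exacts [h3, h4, h1, h2, hV hg]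
  refine eq_top_iff.mpr (le_trans ?_ hMH)
  obtain ⟨A, hA⟩ : ∃ A, A = closure (insert a (insert (S.ρ a) (S.V : Set T))) := ⟨_, rfl⟩
  have hVA : S.V ≤ A := fun v hv => hA ▸ subset_closure (Or.inr (Or.inr hv))
  have hAinv : ∀ g ∈ A, S.ρ g ∈ A := by
    intro g hg
    have hle : A ≤ A.comap (S.ρ : T →* T) := by
      conv_lhs => rw [hA]
      refine (closure_le _).mpr ?_
      rintro u (rfl | rfl | hu)
      · exact hA ▸ subset_closure (Or.inr (Or.inl rfl))
      · have h : S.ρ (S.ρ a) = (a * S.ρ a)⁻¹ * (a * S.ρ a * S.ρ (S.ρ a)) := by group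
        show S.ρ (S.ρ a) ∈ A
        rw [h]
        exact mul_mem (inv_mem (mul_mem (hA ▸ subset_closure (Or.inl rfl))
          (hA ▸ subset_closure (Or.inr (Or.inl rfl))))) (hVA (S.sum a))
      · exact hVA (S.rho_mem u hu)
    exact hle hg
  -- `A` consists of four cosets
  have hAcases : ∀ g ∈ A, ∃ v ∈ S.V, g = v ∨ g = v * a ∨ g = v * S.ρ a ∨ g = v * S.ρ (S.ρ a) := by
    have hcard : Nat.card A ≤ 16 := by
      have hc : ∀ {U : Set T}, (∀ v ∈ S.V, v ∈ closure U) → ∀ (x y : T), x ^ 2 ∈ closure U ∧ ⁅x, y⁆ ∈ closure U :=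
        fun h x y => ⟨h _ (S.sq_mem x), h _ (S.com x y)⟩
      have hu : ∀ v ∈ S.V, v ∈ closure (S.V : Set T) := fun v hv => subset_closure hv
      have hu' : ∀ v ∈ S.V, v ∈ closure (insert (S.ρ a) (S.V : Set T)) := fun v hv => subset_closure (Or.inr hv)
      have c1 := card_insert_le (x := S.ρ a) (S := (S.V : Set T)) (hc hu _ 1).1 (fun s _ => (hc hu _ s).2)
      have c2 := card_insert_le (x := a) (S := insert (S.ρ a) (S.V : Set T)) (hc hu' _ 1).1
        (fun s _ => (hc hu' _ s).2)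
      rw [closure_eq, S.card_V] at c1
      rw [hA]; omega
    intro g hg
    classical
    by_contra hne
    push Not at hne
    -- otherwise five disjoint cosets of `V` lie in `A`
    have hmem : ∀ (i : Fin 5) (v : S.V), (v : T) * ![1, a, S.ρ a, S.ρ (S.ρ a), g] i ∈ A := by
      intro i v
      refine mul_mem (hVA v.2) ?_
      fin_cases i
      exacts [one_mem _, hA ▸ subset_closure (Or.inl rfl), hA ▸ subset_closure (Or.inr (Or.inl rfl)),
        hAinv _ (hA ▸ subset_closure (Or.inr (Or.inl rfl))), hg]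
    let f : Fin 5 × S.V → A := fun p => ⟨_, hmem p.1 p.2⟩
    have key : ∀ x : T, x ∉ S.V → ∀ v ∈ S.V, x ≠ v := fun x hx v hv h => hx (h ▸ hv)
    have hρaV : S.ρ a ∉ S.V := fun h => ha (by have := S.rho_mem _ (S.rho_mem _ h); rwa [S.rr] at this)
    have hρρaV : S.ρ (S.ρ a) ∉ S.V := fun h => hρaV (by
      have := S.rho_mem _ (S.rho_mem _ h); rwa [S.rr] at this)
    have h01 : a⁻¹ * S.ρ a ∉ S.V := fun h => ha (coset_fix S.fpf S.rho_mem h)
    have h12 : (S.ρ a)⁻¹ * S.ρ (S.ρ a) ∉ S.V := fun h => hρaV (coset_fix S.fpf S.rho_mem h)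
    have h02 : (S.ρ (S.ρ a))⁻¹ * a ∉ S.V := fun h => hρρaV (coset_fix S.fpf S.rho_mem (by rw [S.rr]; exact h))
    have hg1 : g ∉ S.V := fun h => (hne g h).1 rfl
    have hcanc : ∀ e : T, e⁻¹ * g ∈ S.V → g = e⁻¹ * g * e := fun e h => by
      rw [← mem_center_iff.mp (S.central h) e, mul_inv_cancel_left]
    have hg2 : a⁻¹ * g ∉ S.V := fun h => (hne _ h).2.1 (hcanc a h)
    have hg3 : (S.ρ a)⁻¹ * g ∉ S.V := fun h => (hne _ h).2.2.1 (hcanc _ h)
    have hg4 : (S.ρ (S.ρ a))⁻¹ * g ∉ S.V := fun h => (hne _ h).2.2.2 (hcanc _ h)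
    have hdiff : ∀ i j : Fin 5, (![1, a, S.ρ a, S.ρ (S.ρ a), g] i)⁻¹ * ![1, a, S.ρ a, S.ρ (S.ρ a), g] j ∈ S.V →
        i = j := by
      intro i j h
      have h' := inv_mem h
      rw [mul_inv_rev, inv_inv] at h'
      fin_cases i <;> fin_cases j <;> simp only [Matrix.cons_val] at h h' ⊢ <;>
        first
          | rfl
          | exact absurd (by simpa using h) ha
          | exact absurd (by simpa using h') ha
          | exact absurd (by simpa using h) hρaV
          | exact absurd (by simpa using h') hρaV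
          | exact absurd (by simpa using h) hρρaV
          | exact absurd (by simpa using h') hρρaV
          | exact absurd h h01
          | exact absurd h' h01
          | exact absurd h h12
          | exact absurd h' h12
          | exact absurd h h02
          | exact absurd h' h02
          | exact absurd (by simpa using h) hg1
          | exact absurd (by simpa using h') hg1
          | exact absurd h hg2
          | exact absurd h' hg2
          | exact absurd h hg3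
          | exact absurd h' hg3
          | exact absurd h hg4
          | exact absurd h' hg4
    have hf : Function.Injective f := by
      rintro ⟨i, p⟩ ⟨j, q⟩ h
      have h1 : (p : T) * ![1, a, S.ρ a, S.ρ (S.ρ a), g] i = (q : T) * ![1, a, S.ρ a, S.ρ (S.ρ a), g] j :=
        congrArg Subtype.val h
      have hij : i = j := hdiff i j (by
        rw [show ![1, a, S.ρ a, S.ρ (S.ρ a), g] i = (p : T)⁻¹ * ((q : T) * ![1, a, S.ρ a, S.ρ (S.ρ a), g] j) by
          rw [← h1, inv_mul_cancel_left]]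
        have hc : (q : T)⁻¹ * p ∈ S.V := mul_mem (inv_mem q.2) p.2
        set e := ![1, a, S.ρ a, S.ρ (S.ρ a), g] j
        rw [show ((p : T)⁻¹ * ((q : T) * e))⁻¹ * e = e⁻¹ * (((q : T)⁻¹ * p) * e) by group,
          ← mem_center_iff.mp (S.central hc) e, inv_mul_cancel_left]
        exact hc)
      subst hij
      exact Prod.ext rfl (Subtype.ext (mul_right_cancel h1))
    have := Nat.card_le_card_of_injective f hf
    rw [Nat.card_prod, S.card_V] at this
    norm_num at this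
    omega
  have hAM : A ≤ M := by
    rw [hA, closure_le]
    rintro g (rfl | rfl | hg)
    exacts [hsub (by simp), hsub (by simp), hVM hg]
  have hρaV : S.ρ a ∉ S.V := fun h => ha (by have := S.rho_mem _ (S.rho_mem _ h); rwa [S.rr] at this)
  have hVA' : S.V < A := SetLike.lt_iff_le_and_exists.mpr ⟨hVA, a, hA ▸ subset_closure (Or.inl rfl), ha⟩
  have hbA : b ∉ A := fun h => by
    obtain ⟨v, hv, h⟩ := hAcases b h
    obtain ⟨e1, e2, e3, e4⟩ := hb v hv
    rcases h with h | h | h | h <;> contradiction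
  have hAM' : A < M := SetLike.lt_iff_le_and_exists.mpr ⟨hAM, b, hsub (by simp), hbA⟩
  have d1 := double hVA'
  have d2 := double hAM'
  have m1 := card_mod_three S.fpf S.rr hAinv
  have m2 := card_mod_three S.fpf S.rr hMinv
  obtain ⟨cA, hcA⟩ := Subgroup.card_dvd_of_le (le_top : A ≤ ⊤)
  rw [card_top, S.card_eq] at hcA
  obtain ⟨cM, hcM⟩ := Subgroup.card_dvd_of_le (le_top : M ≤ ⊤)
  rw [card_top, S.card_eq] at hcM
  have hdvd : ∀ {m : ℕ}, m ∣ 64 → m = 1 ∨ m = 2 ∨ m = 4 ∨ m = 8 ∨ m = 16 ∨ m = 32 ∨ m = 64 := fun {m} hm => by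
    obtain ⟨i, hi, rfl⟩ := (Nat.dvd_prime_pow Nat.prime_two).mp (show m ∣ 2 ^ 6 by norm_num [hm])
    interval_cases i <;> simp
  rw [S.card_V] at d1
  rcases hdvd ⟨cA, hcA⟩ with e | e | e | e | e | e | e <;>
  rcases hdvd ⟨cM, hcM⟩ with e' | e' | e' | e' | e' | e' | e' <;>
  rw [e] at d1 d2 m1 <;> rw [e'] at d2 m2 <;> first
    | omega
    | (exact (Subgroup.eq_top_of_card_eq M (by rw [e', S.card_eq])).ge)

theorem exists_gensL {a b : T} (ha : a ^ 2 = 1) (hb : b ^ 2 = 1) (hw : ⁅b, a⁆ ≠ 1) :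
    ∃ z z' a' b' : T, FourCentre.GensL z z' a a' b b' := by
  have haV : a ∉ S.V := fun h => hw (by rw [S.symm']; exact S.zero h b)
  refine ⟨⁅b, a⁆, S.ρ ⁅b, a⁆, S.ρ a, S.ρ b, ⟨?_, S.sq _ (S.com _ _), S.sq _ (S.rho_mem _ (S.com _ _)),
    S.central (S.com _ _), S.central (S.rho_mem _ (S.com _ _)), ha, by rw [← map_pow, ha, map_one], hb,
    by rw [← map_pow, hb, map_one], S.self a, rfl, (S.cross a b).1, (S.cross a b).2,
    (map_commutatorElement (S.ρ : T →* T) b a).symm, S.self b⟩⟩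
  refine S.generates (b := b) haV
    (H := closure ({S.ρ b, b, S.ρ a, a, S.ρ ⁅b, a⁆, ⁅b, a⁆} : Set T)) ?_ ?_ (subset_closure (by simp)) (subset_closure (by simp)) (subset_closure (by simp))
    (subset_closure (by simp))
  · intro v hv
    have h1 : ∀ g : T, ⁅g, a⁆ = 1 → b ≠ v * g := fun g hg h => hw (by
      rw [h, S.mul_left, S.zero hv, hg, one_mul])
    refine ⟨fun h => hw (by rw [h]; exact S.zero hv a), h1 a (commutatorElement_self a), h1 _ (S.self a), h1 _ ?_⟩
    have h2 : ⁅a, a⁆ * ⁅S.ρ a, a⁆ * ⁅S.ρ (S.ρ a), a⁆ = 1 := by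
      rw [← S.mul_left, ← S.mul_left]; exact S.zero (S.sum a) _
    rwa [commutatorElement_self, S.self, one_mul, one_mul] at h2
  · intro v hv
    classical
    haveI : Fintype S.V := Fintype.ofFinite _
    obtain ⟨w, hwdef⟩ : ∃ w, w = ⁅b, a⁆ := ⟨_, rfl⟩
    rw [← hwdef] at hw ⊢
    have hwV : w ∈ S.V := hwdef ▸ S.com _ _
    have h1 : S.ρ w ≠ w := fun h => hw (S.fpf w h)
    have h2 : S.ρ w ≠ 1 := fun h => hw ((MulEquiv.map_eq_one_iff _).mp h)
    have h3 : w * S.ρ w ≠ 1 := fun h => h1 (by rw [← eq_inv_of_mul_eq_one_right h |>.symm, S.inv_eq hwV])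
    have hcard : ({1, ⟨w, hwV⟩, ⟨_, S.rho_mem _ hwV⟩, ⟨_, mul_mem hwV (S.rho_mem _ hwV)⟩} : Finset S.V).card = 4 := by
      rw [Finset.card_insert_of_notMem, Finset.card_insert_of_notMem, Finset.card_pair]
      · simp [Subtype.ext_iff, hw]
      · simp [Subtype.ext_iff, h1.symm, h2]
      · simp [Subtype.ext_iff, Ne.symm hw, h2.symm, h3.symm]
    have := Finset.mem_univ (⟨v, hv⟩ : S.V)
    rw [← Finset.eq_univ_of_card _ (by rw [hcard, ← Nat.card_eq_fintype_card, S.card_V])] at this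
    simp only [Finset.mem_insert, Finset.mem_singleton, Subtype.ext_iff, OneMemClass.coe_one] at this
    rcases this with h | h | h | h <;> rw [h]
    · exact one_mem _
    · exact subset_closure (by simp)
    · exact subset_closure (by simp)
    · exact mul_mem (subset_closure (by simp)) (subset_closure (by simp))

end Fpf

theorem exists_fpf {T : Type u} [Group T] [Finite T] (h64 : Nat.card T = 64) (hna : ¬ IsMulCommutative T)
    (ρ : MulAut T) (hrr : ∀ x, ρ (ρ (ρ x)) = x) (hfp : ∀ x, ρ x = x → x = 1) :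
    ∃ S : Fpf T, S.ρ = ρ := by
  haveI := Fact.mk Nat.prime_two
  have hP : IsPGroup 2 T := IsPGroup.of_card (n := 6) (by rw [h64]; rfl)
  haveI : Nontrivial T := Finite.one_lt_card_iff_nontrivial.mp (by rw [h64]; norm_num)
  haveI := hP.center_nontrivial
  have hZinv : ∀ g ∈ center T, ρ g ∈ center T := fun g hg => map_center_mem ρ hg
  have h3 := card_mod_three hfp hrr hZinv
  have h1 : 1 < Nat.card (center T) := Finite.one_lt_card
  have hne : center T ≠ ⊤ := fun h => hna ⟨⟨fun a b => mem_center_iff.mp (h.ge (mem_top b)) a⟩⟩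
  obtain ⟨c, hc⟩ := Subgroup.card_dvd_of_le (le_top : center T ≤ ⊤)
  rw [card_top, h64] at hc
  obtain ⟨i, hi, hi'⟩ := (Nat.dvd_prime_pow Nat.prime_two).mp (show Nat.card (center T) ∣ 2 ^ 6 by
    norm_num; exact ⟨c, hc⟩)
  set ρq : MulAut (T ⧸ center T) := QuotientGroup.congr (center T) (center T) ρ (by
    refine eq_of_le_of_card_ge ?_ (Subgroup.card_map_of_injective (f := (ρ : T →* T)) ρ.injective).ge
    rintro _ ⟨x, hx, rfl⟩
    exact hZinv x hx) with hρq
  have hqfp : ∀ q, ρq q = q → q = 1 := by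
    intro q hq
    induction q using QuotientGroup.induction_on with
    | _ x => exact (QuotientGroup.eq_one_iff x).mpr (coset_fix hfp hZinv (QuotientGroup.eq.mp hq.symm))
  have hqrr : ∀ q, ρq (ρq (ρq q)) = q := by
    intro q
    induction q using QuotientGroup.induction_on with
    | _ x => exact congrArg (QuotientGroup.mk' (center T)) (hrr x)
  have hcq := (center T).card_eq_card_quotient_mul_card_subgroup
  rw [h64, hi'] at hcq
  have hi2 : i = 2 ∨ i = 4 := by
    have h6 : i ≠ 6 := fun h => hne (Subgroup.eq_top_of_card_eq _ (by rw [hi', h, h64]; rfl))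
    rw [hi'] at h3 h1
    interval_cases i <;> first | omega | norm_num at *
  have hW : ∀ a b : T ⧸ center T, a * b = b * a := by
    haveI hQP : IsPGroup 2 (T ⧸ center T) := hP.to_quotient _
    rcases hi2 with rfl | rfl
    · have hq16 : Nat.card (T ⧸ center T) = 16 := by norm_num at hcq; omega
      haveI : Nontrivial (T ⧸ center T) := Finite.one_lt_card_iff_nontrivial.mp (by rw [hq16]; norm_num)
      haveI := hQP.center_nontrivial
      have hQinv : ∀ g ∈ center (T ⧸ center T), ρq g ∈ center (T ⧸ center T) := fun g hg => map_center_mem ρq hg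
      have hq3 := card_mod_three hqfp hqrr hQinv
      have hq1 : 1 < Nat.card (center (T ⧸ center T)) := Finite.one_lt_card
      obtain ⟨d, hd⟩ := Subgroup.card_dvd_of_le (le_top : center (T ⧸ center T) ≤ ⊤)
      rw [card_top, hq16] at hd
      obtain ⟨j, hj, hj'⟩ := (Nat.dvd_prime_pow Nat.prime_two).mp
        (show Nat.card (center (T ⧸ center T)) ∣ 2 ^ 4 by norm_num; exact ⟨d, hd⟩)
      have hidx := (center (T ⧸ center T)).index_mul_card
      rw [hq16, hj'] at hidx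
      refine abelian_of_index hqfp hqrr ?_ ?_
      · rw [hj'] at hq3 hq1
        interval_cases j <;> omega
      · intro a b
        have h2 : IsMulCommutative ((T ⧸ center T) ⧸ center (T ⧸ center T)) := by
          have hcard := (center (T ⧸ center T)).index_eq_card
          rw [hj'] at hq3 hq1
          interval_cases j
          all_goals first
            | omega
            | exact IsPGroup.isMulCommutative_of_card_eq_prime_sq (p := 2) (by rw [← hcard]; norm_num at hidx ⊢; omega)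
            | (haveI : Subsingleton ((T ⧸ center T) ⧸ center (T ⧸ center T)) :=
                (Nat.card_eq_one_iff_unique.mp (by rw [← hcard]; omega)).1
               exact ⟨⟨fun a b => Subsingleton.elim _ _⟩⟩)
        refine (QuotientGroup.eq_one_iff _).mp ?_
        show QuotientGroup.mk' (center (T ⧸ center T)) ⁅a, b⁆ = 1
        rw [map_commutatorElement, commutatorElement_eq_one_iff_commute]
        exact h2.is_comm.comm _ _
    · have hq4 : Nat.card (T ⧸ center T) = 2 ^ 2 := by norm_num at hcq ⊢; omega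
      intro a b
      exact (IsPGroup.isMulCommutative_of_card_eq_prime_sq (p := 2) hq4).is_comm.comm a b
  have hcom : ∀ x y : T, ⁅x, y⁆ ∈ center T := fun x y => (QuotientGroup.eq_one_iff _).mp (by
    show QuotientGroup.mk' (center T) ⁅x, y⁆ = 1
    rw [map_commutatorElement, commutatorElement_eq_one_iff_commute]
    exact hW _ _)
  rcases hi2 with rfl | rfl
  swap
  · exfalso
    have hidx := (center T).index_mul_card
    rw [h64, hi'] at hidx
    exact hna ⟨⟨abelian_of_index hfp hrr (by norm_num at hidx; omega) hcom⟩⟩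
  have hsqZ : ∀ v ∈ center T, v ^ 2 = 1 := by
    intro v hv
    by_contra hne2
    have hcardZ : Nat.card (center T) = 4 := by rw [hi']; norm_num
    have hd : orderOf v ∣ 4 := hcardZ ▸ Subgroup.orderOf_dvd_natCard _ hv
    obtain ⟨j, hj, hj'⟩ := (Nat.dvd_prime_pow Nat.prime_two).mp (show orderOf v ∣ 2 ^ 2 by norm_num; exact hd)
    have hv4 : orderOf v = 4 := by
      interval_cases j
      · exact absurd (by rw [orderOf_eq_one_iff.mp hj', one_pow]) hne2
      · exact absurd (by rw [pow_one] at hj'; rw [← hj', pow_orderOf_eq_one]) hne2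
      · norm_num at hj'; exact hj'
    -- the centre would be cyclic
    have hzp : zpowers v = center T := Subgroup.eq_of_le_of_card_ge (zpowers_le.mpr hv)
      (by rw [Nat.card_zpowers, hv4, hcardZ])
    obtain ⟨k, hk⟩ := (hzp ▸ hZinv v hv : ρ v ∈ zpowers v)
    refine hne2 (hfp _ ?_)
    have hv4' : v ^ 4 = 1 := hv4 ▸ pow_orderOf_eq_one v
    rcases Int.even_or_odd k with ⟨m, hm⟩ | ⟨m, hm⟩
    · exfalso
      have h1 : ρ (v ^ 2) = 1 := by
        rw [map_pow, ← hk, hm]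
        show (v ^ (m + m)) ^ 2 = 1
        rw [← zpow_natCast (v ^ (m + m)) 2, ← zpow_mul, show (m + m) * ((2 : ℕ) : ℤ) = (4 : ℕ) * m by push_cast; ring,
          zpow_mul, zpow_natCast, hv4', one_zpow]
      exact hne2 ((MulEquiv.map_eq_one_iff _).mp h1)
    · rw [map_pow, ← hk, hm]
      show (v ^ (2 * m + 1)) ^ 2 = v ^ 2
      rw [← zpow_natCast (v ^ (2 * m + 1)) 2, ← zpow_mul,
        show (2 * m + 1) * ((2 : ℕ) : ℤ) = (4 : ℕ) * m + (2 : ℕ) by push_cast; ring, zpow_add, zpow_mul,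
        zpow_natCast, hv4', one_zpow, one_mul, zpow_natCast]
  refine ⟨⟨center T, ρ, by rw [hi']; norm_num, hsqZ, le_rfl, le_rfl, hrr, hfp, hZinv, h64, fun g => ?_⟩, rfl⟩
  refine mem_center_iff.mpr fun k => ?_
  have h1 := comm_mul_left' (x := g) (y := g) (w := k) (hcom g k)
  rw [← pow_two, ← pow_two, hsqZ _ (hcom g k)] at h1
  exact (commutatorElement_eq_one_iff_commute.mp h1).eq.symm

/-- The data produced by an inverting involutory automorphism. -/
theorem inverting {T : Type u} [Group T] [Finite T] (S : Fpf T) (x : MulAut T)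
    (hxx : ∀ y, x (x y) = y) (hxρ : ∀ y, x (S.ρ y) = S.ρ (S.ρ (x y))) :
    (∃ a b : T, a ^ 2 = 1 ∧ b ^ 2 = 1 ∧ ⁅b, a⁆ ≠ 1) ∧
      ∃ z f g : T, (∀ y, x y = y ↔ y ∈ closure ({g, f, z} : Set T)) ∧
        Nat.card (closure ({g, f, z} : Set T)) = 8 ∧ z ∈ center T ∧ z ^ 2 = 1 ∧ ⁅g, f⁆ = z ∧
        (f ^ 2 = 1 ∧ g ^ 2 = 1 ∨ f ^ 2 = z ∧ g ^ 2 = z) := by
  classical
  have hxV : ∀ v ∈ S.V, x v ∈ S.V := fun v hv => S.center_le (map_center_mem x (S.central hv))
  haveI : Fintype S.V := Fintype.ofFinite _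
  have hVlist : ∀ {s : T}, s ∈ S.V → s ≠ 1 → ∀ v ∈ S.V, v = 1 ∨ v = s ∨ v = S.ρ s ∨ v = s * S.ρ s := by
    intro w hwV hw v hv
    have h1 : S.ρ w ≠ w := fun h => hw (S.fpf w h)
    have h2 : S.ρ w ≠ 1 := fun h => hw ((MulEquiv.map_eq_one_iff _).mp h)
    have h3 : w * S.ρ w ≠ 1 := fun h => h1 (by rw [← eq_inv_of_mul_eq_one_right h |>.symm, S.inv_eq hwV])
    have hcard : ({1, ⟨w, hwV⟩, ⟨_, S.rho_mem _ hwV⟩, ⟨_, mul_mem hwV (S.rho_mem _ hwV)⟩} : Finset S.V).card = 4 := by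
      rw [Finset.card_insert_of_notMem, Finset.card_insert_of_notMem, Finset.card_pair]
      · simp [Subtype.ext_iff, hw]
      · simp [Subtype.ext_iff, h1.symm, h2]
      · simp [Subtype.ext_iff, Ne.symm hw, h2.symm, h3.symm]
    have := Finset.mem_univ (⟨v, hv⟩ : S.V)
    rw [← Finset.eq_univ_of_card _ (by rw [hcard, ← Nat.card_eq_fintype_card, S.card_V])] at this
    simpa [Subtype.ext_iff] using this
  obtain ⟨z, hzV, hz1, hxz⟩ : ∃ z ∈ S.V, z ≠ 1 ∧ x z = z := by
    have hV1 : S.V ≠ ⊥ := fun h => by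
      have := S.card_V; rw [h, card_bot] at this; omega
    obtain ⟨s, hs, hs1'⟩ := S.V.bot_or_exists_ne_one.resolve_left hV1
    rcases hVlist hs hs1' _ (hxV s hs) with h | h | h | h
    · exact absurd ((MulEquiv.map_eq_one_iff _).mp h) hs1'
    · exact ⟨s, hs, hs1', h⟩
    · refine ⟨S.ρ (S.ρ s), S.rho_mem _ (S.rho_mem _ hs), fun h' => hs1'
        ((MulEquiv.map_eq_one_iff _).mp ((MulEquiv.map_eq_one_iff _).mp h')), ?_⟩
      rw [hxρ, hxρ, S.rr, h]
    · refine ⟨S.ρ s, S.rho_mem _ hs, fun h' => hs1' ((MulEquiv.map_eq_one_iff _).mp h'), ?_⟩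
      rw [hxρ, h, ← S.rho_rho hs, ← S.rr s]
      simp [S.rr]
  have hρρz : S.ρ (S.ρ z) = z * S.ρ z := S.rho_rho hzV
  have hxρz : x (S.ρ z) = z * S.ρ z := by rw [hxρ, hxz, hρρz]
  have hfixV : ∀ v ∈ S.V, x v = v → v = 1 ∨ v = z := by
    intro v hv hfix
    rcases hVlist hzV hz1 v hv with h | h | h | h
    · exact Or.inl h
    · exact Or.inr h
    · exfalso
      rw [h, hxρz] at hfix
      exact hz1 (mul_eq_right.mp hfix)
    · exfalso
      rw [h, map_mul, hxz, hxρz, ← mul_assoc, ← pow_two, S.sq z hzV, one_mul] at hfix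
      exact hz1 (mul_eq_right.mp hfix.symm)
  haveI hVn : S.V.Normal := ⟨fun v hv g => by
    rw [mem_center_iff.mp (S.central hv) g, mul_inv_cancel_right]; exact hv⟩
  -- the fixed cosets
  letI : CommGroup (T ⧸ S.V) := { (inferInstance : Group (T ⧸ S.V)) with
    mul_comm := fun a b => by
      induction a using QuotientGroup.induction_on with
      | _ p =>
        induction b using QuotientGroup.induction_on with
        | _ q =>
          rw [← commutatorElement_eq_one_iff_mul_comm]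
          refine (map_commutatorElement (QuotientGroup.mk' S.V) p q).symm.trans ?_
          exact (QuotientGroup.eq_one_iff _).mpr (S.com p q) }
  set π := QuotientGroup.mk' S.V with hπ
  set xq : MulAut (T ⧸ S.V) := QuotientGroup.congr S.V S.V x (by
    refine eq_of_le_of_card_ge ?_ (Subgroup.card_map_of_injective (f := (x : T →* T)) x.injective).ge
    rintro _ ⟨y, hy, rfl⟩
    exact hxV y hy) with hxq
  have hxqmk : ∀ y, xq (π y) = π (x y) := fun y => rfl
  let d : T ⧸ S.V →* T ⧸ S.V := MonoidHom.mk' (fun w => w⁻¹ * xq w) fun a b => by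
    rw [map_mul, mul_inv, mul_mul_mul_comm]
  have hexp : ∀ w : T ⧸ S.V, w * w = 1 := fun w => by
    induction w using QuotientGroup.induction_on with
    | _ y => rw [← QuotientGroup.mk_mul, QuotientGroup.eq_one_iff, ← pow_two]; exact S.sq_mem y
  have hker : ∀ y, π y ∈ d.ker ↔ y⁻¹ * x y ∈ S.V := fun y => by
    rw [MonoidHom.mem_ker]
    show (π y)⁻¹ * xq (π y) = 1 ↔ _
    rw [hxqmk, ← map_inv, ← map_mul]
    exact QuotientGroup.eq_one_iff _
  have hrange : d.range ≤ d.ker := by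
    rintro _ ⟨w, rfl⟩
    induction w using QuotientGroup.induction_on with
    | _ y =>
      show d (π y) ∈ _
      have : d (π y) = π (y⁻¹ * x y) := by
        show (π y)⁻¹ * xq (π y) = _
        rw [hxqmk, ← map_inv, ← map_mul]
      rw [this, hker, map_mul, map_inv, hxx]
      have hyx : (y⁻¹ * x y) ^ 2 ∈ S.V := S.sq_mem _
      rw [show (y⁻¹ * x y)⁻¹ * ((x y)⁻¹ * y) = ((y⁻¹ * x y) ^ 2)⁻¹ by rw [pow_two]; group]
      exact inv_mem hyx
  have hq16 : Nat.card (T ⧸ S.V) = 16 := by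
    have h := S.V.card_eq_card_quotient_mul_card_subgroup
    rw [S.card_eq, S.card_V] at h
    omega
  have hk4 : 4 ≤ Nat.card d.ker := by
    have h := d.ker.card_eq_card_quotient_mul_card_subgroup
    rw [Nat.card_congr (QuotientGroup.quotientKerEquivRange d).toEquiv, hq16] at h
    have h2 := Subgroup.card_le_of_le hrange
    by_contra hlt
    have h3 : Nat.card d.range * Nat.card d.ker ≤ 3 * 3 := Nat.mul_le_mul (by omega) (by omega)
    omega
  -- a fixed coset contains a fixed element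
  have hlift : ∀ y, π y ∈ d.ker → ∃ y', π y' = π y ∧ x y' = y' := by
    intro y hy
    rw [hker] at hy
    have hfixv : x (y⁻¹ * x y) = y⁻¹ * x y := by
      rw [map_mul, map_inv, hxx]
      have := S.inv_eq hy
      rw [mul_inv_rev, inv_inv] at this
      exact this
    rcases hfixV _ hy hfixv with h | h
    · exact ⟨y, rfl, (inv_mul_eq_one.mp h).symm⟩
    · refine ⟨y * S.ρ z, ?_, ?_⟩
      · rw [map_mul]
        show π y * π (S.ρ z) = π y
        rw [show π (S.ρ z) = 1 from (QuotientGroup.eq_one_iff _).mpr (S.rho_mem _ hzV), mul_one]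
      · rw [map_mul, hxρz, show x y = y * z from inv_mul_eq_iff_eq_mul.mp h, mul_assoc, ← mul_assoc z z,
          ← pow_two, S.sq z hzV, one_mul]
  have hsep : ∀ y, π y ∈ d.ker → π (S.ρ y) ∈ d.ker → y ∈ S.V := by
    intro y hy hy'
    rw [hker] at hy hy'
    refine coset_fix S.fpf S.rho_mem ?_
    have h1 : (S.ρ y)⁻¹ * S.ρ (S.ρ (x y)) ∈ S.V := by rwa [hxρ] at hy'
    have h2 : (S.ρ (S.ρ y))⁻¹ * S.ρ (S.ρ (x y)) ∈ S.V := by
      have := S.rho_mem _ (S.rho_mem _ hy)
      rwa [map_mul, map_mul, map_inv, map_inv] at this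
    have h3 : (S.ρ y)⁻¹ * S.ρ (S.ρ y) ∈ S.V := by
      have := mul_mem h1 (inv_mem h2)
      rwa [mul_inv_rev, inv_inv, mul_assoc, mul_inv_cancel_left] at this
    have := S.rho_mem _ (S.rho_mem _ h3)
    rwa [map_mul, map_mul, map_inv, map_inv, S.rr] at this
  have hsep2 : ∀ y, π y ∈ d.ker → π (S.ρ (S.ρ y)) ∈ d.ker → y ∈ S.V := fun y hy hy' => by
    have h := hsep (S.ρ (S.ρ y)) hy' (by rw [S.rr]; exact hy)
    have := S.rho_mem _ h
    rwa [S.rr] at this
  have hk4' : Nat.card d.ker ≤ 4 := by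
    set ρq : MulAut (T ⧸ S.V) := QuotientGroup.congr S.V S.V S.ρ (by
      refine eq_of_le_of_card_ge ?_ (Subgroup.card_map_of_injective (f := (S.ρ : T →* T)) S.ρ.injective).ge
      rintro _ ⟨y, hy, rfl⟩
      exact S.rho_mem y hy) with hρq
    have hinj : Function.Injective (fun p : d.ker × d.ker => (p.1 : T ⧸ S.V) * ρq p.2) := by
      rintro ⟨⟨p, hp⟩, ⟨q, hq⟩⟩ ⟨⟨p', hp'⟩, ⟨q', hq'⟩⟩ h
      obtain ⟨p, rfl⟩ := QuotientGroup.mk'_surjective S.V p
      obtain ⟨q, rfl⟩ := QuotientGroup.mk'_surjective S.V q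
      obtain ⟨p', rfl⟩ := QuotientGroup.mk'_surjective S.V p'
      obtain ⟨q', rfl⟩ := QuotientGroup.mk'_surjective S.V q'
      have h' : π p * π (S.ρ q) = π p' * π (S.ρ q') := h
      have h1 : π (S.ρ (q * q'⁻¹)) = π p⁻¹ * π p' := by
        rw [map_mul S.ρ, map_inv S.ρ, map_mul, map_inv, map_inv, mul_inv_eq_iff_eq_mul, mul_assoc, ← h',
          inv_mul_cancel_left]
      have hqq : q * q'⁻¹ ∈ S.V := hsep _ (by rw [map_mul, map_inv]; exact mul_mem hq (inv_mem hq'))
        (by rw [h1, map_inv]; exact mul_mem (inv_mem hp) hp')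
      have hq' : π q = π q' := by
        rw [← mul_inv_eq_one, ← map_inv, ← map_mul]
        exact (QuotientGroup.eq_one_iff _).mpr hqq
      have hp' : π p = π p' := by
        rw [show π (S.ρ q) = π (S.ρ q') from congrArg ρq hq'] at h'
        exact mul_right_cancel h'
      exact Prod.ext (Subtype.ext hp') (Subtype.ext hq')
    have := Nat.card_le_card_of_injective _ hinj
    rw [Nat.card_prod, hq16] at this
    by_contra hgt
    have h5 : 5 * 5 ≤ Nat.card d.ker * Nat.card d.ker := Nat.mul_le_mul (by omega) (by omega)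
    omega
  haveI : Fintype d.ker := Fintype.ofFinite _
  obtain ⟨⟨F, hF⟩, hF1⟩ := Fintype.exists_ne_of_one_lt_card
    (show 1 < Fintype.card d.ker by rw [← Nat.card_eq_fintype_card]; omega) 1
  obtain ⟨⟨G, hG⟩, -, hGne⟩ := Finset.exists_mem_notMem_of_card_lt_card
    (s := ({1, ⟨F, hF⟩} : Finset d.ker)) (t := Finset.univ)
    (Finset.card_le_two.trans_lt (by rw [Finset.card_univ, ← Nat.card_eq_fintype_card]; omega))
  simp only [Finset.mem_insert, Finset.mem_singleton, not_or] at hGne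
  obtain ⟨f₀, rfl⟩ := QuotientGroup.mk'_surjective S.V F
  obtain ⟨g₀, rfl⟩ := QuotientGroup.mk'_surjective S.V G
  obtain ⟨f, hfπ, hxf⟩ := hlift f₀ hF
  obtain ⟨g, hgπ, hxg⟩ := hlift g₀ hG
  have hFk : π f ∈ d.ker := by rw [hfπ]; exact hF
  have hGk : π g ∈ d.ker := by rw [hgπ]; exact hG
  have hfV : f ∉ S.V := fun h => hF1 (Subtype.ext (by
    show π f₀ = 1
    rw [← hfπ]; exact (QuotientGroup.eq_one_iff _).mpr h))
  have hgne : ∀ v ∈ S.V, g ≠ v ∧ g ≠ v * f ∧ g ≠ v * S.ρ f ∧ g ≠ v * S.ρ (S.ρ f) := by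
    intro v hv
    have hπv : π v = 1 := (QuotientGroup.eq_one_iff _).mpr hv
    refine ⟨fun h => hGne.1 (Subtype.ext (by show π g₀ = 1; rw [← hgπ, h, hπv])), fun h => hGne.2 (Subtype.ext
      (by show π g₀ = π f₀; rw [← hgπ, ← hfπ, h, map_mul, hπv, one_mul])), fun h => hfV ?_, fun h => hfV ?_⟩
    · refine hsep f hFk ?_
      rw [h, map_mul, hπv, one_mul] at hGk; exact hGk
    · refine hsep2 f hFk ?_
      rw [h, map_mul, hπv, one_mul] at hGk; exact hGk
  have hw : ⁅g, f⁆ = z := by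
    have hfx : x ⁅g, f⁆ = ⁅g, f⁆ := by
      have := map_commutatorElement (x : T →* T) g f
      exact this.trans (by show ⁅x g, x f⁆ = _; rw [hxg, hxf])
    refine (hfixV _ (S.com g f) hfx).resolve_left fun h => ?_
    have hρ : ⁅g, S.ρ f⁆ = 1 := by rw [(S.cross f g).1, h, map_one, one_mul]
    have hρ' : ⁅S.ρ g, f⁆ = 1 := by rw [(S.cross f g).2, h, map_one, one_mul]
    have htop := S.generates hfV hgne (H := centralizer {f})
      (fun v hv => mem_centralizer_singleton_iff.mpr (mem_center_iff.mp (S.central hv) f).symm)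
      (mem_centralizer_singleton_iff.mpr rfl)
      (mem_centralizer_singleton_iff.mpr (commutatorElement_eq_one_iff_commute.mp (S.self f)).eq)
      (mem_centralizer_singleton_iff.mpr (commutatorElement_eq_one_iff_commute.mp h).eq)
      (mem_centralizer_singleton_iff.mpr (commutatorElement_eq_one_iff_commute.mp hρ').eq)
    exact hfV (S.center_le (mem_center_iff.mpr fun k => mem_centralizer_singleton_iff.mp (htop.ge (mem_top k))))
  have hsqf : f ^ 2 = 1 ∨ f ^ 2 = z := hfixV _ (S.sq_mem f) (by rw [map_pow, hxf])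
  have hsqg : g ^ 2 = 1 ∨ g ^ 2 = z := hfixV _ (S.sq_mem g) (by rw [map_pow, hxg])
  have hzz : z * z = 1 := by rw [← pow_two]; exact S.sq z hzV
  have hfg2 : (f * g) ^ 2 = f ^ 2 * g ^ 2 * z := by
    rw [mul_sq (S.central (S.com g f)), hw]
  -- the fixed points
  have hfixed : ∀ y, x y = y ↔ y ∈ closure ({g, f, z} : Set T) := by
    intro y
    constructor
    · intro hy
      have hyk : π y ∈ d.ker := by
        rw [hker, hy, inv_mul_cancel]; exact one_mem _
      set A : Finset d.ker := {1, ⟨π f, hFk⟩, ⟨π g, hGk⟩, ⟨π f * π g, mul_mem hFk hGk⟩} with hA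
      have hpf : π f ≠ 1 := fun h => hfV ((QuotientGroup.eq_one_iff f).mp h)
      have hpg : π g ≠ 1 := fun h => hGne.1 (Subtype.ext (hgπ.symm.trans h))
      have hfg : π f ≠ π g := fun h => hGne.2 (Subtype.ext (hgπ.symm.trans (h.symm.trans hfπ)))
      have hcard : A.card = 4 := by
        rw [hA, Finset.card_insert_of_notMem, Finset.card_insert_of_notMem, Finset.card_pair]
        · simp [Subtype.ext_iff, hpf]
        · simp [Subtype.ext_iff, hfg, hpg]
        · simp [Subtype.ext_iff, Ne.symm hpf, Ne.symm hpg]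
          intro h
          exact hfg (by rw [← mul_one (π f), h, ← mul_assoc, hexp, one_mul])
      have hmem := Finset.mem_univ (⟨π y, hyk⟩ : d.ker)
      rw [← Finset.eq_univ_of_card A (le_antisymm (Finset.card_le_univ A)
        (by rw [hcard, ← Nat.card_eq_fintype_card]; exact hk4'))] at hmem
      simp only [hA, Finset.mem_insert, Finset.mem_singleton, Subtype.ext_iff, OneMemClass.coe_one] at hmem
      have hgen : ∀ c, c ∈ closure ({g, f, z} : Set T) → x c = c → π y = π c → y ∈ closure ({g, f, z} : Set T) := by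
        intro c hc hxc hyc
        have hv : c⁻¹ * y ∈ S.V := QuotientGroup.eq.mp hyc.symm
        rcases hfixV _ hv (by rw [map_mul, map_inv, hxc, hy]) with h | h
        · rw [inv_mul_eq_one] at h; rw [← h]; exact hc
        · rw [inv_mul_eq_iff_eq_mul.mp h]; exact mul_mem hc (subset_closure (by simp))
      rcases hmem with h | h | h | h
      · exact hgen 1 (one_mem _) (map_one x) (h.trans (map_one π).symm)
      · exact hgen f (subset_closure (by simp)) hxf h
      · exact hgen g (subset_closure (by simp)) hxg h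
      · exact hgen (f * g) (mul_mem (subset_closure (by simp)) (subset_closure (by simp)))
          (by rw [map_mul, hxf, hxg]) (h.trans (map_mul π f g).symm)
    · intro hy
      have hle : closure ({g, f, z} : Set T) ≤ MonoidHom.eqLocus (x : T →* T) (MonoidHom.id T) :=
        (closure_le _).mpr (by
          rintro u (rfl | rfl | rfl)
          exacts [hxg, hxf, hxz])
      exact hle hy
  have hcard8 : ∀ f g : T, f ∉ S.V → ⁅g, f⁆ = z → (f ^ 2 = 1 ∨ f ^ 2 = z) → (g ^ 2 = 1 ∨ g ^ 2 = z) →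
      Nat.card (closure ({g, f, z} : Set T)) = 8 := by
    intro f g hfV hw hsqf hsqg
    have c0 : Nat.card (closure (∅ : Set T)) ≤ 1 := by rw [Subgroup.closure_empty, card_bot]
    have c1 := (card_insert_le (x := z) (S := (∅ : Set T)) (by rw [S.sq z hzV]; exact one_mem _)
      (fun s hs => absurd hs (Set.notMem_empty s))).trans (Nat.mul_le_mul_left 2 c0)
    have c2 := (card_insert_le (x := f) (S := insert z (∅ : Set T))
      (by rcases hsqf with h | h <;> rw [h]
          exacts [one_mem _, subset_closure (by simp)])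
      (fun s hs => by
        rcases hs with rfl | hs
        · rw [S.symm', S.zero hzV]; exact one_mem _
        · exact absurd hs (Set.notMem_empty s))).trans (Nat.mul_le_mul_left 2 c1)
    have c3 := (card_insert_le (x := g) (S := insert f (insert z (∅ : Set T)))
      (by rcases hsqg with h | h <;> rw [h]
          exacts [one_mem _, subset_closure (by simp)])
      (fun s hs => by
        rcases hs with rfl | rfl | hs
        · rw [hw]; exact subset_closure (by simp)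
        · rw [S.symm', S.zero hzV]; exact one_mem _
        · exact absurd hs (Set.notMem_empty s))).trans (Nat.mul_le_mul_left 2 c2)
    have hle : Nat.card (closure ({g, f, z} : Set T)) ≤ 8 := by simpa [insert_empty_eq] using c3
    obtain ⟨B, hB⟩ : ∃ B, B = closure ({f, z} : Set T) := ⟨_, rfl⟩
    have hBle : B ≤ centralizer {f} := by
      rw [hB, closure_le]
      rintro u (rfl | rfl)
      · exact mem_centralizer_singleton_iff.mpr rfl
      · exact mem_centralizer_singleton_iff.mpr (mem_center_iff.mp (S.central hzV) f).symm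
    have hgB : g ∉ B := fun h => hz1 (by
      rw [← hw]; exact commutatorElement_eq_one_iff_commute.mpr (mem_centralizer_singleton_iff.mp (hBle h)))
    have l0 : (⊥ : Subgroup T) < zpowers z := bot_lt_iff_ne_bot.mpr fun h => hz1 (zpowers_eq_bot.mp h)
    have l1 : zpowers z < B := SetLike.lt_iff_le_and_exists.mpr
      ⟨zpowers_le.mpr (hB ▸ subset_closure (by simp)), f, hB ▸ subset_closure (by simp),
        fun h => hfV (zpowers_le.mpr hzV h)⟩
    have l2 : B < closure ({g, f, z} : Set T) := SetLike.lt_iff_le_and_exists.mpr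
      ⟨hB ▸ closure_mono (fun u hu => Or.inr hu), g, subset_closure (by simp), hgB⟩
    have d0 := double l0
    have d1 := double l1
    have d2 := double l2
    rw [card_bot] at d0
    omega
  have hab : ∃ a b : T, a ^ 2 = 1 ∧ b ^ 2 = 1 ∧ ⁅b, a⁆ ≠ 1 := by
    have hfgf : ⁅f * g, f⁆ = z := by rw [S.mul_left, commutatorElement_self, one_mul, hw]
    have hgfg : ⁅g, f * g⁆ = z := by rw [S.mul_right, hw, commutatorElement_self, mul_one]
    rcases hsqf with hf | hf <;> rcases hsqg with hg | hg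
    · exact ⟨f, g, hf, hg, by rw [hw]; exact hz1⟩
    · exact ⟨f, f * g, hf, by rw [hfg2, hf, hg, one_mul, hzz], by rw [hfgf]; exact hz1⟩
    · exact ⟨f * g, g, by rw [hfg2, hf, hg, mul_one, hzz], hg, by rw [hgfg]; exact hz1⟩
    · -- both of order four
      have e1 : ⁅S.ρ g, f⁆ = z * S.ρ z := by rw [(S.cross f g).2, hw]
      have e2 : ⁅S.ρ (S.ρ g), f⁆ = S.ρ z := by
        have h : ⁅g, f⁆ * ⁅S.ρ g, f⁆ * ⁅S.ρ (S.ρ g), f⁆ = 1 := by
          rw [← S.mul_left, ← S.mul_left]; exact S.zero (S.sum g) _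
        rw [hw, e1, ← mul_assoc, hzz, one_mul] at h
        rw [eq_inv_of_mul_eq_one_right h, S.inv_eq (S.rho_mem _ hzV)]
      have e3 : ⁅S.ρ (S.ρ g), S.ρ g⁆ = 1 := S.self (S.ρ g)
      have hρ2 : S.ρ z * S.ρ z = 1 := by rw [← pow_two]; exact S.sq _ (S.rho_mem _ hzV)
      refine ⟨f * S.ρ g, f * S.ρ (S.ρ g), ?_, ?_, ?_⟩
      · rw [mul_sq (S.central (S.com _ _)), e1, hf, ← map_pow, hg, ← pow_two]
        exact S.sq _ (mul_mem hzV (S.rho_mem _ hzV))
      · rw [mul_sq (S.central (S.com _ _)), e2, hf, ← map_pow, ← map_pow, hg, hρρz, ← mul_assoc, hzz, one_mul, hρ2]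
      · rw [S.mul_left, S.mul_right, S.mul_right, commutatorElement_self, S.symm' f, e1, e2, e3, one_mul,
          mul_one, mul_assoc, hρ2, mul_one]
        exact hz1
  refine ⟨hab, ?_⟩
  -- normalise the squares
  have hcl : ∀ f' g' : T, f' ∈ closure ({g, f, z} : Set T) → g' ∈ closure ({g, f, z} : Set T) →
      f' ∉ S.V → ⁅g', f'⁆ = z → (f' ^ 2 = 1 ∨ f' ^ 2 = z) → (g' ^ 2 = 1 ∨ g' ^ 2 = z) →
      closure ({g', f', z} : Set T) = closure ({g, f, z} : Set T) := by
    intro f' g' hf' hg' hV hw' hs hs'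
    refine Subgroup.eq_of_le_of_card_ge ((closure_le _).mpr ?_) ?_
    · rintro u (rfl | rfl | rfl)
      exacts [hg', hf', subset_closure (by simp)]
    · rw [hcard8 f g hfV hw hsqf hsqg, hcard8 f' g' hV hw' hs hs']
  have hfgmem : f * g ∈ closure ({g, f, z} : Set T) := mul_mem (subset_closure (by simp)) (subset_closure (by simp))
  have hfgV : f * g ∉ S.V := fun h => hz1 (by
    have h' := S.zero h f
    rwa [S.mul_left, commutatorElement_self, one_mul, hw] at h')
  rcases hsqf with hf | hf <;> rcases hsqg with hg | hg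
  · exact ⟨z, f, g, hfixed, hcard8 f g hfV hw (Or.inl hf) (Or.inl hg), S.central hzV, S.sq z hzV, hw, Or.inl ⟨hf, hg⟩⟩
  · have h2 : (f * g) ^ 2 = 1 := by rw [hfg2, hf, hg, one_mul, hzz]
    have hw' : ⁅f * g, f⁆ = z := by rw [S.mul_left, commutatorElement_self, one_mul, hw]
    have he := hcl f (f * g) (subset_closure (by simp)) hfgmem hfV hw' (Or.inl hf) (Or.inl h2)
    exact ⟨z, f, f * g, fun y => by rw [he]; exact hfixed y, hcard8 f (f * g) hfV hw' (Or.inl hf) (Or.inl h2),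
      S.central hzV, S.sq z hzV, hw', Or.inl ⟨hf, h2⟩⟩
  · have h2 : (f * g) ^ 2 = 1 := by rw [hfg2, hf, hg, mul_one, hzz]
    have hw' : ⁅g, f * g⁆ = z := by rw [S.mul_right, hw, commutatorElement_self, mul_one]
    have he := hcl (f * g) g hfgmem (subset_closure (by simp)) hfgV hw' (Or.inl h2) (Or.inl hg)
    exact ⟨z, f * g, g, fun y => by rw [he]; exact hfixed y, hcard8 (f * g) g hfgV hw' (Or.inl h2) (Or.inl hg),
      S.central hzV, S.sq z hzV, hw', Or.inl ⟨h2, hg⟩⟩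
  · exact ⟨z, f, g, hfixed, hcard8 f g hfV hw (Or.inr hf) (Or.inr hg), S.central hzV, S.sq z hzV, hw, Or.inr ⟨hf, hg⟩⟩

/-- Groups of order eight with the same presentation are isomorphic. -/
theorem nonempty_equiv_eight {P : Type u} [Group P] [Finite P] {Q : Type v} [Group Q] [Finite Q]
    (hP : Nat.card P = 8) (hQ : Nat.card Q = 8) {z f g : P} {z' f' g' : Q}
    (hPt : closure ({g, f, z} : Set P) = ⊤) (hQt : closure ({g', f', z'} : Set Q) = ⊤)
    (hz : z ^ 2 = 1) (hz' : z' ^ 2 = 1) (hzc : z ∈ center P) (hzc' : z' ∈ center Q)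
    (hc : ⁅g, f⁆ = z) (hc' : ⁅g', f'⁆ = z')
    (hs : (f ^ 2 = 1 ∧ g ^ 2 = 1 ∧ f' ^ 2 = 1 ∧ g' ^ 2 = 1) ∨
      (f ^ 2 = z ∧ g ^ 2 = z ∧ f' ^ 2 = z' ∧ g' ^ 2 = z')) : Nonempty (P ≃* Q) := by
  set W := closure ({(g, g'), (f, f'), (z, z')} : Set (P × Q)) with hW
  have hcz : ∀ p : P × Q, ⁅p, (z, z')⁆ = 1 := fun p => Prod.ext
    (commutatorElement_eq_one_iff_commute.mpr (mem_center_iff.mp hzc p.1))
    (commutatorElement_eq_one_iff_commute.mpr (mem_center_iff.mp hzc' p.2))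
  have hsq : ((f, f') : P × Q) ^ 2 = 1 ∧ ((g, g') : P × Q) ^ 2 = 1 ∨
      ((f, f') : P × Q) ^ 2 = (z, z') ∧ ((g, g') : P × Q) ^ 2 = (z, z') := by
    rcases hs with ⟨h1, h2, h3, h4⟩ | ⟨h1, h2, h3, h4⟩
    · exact Or.inl ⟨Prod.ext h1 h3, Prod.ext h2 h4⟩
    · exact Or.inr ⟨Prod.ext h1 h3, Prod.ext h2 h4⟩
  have c0 : Nat.card (closure (∅ : Set (P × Q))) ≤ 1 := by rw [Subgroup.closure_empty, card_bot]
  have c1 := (card_insert_le (x := (z, z')) (S := (∅ : Set (P × Q)))
    (by rw [show ((z, z') : P × Q) ^ 2 = 1 from Prod.ext hz hz']; exact one_mem _)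
    (fun s hs => absurd hs (Set.notMem_empty s))).trans (Nat.mul_le_mul_left 2 c0)
  have c2 := (card_insert_le (x := (f, f')) (S := insert (z, z') (∅ : Set (P × Q)))
    (by rcases hsq with ⟨h, -⟩ | ⟨h, -⟩ <;> rw [h]
        exacts [one_mem _, subset_closure (by simp)])
    (fun s hs => by
      rcases hs with rfl | hs
      · rw [hcz]; exact one_mem _
      · exact absurd hs (Set.notMem_empty s))).trans (Nat.mul_le_mul_left 2 c1)
  have c3 := (card_insert_le (x := (g, g')) (S := insert (f, f') (insert (z, z') (∅ : Set (P × Q))))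
    (by rcases hsq with ⟨-, h⟩ | ⟨-, h⟩ <;> rw [h]
        exacts [one_mem _, subset_closure (by simp)])
    (fun s hs => by
      rcases hs with rfl | rfl | hs
      · rw [show ⁅((g, g') : P × Q), (f, f')⁆ = (z, z') from Prod.ext hc hc']; exact subset_closure (by simp)
      · rw [hcz]; exact one_mem _
      · exact absurd hs (Set.notMem_empty s))).trans (Nat.mul_le_mul_left 2 c2)
  have hW8 : Nat.card W ≤ 8 := by
    rw [hW]
    simpa [insert_empty_eq] using c3
  have hs1 : Function.Surjective ((MonoidHom.fst P Q).comp W.subtype) := by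
    rw [← MonoidHom.range_eq_top, MonoidHom.range_eq_map, ← Subgroup.map_map, ← MonoidHom.range_eq_map,
      Subgroup.range_subtype, hW, MonoidHom.map_closure]
    simp only [Set.image_insert_eq, Set.image_singleton, MonoidHom.coe_fst]
    exact hPt
  have hs2 : Function.Surjective ((MonoidHom.snd P Q).comp W.subtype) := by
    rw [← MonoidHom.range_eq_top, MonoidHom.range_eq_map, ← Subgroup.map_map, ← MonoidHom.range_eq_map,
      Subgroup.range_subtype, hW, MonoidHom.map_closure]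
    simp only [Set.image_insert_eq, Set.image_singleton, MonoidHom.coe_snd]
    exact hQt
  have hb1 := hs1.bijective_of_nat_card_le (hP ▸ hW8)
  have hb2 := hs2.bijective_of_nat_card_le (hQ ▸ hW8)
  exact ⟨(MulEquiv.ofBijective _ hb1).symm.trans (MulEquiv.ofBijective _ hb2)⟩

/-- An automorphism of order three fixing the centre is trivial when commutators cover the centre. -/
theorem eq_one_of_fix_center {T : Type u} [Group T] [Finite T] (h64 : Nat.card T = 64) (V : Subgroup T)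
    (hV4 : Nat.card V = 4) (hVc : V ≤ center T) (hVsq : ∀ v ∈ V, v ^ 2 = 1) (hsq : ∀ g : T, g ^ 2 ∈ V)
    (hinv : ∀ g : T, g ^ 2 = 1 → g ∈ V)
    (hsurj : ∀ g : T, g ∉ V → ∀ v ∈ V, ∃ h : T, ⁅g, h⁆ = v)
    (ρ : MulAut T) (hrr : ∀ x, ρ (ρ (ρ x)) = x) (hfix : ∀ v ∈ V, ρ v = v) : ρ = 1 := by
  classical
  have hP : IsPGroup 2 T := IsPGroup.of_card (n := 6) (by rw [h64]; rfl)
  have hρ3 : ρ ^ 3 = 1 := MulEquiv.ext fun x => hrr x
  refine MulEquiv.ext fun y => fixed_of_step hP (show Odd 3 by decide) hρ3 ?_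
  by_cases hy : y⁻¹ * ρ y ∈ V
  · exact hfix _ hy
  exfalso
  have hcom : ∀ a b : T, ⁅a, b⁆ ∈ V := fun a b => by
    have : ⁅a, b⁆ = a ^ 2 * (a⁻¹ * b) ^ 2 * (b⁻¹) ^ 2 := by
      simp only [commutatorElement_def, pow_two]; group
    rw [this]
    exact mul_mem (mul_mem (hsq a) (hsq _)) (hsq _)
  have hcc : ∀ a b : T, ⁅a, b⁆ ∈ center T := fun a b => hVc (hcom a b)
  have hi : ∀ v ∈ V, v⁻¹ = v := fun v hv => inv_eq_of_mul_eq_one_right (by rw [← pow_two]; exact hVsq v hv)
  have hsy : ∀ a b : T, ⁅a, b⁆ = ⁅b, a⁆ := fun a b => by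
    rw [← commutatorElement_inv b a]; exact hi _ (hcom b a)
  have hml : ∀ a b w : T, ⁅a * b, w⁆ = ⁅a, w⁆ * ⁅b, w⁆ := fun a b w => comm_mul_left' (hcc b w)
  have hmr : ∀ a b w : T, ⁅w, a * b⁆ = ⁅w, a⁆ * ⁅w, b⁆ := fun a b w => by
    rw [hsy w (a * b), hsy w a, hsy w b, hml]
  have hzero : ∀ v ∈ V, ∀ g : T, ⁅v, g⁆ = 1 := fun v hv g =>
    commutatorElement_eq_one_iff_commute.mpr (mem_center_iff.mp (hVc hv) g).symm
  have hρc : ∀ a b : T, ⁅ρ a, ρ b⁆ = ⁅a, b⁆ := fun a b =>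
    (map_commutatorElement (ρ : T →* T) a b).symm.trans (hfix _ (hcom a b))
  -- moved elements
  have hmv : ∀ g : T, (g⁻¹ * ρ g) * ρ (g⁻¹ * ρ g) * ρ (ρ (g⁻¹ * ρ g)) = 1 := fun g => by
    simp only [map_mul, map_inv, hrr]; group
  have hq : ∀ g : T, g * ρ g * ρ (ρ g) ∈ V → ⁅ρ g, g⁆ = g ^ 2 := by
    intro g hg
    have h1 : (g * ρ g) ^ 2 = g ^ 2 * g ^ 2 * ⁅ρ g, g⁆ := by
      rw [mul_sq (hcc _ _), show (ρ g) ^ 2 = g ^ 2 by rw [← map_pow, hfix _ (hsq g)]]
    have h2 : (g * ρ g) ^ 2 = g ^ 2 := by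
      obtain ⟨v, hv, hve⟩ : ∃ v ∈ V, g * ρ g = v * (ρ (ρ g))⁻¹ := ⟨_, hg, by group⟩
      rw [hve, Commute.mul_pow (mem_center_iff.mp (hVc hv) _).symm, hVsq v hv, one_mul, inv_pow, ← map_pow,
        ← map_pow, hfix _ (hsq g), hfix _ (hsq g), hi _ (hsq g)]
    rw [h2, mul_assoc, left_eq_mul] at h1
    rw [eq_inv_of_mul_eq_one_right h1, hi _ (hsq g)]
  have htriple : ∀ p g : T, g * ρ g * ρ (ρ g) ∈ V → ⁅p, g⁆ * ⁅p, ρ g⁆ * ⁅p, ρ (ρ g)⁆ = 1 := fun p g hg => by
    rw [← hmr, ← hmr, hsy, hzero _ hg]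
  have hmove : ∀ g : T, g * ρ g * ρ (ρ g) ∈ V → ρ g * ρ (ρ g) * ρ (ρ (ρ g)) ∈ V := fun g hg => by
    rw [← map_mul, ← map_mul, hfix _ hg]; exact hg
  set m := y⁻¹ * ρ y with hm
  have hm1 : m * ρ m * ρ (ρ m) = 1 := hmv y
  have hm1' : m * ρ m * ρ (ρ m) ∈ V := by rw [hm1]; exact one_mem V
  have hmV : m ∉ V := hy
  set z := m ^ 2 with hz
  have hzV : z ∈ V := hsq m
  have hz1 : z ≠ 1 := fun h => hmV (hinv m h)
  have hmm : ⁅ρ m, m⁆ = z := hq m hm1'
  have hzz : z * z = 1 := by rw [← pow_two]; exact hVsq z hzV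
  -- a second moved element with `⁅m, n⁆` outside `{1, z}`
  obtain ⟨n, hn1, hn⟩ : ∃ n, n * ρ n * ρ (ρ n) ∈ V ∧ ⁅m, n⁆ ≠ 1 ∧ ⁅m, n⁆ ≠ z := by
    by_contra hc
    push Not at hc
    obtain ⟨a, haV, ha1, haz⟩ : ∃ a ∈ V, a ≠ 1 ∧ a ≠ z := by
      by_contra h
      push Not at h
      haveI : Fintype V := Fintype.ofFinite _
      have h3 := Finset.card_le_card (s := (Finset.univ : Finset V)) (t := {1, ⟨z, hzV⟩}) (fun v _ => by
        by_cases hv : (v : T) = 1
        · simp [Subtype.ext_iff, hv]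
        · simp [Subtype.ext_iff, h v v.2 hv])
      rw [Finset.card_univ, ← Nat.card_eq_fintype_card, hV4] at h3
      have := h3.trans Finset.card_le_two
      omega
    obtain ⟨h, hh⟩ := hsurj m hmV a haV
    have hc' : ∀ g : T, ⁅m, g⁆ * ⁅m, ρ g⁆ = 1 ∨ ⁅m, g⁆ * ⁅m, ρ g⁆ = z := by
      intro g
      have h1 := hc (g⁻¹ * ρ g) (by rw [hmv g]; exact one_mem V)
      have h2 : ⁅m, g⁻¹ * ρ g⁆ = ⁅m, g⁆ * ⁅m, ρ g⁆ := by
        rw [hmr]
        congr 1
        have h3 := hmr g g⁻¹ m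
        rw [mul_inv_cancel, commutatorElement_one_right] at h3
        rw [eq_inv_of_mul_eq_one_right h3.symm, hi _ (hcom m g)]
      rw [h2] at h1
      by_cases h4 : ⁅m, g⁆ * ⁅m, ρ g⁆ = 1
      · exact Or.inl h4
      · exact Or.inr (h1 h4)
    -- the product of the three translates is `1`
    have hρh : ⁅m, ρ h⁆ = a ∨ ⁅m, ρ h⁆ = a * z := by
      rcases hc' h with e | e <;> rw [hh] at e
      · left; rw [eq_inv_of_mul_eq_one_right e, hi a haV]
      · right; rw [eq_inv_mul_iff_mul_eq.mpr e, hi a haV]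
    have hρρh : ⁅m, ρ (ρ h)⁆ = a ∨ ⁅m, ρ (ρ h)⁆ = a * z := by
      have haa : a * a = 1 := by rw [← pow_two]; exact hVsq a haV
      rcases hc' (ρ h) with e | e <;> rcases hρh with e' | e' <;> rw [e'] at e
      · left; rw [eq_inv_of_mul_eq_one_right e, hi a haV]
      · right; rw [eq_inv_of_mul_eq_one_right e, hi _ (mul_mem haV hzV)]
      · right; rw [eq_inv_mul_iff_mul_eq.mpr e, hi a haV]
      · left; rw [eq_inv_mul_iff_mul_eq.mpr e, hi _ (mul_mem haV hzV), mul_assoc, hzz, mul_one]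
    have hsum : ⁅m, h⁆ * ⁅m, ρ h⁆ * ⁅m, ρ (ρ h)⁆ = 1 := by
      rw [← hmr, ← hmr]
      -- the sum is fixed, so it commutes with `m`
      set s := h * ρ h * ρ (ρ h) with hs
      have hsfix : s⁻¹ * ρ s ∈ V := by
        have : s⁻¹ * ρ s = ⁅s⁻¹, h⁻¹⁆ := by
          rw [hs, map_mul, map_mul, hrr, commutatorElement_def]; group
        rw [this]; exact hcom _ _
      obtain ⟨v, hv, hρs⟩ : ∃ v ∈ V, ρ s = s * v := ⟨_, hsfix, by group⟩
      have h1 : ⁅ρ m, s⁆ = ⁅m, s⁆ := by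
        have := hρc m s
        rwa [hρs, hmr, hsy _ v, hzero v hv, mul_one] at this
      have h2 : ⁅ρ (ρ m), s⁆ = ⁅m, s⁆ := by
        have := hρc (ρ m) s
        rw [hρs, hmr, hsy _ v, hzero v hv, mul_one] at this
        rw [this, h1]
      have h3 : ⁅m, s⁆ * ⁅ρ m, s⁆ * ⁅ρ (ρ m), s⁆ = 1 := by
        rw [← hml, ← hml, hm1, commutatorElement_one_left]
      rw [h1, h2, ← pow_two, hVsq _ (hcom m s), one_mul] at h3
      exact h3
    have haa : a * a = 1 := by rw [← pow_two]; exact hVsq a haV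
    rcases hρh with e' | e' <;> rcases hρρh with e | e <;> rw [hh, e', e] at hsum
    · rw [haa, one_mul] at hsum; exact ha1 hsum
    · rw [haa, one_mul] at hsum
      exact haz (by rw [eq_inv_of_mul_eq_one_left hsum, hi z hzV])
    · rw [← mul_assoc, haa, one_mul] at hsum
      exact haz (by rw [eq_inv_of_mul_eq_one_right hsum, hi z hzV])
    · rw [← mul_assoc, ← mul_assoc, haa, one_mul, ← mem_center_iff.mp (hVc hzV) a, mul_assoc, hzz, mul_one] at hsum
      exact ha1 hsum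
  -- one can assume `n² = z`
  haveI : Fintype V := Fintype.ofFinite _
  have hlist : ∀ a ∈ V, a ≠ 1 → a ≠ z → ∀ v ∈ V, v = 1 ∨ v = z ∨ v = a ∨ v = z * a := by
    intro a ha ha1 haz v hv
    have h3 : z * a ≠ 1 := fun h => haz (by rw [eq_inv_of_mul_eq_one_right h, hi z hzV])
    have hcard : ({1, ⟨z, hzV⟩, ⟨a, ha⟩, ⟨_, mul_mem hzV ha⟩} : Finset V).card = 4 := by
      rw [Finset.card_insert_of_notMem, Finset.card_insert_of_notMem, Finset.card_pair]
      · simp [Subtype.ext_iff, hz1]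
      · simp [Subtype.ext_iff, Ne.symm haz, ha1]
      · simp [Subtype.ext_iff, Ne.symm hz1, Ne.symm ha1, Ne.symm h3]
    have := Finset.mem_univ (⟨v, hv⟩ : V)
    rw [← Finset.eq_univ_of_card _ (by rw [hcard, ← Nat.card_eq_fintype_card, hV4])] at this
    simpa [Subtype.ext_iff] using this
  have hmself : ∀ k, k ∈ ({m, ρ m, ρ (ρ m)} : Set T) → ⁅m, k⁆ = 1 ∨ ⁅m, k⁆ = z := by
    intro k hk
    have h2 : ⁅m, ρ m⁆ = z := by rw [hsy]; exact hmm
    rcases hk with rfl | rfl | rfl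
    · exact Or.inl (commutatorElement_self _)
    · exact Or.inr h2
    · right
      have h := htriple m m hm1'
      rw [commutatorElement_self, one_mul, h2] at h
      rw [eq_inv_of_mul_eq_one_right h, hi z hzV]
  have hnotV : ∀ j : ℕ, m * (ρ ^ j) n ∉ V := by
    intro j h
    have hρj : ∀ (i : ℕ) (v : T), v ∈ V → (ρ ^ i) v = v := fun i v hv => by
      induction i with
      | zero => rfl
      | succ i ih => rw [pow_succ', MulAut.mul_apply, ih, hfix v hv]
    have h1 : (ρ ^ (2 * j)) (m * (ρ ^ j) n) = m * (ρ ^ j) n := hρj _ _ h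
    rw [map_mul, ← MulAut.mul_apply, ← pow_add, show 2 * j + j = 3 * j by ring,
      show ρ ^ (3 * j) = 1 by rw [pow_mul, hρ3, one_pow],
      MulAut.one_apply, eq_comm, ← eq_inv_mul_iff_mul_eq.trans eq_comm] at h1
    have h2 : ⁅m, n⁆ = ⁅m, ((ρ ^ (2 * j)) m)⁻¹⁆ := by
      conv_lhs => rw [show n = ((ρ ^ (2 * j)) m)⁻¹ * (m * (ρ ^ j) n) from h1]
      rw [hmr, hsy m (m * (ρ ^ j) n), hzero _ h, mul_one]
    have h3 : ⁅m, ((ρ ^ (2 * j)) m)⁻¹⁆ = ⁅m, (ρ ^ (2 * j)) m⁆ := by
      have h4 := hmr ((ρ ^ (2 * j)) m) ((ρ ^ (2 * j)) m)⁻¹ m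
      rw [mul_inv_cancel, commutatorElement_one_right] at h4
      rw [eq_inv_of_mul_eq_one_right h4.symm, hi _ (hcom _ _)]
    have hmem : (ρ ^ (2 * j)) m ∈ ({m, ρ m, ρ (ρ m)} : Set T) := by
      rw [← Nat.mod_add_div (2 * j) 3, pow_add, pow_mul, hρ3, one_pow, mul_one]
      rcases (show 2 * j % 3 = 0 ∨ 2 * j % 3 = 1 ∨ 2 * j % 3 = 2 by omega) with e | e | e <;> rw [e]
      · exact Or.inl rfl
      · exact Or.inr (Or.inl (by rw [pow_one]))
      · exact Or.inr (Or.inr rfl)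
    rcases hmself _ hmem with e | e <;> rw [h3, e] at h2
    exacts [hn.1 h2, hn.2 h2]
  have hmn_sq : ∀ k : T, (m * k) ^ 2 = z * k ^ 2 * ⁅m, k⁆ := fun k => by rw [mul_sq (hcc _ _), hsy k m]
  have haV : ⁅m, n⁆ ∈ V := hcom _ _
  have haa : ⁅m, n⁆ * ⁅m, n⁆ = 1 := by rw [← pow_two]; exact hVsq _ haV
  -- a moved element of square `z`
  obtain ⟨n₁, hn₁, hn₁z, hn₁a⟩ : ∃ k, k * ρ k * ρ (ρ k) ∈ V ∧ k ^ 2 = z ∧ ⁅m, k⁆ = ⁅m, n⁆ := by
    rcases hlist _ haV hn.1 hn.2 (n ^ 2) (hsq n) with e | e | e | e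
    · exact absurd (by rw [hsy]; exact hzero n (hinv n e) m) hn.1
    · exact ⟨n, hn1, e, rfl⟩
    · refine ⟨m * n, ?_, ?_, ?_⟩
      · haveI : V.Normal := ⟨fun v hv g => by
          rw [mem_center_iff.mp (hVc hv) g, mul_inv_cancel_right]; exact hv⟩
        have hQ : ∀ a b : T ⧸ V, a * b = b * a := fun a b => by
          induction a using QuotientGroup.induction_on with
          | _ p =>
            induction b using QuotientGroup.induction_on with
            | _ q =>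
              rw [← commutatorElement_eq_one_iff_mul_comm]
              exact (map_commutatorElement (QuotientGroup.mk' V) p q).symm.trans
                ((QuotientGroup.eq_one_iff _).mpr (hcom p q))
        letI : CommGroup (T ⧸ V) := { (inferInstance : Group (T ⧸ V)) with mul_comm := hQ }
        refine (QuotientGroup.eq_one_iff _).mp ?_
        show QuotientGroup.mk' V _ = 1
        have h1 : QuotientGroup.mk' V (m * ρ m * ρ (ρ m)) = 1 := (QuotientGroup.eq_one_iff _).mpr hm1'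
        have h2 : QuotientGroup.mk' V (n * ρ n * ρ (ρ n)) = 1 := (QuotientGroup.eq_one_iff _).mpr hn1
        simp only [map_mul] at h1 h2 ⊢
        have h3 := congrArg₂ (· * ·) h1 h2
        simp only [one_mul] at h3
        rw [← h3]
        ac_rfl
      · rw [hmn_sq, e, mul_assoc, haa, mul_one]
      · rw [hmr, commutatorElement_self, one_mul]
    · refine absurd (hinv _ ?_) (hnotV 0)
      rw [pow_zero, MulAut.one_apply, hmn_sq, e, ← mul_assoc, hzz, one_mul, haa]
  obtain ⟨hn1z, hn1V⟩ : ⁅m, n₁⁆ ≠ 1 ∧ ⁅m, n₁⁆ ≠ z := by rw [hn₁a]; exact hn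
  -- translates: none commutes with `m`
  have hval : ∀ k, k ∈ ({n₁, ρ n₁, ρ (ρ n₁)} : Set T) → ⁅m, k⁆ ≠ 1 := by
    intro k hk h
    have hk2 : k ^ 2 = z := by
      rcases hk with rfl | rfl | rfl
      · exact hn₁z
      · rw [← map_pow, hn₁z, hfix z hzV]
      · rw [← map_pow, ← map_pow, hn₁z, hfix z hzV, hfix z hzV]
    have hmkV : m * k ∈ V := hinv _ (by rw [hmn_sq, hk2, h, mul_one, hzz])
    -- `n₁` is a translate of `m` modulo `V`
    have h0 : ∀ g g' : T, m * g ∈ V → g' = ρ g → ρ m * g' ∈ V := fun g g' hg e => by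
      rw [e, ← map_mul, hfix _ hg]; exact hg
    have hlast : ∀ u, u ∈ ({m, ρ m, ρ (ρ m)} : Set T) → u * n₁ ∈ V → False := by
      intro u hu hun
      have h1 : ⁅m, u⁆ * ⁅m, n₁⁆ = 1 := by rw [← hmr, hsy, hzero _ hun]
      have h2 : ⁅m, n₁⁆ = ⁅m, u⁆ := by rw [eq_inv_of_mul_eq_one_right h1, hi _ (hcom _ _)]
      rcases hmself u hu with e | e <;> rw [e] at h2
      exacts [hn1z h2, hn1V h2]
    rcases hk with rfl | rfl | rfl
    · exact hlast m (Or.inl rfl) hmkV
    · have h1 := h0 _ _ (by exact hmkV) (rfl : ρ (ρ n₁) = ρ (ρ n₁))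
      have h2 : ρ (ρ m) * ρ (ρ (ρ n₁)) ∈ V := by rw [← map_mul, hfix _ h1]; exact h1
      rw [hrr] at h2
      exact hlast _ (Or.inr (Or.inr rfl)) h2
    · have h1 := h0 _ _ (by exact hmkV) (rfl : ρ (ρ (ρ n₁)) = ρ (ρ (ρ n₁)))
      rw [hrr] at h1
      exact hlast _ (Or.inr (Or.inl rfl)) h1
  -- choose the translate with value `z`
  have hprod := htriple m n₁ hn₁
  obtain ⟨k, hk1, hk2, hk3, hk4, hk5⟩ : ∃ k, k * ρ k * ρ (ρ k) ∈ V ∧ k ^ 2 = z ∧ ⁅m, k⁆ = z ∧
      (⁅m, ρ k⁆ ≠ 1 ∧ ⁅m, ρ k⁆ ≠ z) ∧ (⁅m, ρ (ρ k)⁆ ≠ 1 ∧ ⁅m, ρ (ρ k)⁆ ≠ z) := by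
    set a := ⁅m, n₁⁆ with ha
    have haV' : a ∈ V := hcom _ _
    have hv1 : ⁅m, ρ n₁⁆ ≠ 1 := hval _ (Or.inr (Or.inl rfl))
    have hv2 : ⁅m, ρ (ρ n₁)⁆ ≠ 1 := hval _ (Or.inr (Or.inr rfl))
    have haa' : a * a = 1 := by rw [← pow_two]; exact hVsq a haV'
    rcases hlist a haV' hn1z hn1V _ (hcom m (ρ n₁)) with e | e | e | e
    · exact absurd e hv1
    · refine ⟨ρ n₁, hmove _ hn₁, by rw [← map_pow, hn₁z, hfix z hzV], e, ?_, ?_⟩
      · rw [e] at hprod
        have h : ⁅m, ρ (ρ n₁)⁆ = a * z := by rw [eq_inv_of_mul_eq_one_right hprod, hi _ (mul_mem haV' hzV)]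
        exact ⟨hv2, fun h' => hn1z (by rw [h] at h'; exact mul_eq_right.mp h')⟩
      · rw [hrr]; exact ⟨hn1z, hn1V⟩
    · refine absurd ?_ hv2
      rw [e, haa', one_mul] at hprod
      exact hprod
    · refine ⟨ρ (ρ n₁), hmove _ (hmove _ hn₁), by rw [← map_pow, ← map_pow, hn₁z, hfix z hzV, hfix z hzV], ?_, ?_, ?_⟩
      · rw [e, mem_center_iff.mp (hVc haV') z, ← mul_assoc, haa', one_mul] at hprod
        rw [eq_inv_of_mul_eq_one_right hprod, hi z hzV]
      · rw [hrr]; exact ⟨hn1z, hn1V⟩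
      · rw [hrr, e]
        exact ⟨fun h' => hn1V (by rw [eq_inv_of_mul_eq_one_right h', hi z hzV]),
          fun h' => hn1z (mul_eq_left.mp h')⟩
  -- the whole group is generated
  have hmρm : ⁅m, ρ m⁆ = z := by rw [hsy]; exact hmm
  have hρk : ⁅ρ k, k⁆ = z := by rw [hq k hk1, hk2]
  have hρmk : ⁅ρ m, k⁆ = ⁅m, ρ (ρ k)⁆ := by rw [← hρc m (ρ (ρ k)), hrr]
  have hcenmap : ∀ p : T, ∃ H : Subgroup T, ∀ g, g ∈ H ↔ (⁅p, g⁆ = 1 ∨ ⁅p, g⁆ = z) := fun p =>
    ⟨{ carrier := {g | ⁅p, g⁆ = 1 ∨ ⁅p, g⁆ = z}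
       one_mem' := Or.inl (commutatorElement_one_right p)
       mul_mem' := fun {a b} ha hb => by
         show ⁅p, a * b⁆ = 1 ∨ ⁅p, a * b⁆ = z
         rw [hmr]
         rcases ha with e | e <;> rcases hb with e' | e' <;> rw [e, e']
         exacts [Or.inl (one_mul _), Or.inr (one_mul _), Or.inr (mul_one _), Or.inl hzz]
       inv_mem' := fun {a} ha => by
         show ⁅p, a⁻¹⁆ = 1 ∨ ⁅p, a⁻¹⁆ = z
         have h4 := hmr a a⁻¹ p
         rw [mul_inv_cancel, commutatorElement_one_right] at h4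
         rw [eq_inv_of_mul_eq_one_right h4.symm, hi _ (hcom _ _)]
         exact ha }, fun g => Iff.rfl⟩
  obtain ⟨Cm, hCm⟩ := hcenmap m
  obtain ⟨Cρ, hCρ⟩ := hcenmap (ρ m)
  have hVC : ∀ {p : T} {H : Subgroup T}, (∀ g, g ∈ H ↔ (⁅p, g⁆ = 1 ∨ ⁅p, g⁆ = z)) → V ≤ H :=
    fun {p H} hH v hv => (hH v).mpr (Or.inl (by rw [hsy]; exact hzero v hv p))
  set A1 := closure (insert m (V : Set T)) with hA1
  set A2 := closure (insert (ρ m) (insert m (V : Set T))) with hA2
  set A3 := closure (insert k (insert (ρ m) (insert m (V : Set T)))) with hA3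
  set A4 := closure (insert (ρ k) (insert k (insert (ρ m) (insert m (V : Set T))))) with hA4
  have l1 : V < A1 := SetLike.lt_iff_le_and_exists.mpr
    ⟨fun v hv => subset_closure (Or.inr hv), m, subset_closure (Or.inl rfl), hmV⟩
  have l2 : A1 < A2 := by
    refine SetLike.lt_iff_le_and_exists.mpr
      ⟨closure_mono (Set.subset_insert _ _), ρ m, subset_closure (Or.inl rfl), fun h => hz1 ?_⟩
    have hle : A1 ≤ centralizer {m} := (closure_le _).mpr (by
      rintro g (rfl | hg)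
      · exact mem_centralizer_singleton_iff.mpr rfl
      · exact mem_centralizer_singleton_iff.mpr (mem_center_iff.mp (hVc hg) m).symm)
    rw [← hmm]
    exact commutatorElement_eq_one_iff_commute.mpr (mem_centralizer_singleton_iff.mp (hle h))
  have l3 : A2 < A3 := by
    refine SetLike.lt_iff_le_and_exists.mpr
      ⟨closure_mono (Set.subset_insert _ _), k, subset_closure (Or.inl rfl), fun h => ?_⟩
    have hle : A2 ≤ Cρ := (closure_le _).mpr (by
      rintro g (rfl | rfl | hg)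
      · exact (hCρ _).mpr (Or.inl (commutatorElement_self _))
      · exact (hCρ _).mpr (Or.inr hmm)
      · exact hVC hCρ hg)
    rcases (hCρ k).mp (hle h) with e | e <;> rw [hρmk] at e
    exacts [hk5.1 e, hk5.2 e]
  have l4 : A3 < A4 := by
    refine SetLike.lt_iff_le_and_exists.mpr
      ⟨closure_mono (Set.subset_insert _ _), ρ k, subset_closure (Or.inl rfl), fun h => ?_⟩
    have hle : A3 ≤ Cm := (closure_le _).mpr (by
      rintro g (rfl | rfl | rfl | hg)
      · exact (hCm _).mpr (Or.inr hk3)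
      · exact (hCm _).mpr (Or.inr hmρm)
      · exact (hCm _).mpr (Or.inl (commutatorElement_self _))
      · exact hVC hCm hg)
    rcases (hCm _).mp (hle h) with e | e
    exacts [hk4.1 e, hk4.2 e]
  have htop : A4 = ⊤ := by
    refine Subgroup.eq_top_of_le_card A4 ?_
    have := double l1; have := double l2; have := double l3; have := double l4
    omega
  -- the element `w = m * ρ k` has too few commutators
  set w := m * ρ k with hwdef
  set a := ⁅m, ρ k⁆ with hadef
  have hwm : ⁅w, m⁆ = a := by rw [hwdef, hml, commutatorElement_self, one_mul, hsy]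
  have hwρm : ⁅w, ρ m⁆ = 1 := by
    rw [hwdef, hml, hmρm, hρc, hsy k m, hk3, hzz]
  have hwk : ⁅w, k⁆ = 1 := by rw [hwdef, hml, hk3, hρk, hzz]
  have hwρk : ⁅w, ρ k⁆ = a := by rw [hwdef, hml, commutatorElement_self, mul_one]
  have hwV : w ∉ V := fun h => hk4.1 (by rw [← hwm]; exact hzero w h m)
  obtain ⟨h, hh⟩ := hsurj w hwV z hzV
  have haa : a * a = 1 := by rw [← pow_two]; exact hVsq a (hcom _ _)
  let H : Subgroup T :=
    { carrier := {g | ⁅w, g⁆ = 1 ∨ ⁅w, g⁆ = a}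
      one_mem' := Or.inl (commutatorElement_one_right w)
      mul_mem' := fun {p q} hp hq => by
        show ⁅w, p * q⁆ = 1 ∨ ⁅w, p * q⁆ = a
        rw [hmr]
        rcases hp with e | e <;> rcases hq with e' | e' <;> rw [e, e']
        exacts [Or.inl (one_mul _), Or.inr (one_mul _), Or.inr (mul_one _), Or.inl haa]
      inv_mem' := fun {p} hp => by
        show ⁅w, p⁻¹⁆ = 1 ∨ ⁅w, p⁻¹⁆ = a
        have h4 := hmr p p⁻¹ w
        rw [mul_inv_cancel, commutatorElement_one_right] at h4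
        rw [eq_inv_of_mul_eq_one_right h4.symm, hi _ (hcom _ _)]
        exact hp }
  have hAH : A4 ≤ H := (closure_le _).mpr (by
    rintro g (rfl | rfl | rfl | rfl | hg)
    · exact Or.inr hwρk
    · exact Or.inl hwk
    · exact Or.inl hwρm
    · exact Or.inr hwm
    · exact Or.inl (by rw [hsy]; exact hzero g hg w))
  rw [htop] at hAH
  rcases (hAH (mem_top h) : ⁅w, h⁆ = 1 ∨ ⁅w, h⁆ = a) with e | e <;> rw [hh] at e
  exacts [hz1 e, hk4.2 e.symm]

end CfsgLib.PGroups.Suzuki.SThreeAction
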