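import Mathlib

/-!
Owner: helper11. A central extension of an elementary abelian 2-group by another one is determined by its
squaring map.
-/

set_option autoImplicit false
set_option maxHeartbeats 400000

open scoped commutatorElement

namespace CfsgLib.PGroups.Suzuki.SquareIso

universe u v w w'

/-- A central extension of `V` by `W` with squaring map `sqMap`. -/
structure SqData {V : Type w} {W : Type w'} [AddCommGroup V] [AddCommGroup W] (sqMap : V → W)
    (P : Type u) [Group P] where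
  ι : W → P
  ι_add : ∀ a b, ι (a + b) = ι a * ι b
  ι_inj : Function.Injective ι
  central : ∀ (a : W) (g : P), ι a * g = g * ι a
  q : P → V
  q_mul : ∀ g h, q (g * h) = q g + q h
  q_surj : Function.Surjective q
  q_eq : ∀ g, q g = 0 → ∃ a, g = ι a
  q_ι : ∀ a, q (ι a) = 0
  sq : ∀ g, g * g = ι (sqMap (q g))

variable {V : Type w} {W : Type w'} [AddCommGroup V] [AddCommGroup W] {sqMap : V → W}
  {P : Type u} [Group P] {P' : Type v} [Group P']

theorem SqData.ι_zero (D : SqData sqMap P) : D.ι 0 = 1 := by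
  have h := D.ι_add 0 0
  rwa [add_zero, left_eq_mul] at h

theorem SqData.q_one (D : SqData sqMap P) : D.q 1 = 0 := by
  have h := D.q_mul 1 1
  rwa [one_mul, left_eq_add] at h

theorem SqData.q_inv (D : SqData sqMap P) (g : P) : D.q g⁻¹ = -D.q g := by
  rw [eq_neg_iff_add_eq_zero, ← D.q_mul, inv_mul_cancel, D.q_one]

/-- Two extensions with the same squaring map are isomorphic. -/
theorem nonempty_mulEquiv [Finite P] [Finite P'] (D : SqData sqMap P) (D' : SqData sqMap P') :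
    Nonempty (P ≃* P') := by
  classical
  let R : Subgroup (P × P') :=
    { carrier := {x | D.q x.1 = D'.q x.2}
      one_mem' := D.q_one.trans D'.q_one.symm
      mul_mem' := fun {x y} (hx : D.q x.1 = D'.q x.2) (hy : D.q y.1 = D'.q y.2) => by
        show D.q (x.1 * y.1) = D'.q (x.2 * y.2)
        rw [D.q_mul, D'.q_mul, hx, hy]
      inv_mem' := fun {x} (hx : D.q x.1 = D'.q x.2) => by
        show D.q x.1⁻¹ = D'.q x.2⁻¹
        rw [D.q_inv, D'.q_inv, hx] }
  let Δ : Subgroup (P × P') :=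
    { carrier := Set.range fun a => (D.ι a, D'.ι a)
      one_mem' := ⟨0, by simp [D.ι_zero, D'.ι_zero]⟩
      mul_mem' := by
        rintro _ _ ⟨a, rfl⟩ ⟨b, rfl⟩
        exact ⟨a + b, by simp [D.ι_add, D'.ι_add]⟩
      inv_mem' := by
        rintro _ ⟨a, rfl⟩
        refine ⟨-a, eq_inv_of_mul_eq_one_left ?_⟩
        simp [← D.ι_add, ← D'.ι_add, D.ι_zero, D'.ι_zero] }
  have hΔR : Δ ≤ R := by
    rintro _ ⟨a, rfl⟩
    show D.q (D.ι a) = D'.q (D'.ι a)
    rw [D.q_ι, D'.q_ι]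
  have hΔc : ∀ d ∈ Δ, ∀ x : P × P', d * x = x * d := by
    rintro _ ⟨a, rfl⟩ x
    exact Prod.ext (D.central a x.1) (D'.central a x.2)
  have hsq : ∀ x ∈ R, x * x ∈ Δ := fun x (hx : D.q x.1 = D'.q x.2) =>
    ⟨sqMap (D.q x.1), Prod.ext (D.sq x.1).symm (by
      show D'.ι (sqMap (D.q x.1)) = x.2 * x.2
      rw [D'.sq, hx])⟩
  have hcomm : ∀ x ∈ R, ∀ y ∈ R, x * y * x⁻¹ * y⁻¹ ∈ Δ := fun x hx y hy => by
    have h1 := Δ.mul_mem (Δ.mul_mem (hsq _ (R.mul_mem hx hy)) (Δ.inv_mem (hsq _ hx)))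
      (Δ.inv_mem (hsq _ hy))
    convert h1 using 1
    have ha : (x * x)⁻¹ * y = y * (x * x)⁻¹ := hΔc _ (Δ.inv_mem (hsq _ hx)) y
    calc x * y * x⁻¹ * y⁻¹ = x * y * x * ((x * x)⁻¹ * y) * (y * y)⁻¹ := by group
      _ = x * y * x * (y * (x * x)⁻¹) * (y * y)⁻¹ := by rw [ha]
      _ = x * y * (x * y) * (x * x)⁻¹ * (y * y)⁻¹ := by group
  obtain ⟨E, hEΔ, ⟨⟨-, hER, hEC⟩, hmax⟩⟩ := Set.Finite.exists_le_maximal
    (s := {H : Subgroup (P × P') | Δ ≤ H ∧ H ≤ R ∧ ∀ a, (D.ι a, (1 : P')) ∈ H → a = 0})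
    (Set.toFinite _) (a := Δ) ⟨le_rfl, hΔR, fun a ha => by
      obtain ⟨b, hb⟩ := ha
      have h1 := congrArg Prod.fst hb
      have h2 := congrArg Prod.snd hb
      have hb0 : b = 0 := D'.ι_inj (h2.trans D'.ι_zero.symm)
      exact D.ι_inj (h1.symm.trans (by rw [hb0]))⟩
  have hcover : ∀ x ∈ R, ∃ a, ∃ e ∈ E, x = e * (D.ι a, 1) := by
    intro x hx
    let H : Subgroup (P × P') :=
      { carrier := {y | y ∈ E ∨ ∃ e ∈ E, y = e * x}
        one_mem' := Or.inl E.one_mem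
        mul_mem' := by
          have hswap : ∀ e ∈ E, ∃ e' ∈ E, x * e = e' * x := fun e he =>
            ⟨x * e * x⁻¹, by
              have := E.mul_mem (hEΔ (hcomm x hx e (hER he))) he
              simpa [mul_assoc] using this, by group⟩
          rintro y z (hy | ⟨e, he, rfl⟩) (hz | ⟨f, hf, rfl⟩)
          · exact Or.inl (E.mul_mem hy hz)
          · exact Or.inr ⟨y * f, E.mul_mem hy hf, by group⟩
          · obtain ⟨e', he', h⟩ := hswap z hz
            exact Or.inr ⟨e * e', E.mul_mem he he', by rw [mul_assoc, h, mul_assoc]⟩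
          · obtain ⟨e', he', h⟩ := hswap f hf
            refine Or.inl ?_
            rw [show e * x * (f * x) = e * (x * f) * x by group, h, show e * (e' * x) * x = e * e' * (x * x) by group]
            exact E.mul_mem (E.mul_mem he he') (hEΔ (hsq x hx))
        inv_mem' := by
          rintro y (hy | ⟨e, he, rfl⟩)
          · exact Or.inl (E.inv_mem hy)
          · refine Or.inr ⟨(x * x)⁻¹ * (x * e⁻¹ * x⁻¹), E.mul_mem (E.inv_mem (hEΔ (hsq x hx))) ?_, by group⟩
            have := E.mul_mem (hEΔ (hcomm x hx e⁻¹ (R.inv_mem (hER he)))) (E.inv_mem he)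
            simpa [mul_assoc] using this }
    have hEH : E ≤ H := fun y hy => Or.inl hy
    by_cases hxE : x ∈ E
    · exact ⟨0, x, hxE, by rw [D.ι_zero]; exact (mul_one x).symm⟩
    have hnot : ¬ ∀ a, (D.ι a, (1 : P')) ∈ H → a = 0 := fun h => hxE (hmax
      ⟨hEΔ.trans hEH, fun y hy => hy.elim (fun h => hER h)
        (fun ⟨e, he, h⟩ => h ▸ R.mul_mem (hER he) hx), h⟩ hEH (Or.inr ⟨1, E.one_mem, (one_mul x).symm⟩))
    push Not at hnot
    obtain ⟨a, (ha | ⟨e, he, ha⟩), ha0⟩ := hnot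
    · exact absurd (hEC a ha) ha0
    · exact ⟨a, e⁻¹, E.inv_mem he, by rw [ha, inv_mul_cancel_left]⟩
  let φ : E →* P := (MonoidHom.fst P P').comp E.subtype
  let ψ : E →* P' := (MonoidHom.snd P P').comp E.subtype
  have hφi : Function.Injective φ := by
    rw [injective_iff_map_eq_one]
    rintro ⟨⟨g, h⟩, hE⟩ (hg : g = 1)
    subst hg
    have hq : D'.q h = 0 := (hER hE).symm.trans D.q_one
    obtain ⟨b, rfl⟩ := D'.q_eq h hq
    have h1 : (D.ι b, (1 : P')) ∈ E := by
      have := E.mul_mem (E.inv_mem hE) (hEΔ ⟨b, rfl⟩)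
      simpa using this
    exact Subtype.ext (Prod.ext rfl (show D'.ι b = 1 by rw [hEC b h1, D'.ι_zero]))
  have hψi : Function.Injective ψ := by
    rw [injective_iff_map_eq_one]
    rintro ⟨⟨g, h⟩, hE⟩ (hg : h = 1)
    subst hg
    have hq : D.q g = 0 := (hER hE).trans D'.q_one
    obtain ⟨b, rfl⟩ := D.q_eq g hq
    exact Subtype.ext (Prod.ext (show D.ι b = 1 by rw [hEC b hE, D.ι_zero]) rfl)
  have hφs : Function.Surjective φ := by
    intro g
    obtain ⟨h, hh⟩ := D'.q_surj (D.q g)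
    obtain ⟨a, e, he, hx⟩ := hcover (g, h) hh.symm
    refine ⟨⟨e * (D.ι a, D'.ι a), E.mul_mem he (hEΔ ⟨a, rfl⟩)⟩, ?_⟩
    exact (congrArg Prod.fst hx).symm
  have hψs : Function.Surjective ψ := by
    intro h
    obtain ⟨g, hg⟩ := D.q_surj (D'.q h)
    obtain ⟨a, e, he, hx⟩ := hcover (g, h) hg
    exact ⟨⟨e, he⟩, ((congrArg Prod.snd hx).trans (mul_one _)).symm⟩
  exact ⟨(MulEquiv.ofBijective φ ⟨hφi, hφs⟩).symm.trans (MulEquiv.ofBijective ψ ⟨hψi, hψs⟩)⟩

end CfsgLib.PGroups.Suzuki.SquareIso
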