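import Mathlib
import Cfsg.Agent.Lib.Classical.LinearOrder
import Cfsg.Agent.Lib.PGroups.Suzuki.Unitary
import Cfsg.Agent.Lib.PGroups.Suzuki.LinearThreeFour
import Cfsg.Agent.Lib.PGroups.Suzuki.SquareIso

/-!
Owner: helper11. The Sylow 2-subgroups of `PSL₃(2ⁿ)` and `PSU₃(2ⁿ)` as central extensions of `F × F` by `F`
given by the squaring map `(a, b) ↦ k a² + b² + a b`.
-/

set_option autoImplicit false
set_option maxHeartbeats 800000

open scoped MatrixGroups

namespace CfsgLib.PGroups.Suzuki.SquareModels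

open SquareIso CfsgLib.Classical CfsgLib.Classical.Herm

universe u v

/-- The squaring form. -/
def pk {F : Type u} [Field F] (k : F) (v : F × F) : F := k * v.1 ^ 2 + v.2 ^ 2 + v.1 * v.2

/-- The map `r ↦ r² + r`. -/
def artin (F : Type u) [Field F] [CharP F 2] : F →+ F :=
  AddMonoidHom.mk' (fun r => r ^ 2 + r) fun a b => by rw [CharTwo.add_sq]; abel

theorem artin_index (F : Type u) [Field F] [Finite F] [CharP F 2] : (artin F).range.index = 2 := by
  classical
  have hker : Nat.card (artin F).ker = 2 := by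
    let e : (artin F).ker ≃ ({0, 1} : Finset F) :=
      { toFun := fun r => ⟨r.1, by
          have h : r.1 ^ 2 + r.1 = 0 := r.2
          have h' : r.1 * (r.1 + 1) = 0 := by linear_combination h
          rcases mul_eq_zero.mp h' with h0 | h0
          · simp [h0]
          · simp [CharTwo.add_eq_zero.mp h0]⟩
        invFun := fun r => ⟨r.1, by
          show r.1 ^ 2 + r.1 = 0
          rcases Finset.mem_insert.mp r.2 with h | h
          · simp [h]
          · rw [Finset.mem_singleton.mp h, one_pow, CharTwo.add_self_eq_zero]⟩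
        left_inv := fun r => rfl
        right_inv := fun r => rfl }
    rw [Nat.card_congr e, Nat.card_eq_fintype_card, Fintype.card_coe, Finset.card_pair zero_ne_one]
  have h1 := (artin F).range.card_mul_index
  have h2 := (artin F).ker.card_mul_index
  rw [AddSubgroup.index_ker, hker] at h2
  have hpos : 0 < Nat.card (artin F).range := Nat.card_pos
  exact Nat.eq_of_mul_eq_mul_left hpos (by rw [h1, ← h2, mul_comm])

theorem exists_data_linear {F : Type} [Field F] [Fintype F] [CharP F 2] {n : ℕ} (hn : 1 ≤ n)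
    (hF : Fintype.card F = 2 ^ n) (r : F)
    (S : Sylow 2 (Matrix.ProjectiveSpecialLinearGroup (Fin 3) F)) :
    Nonempty (SqData (pk (r ^ 2 + r))
      ↥(S : Subgroup (Matrix.ProjectiveSpecialLinearGroup (Fin 3) F))) := by
  classical
  have := Fact.mk Nat.prime_two
  let π := QuotientGroup.mk' (Subgroup.center SL(3, F))
  let e : F × F × F → Matrix.ProjectiveSpecialLinearGroup (Fin 3) F := fun p =>
    π (LinearThreeFour.el p.1 p.2.1 p.2.2)
  have hemul : ∀ p q : F × F × F,
      e p * e q = e (p.1 + q.1, p.2.1 + q.2.1, p.2.2 + q.2.2 + p.1 * q.2.1) :=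
    fun p q => by show π _ * π _ = π _; rw [← map_mul, LinearThreeFour.el_mul]
  have he1 : e (0, 0, 0) = 1 := by show π _ = 1; rw [LinearThreeFour.el_zero, map_one]
  let U : Subgroup (Matrix.ProjectiveSpecialLinearGroup (Fin 3) F) :=
    { carrier := Set.range e
      one_mem' := ⟨(0, 0, 0), he1⟩
      mul_mem' := by
        rintro _ _ ⟨p, rfl⟩ ⟨q, rfl⟩
        exact ⟨_, (hemul p q).symm⟩
      inv_mem' := by
        rintro _ ⟨p, rfl⟩
        refine ⟨(-p.1, -p.2.1, -p.2.2 + p.1 * p.2.1), eq_inv_of_mul_eq_one_left ?_⟩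
        rw [hemul, ← he1]
        congr 1
        refine Prod.ext ?_ (Prod.ext ?_ ?_) <;> simp }
  have heinj : Function.Injective e := by
    intro p q h
    have h1 : (LinearThreeFour.el p.1 p.2.1 p.2.2)⁻¹ * LinearThreeFour.el q.1 q.2.1 q.2.2 ∈
        Subgroup.center SL(3, F) := QuotientGroup.eq.mp h
    obtain ⟨l, -, hl⟩ := Matrix.SpecialLinearGroup.mem_center_iff.mp h1
    have h2' : (LinearThreeFour.el q.1 q.2.1 q.2.2 : Matrix (Fin 3) (Fin 3) F) =
        (LinearThreeFour.el p.1 p.2.1 p.2.2 : Matrix (Fin 3) (Fin 3) F) * Matrix.scalar (Fin 3) l := by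
      rw [hl, ← Matrix.SpecialLinearGroup.coe_mul, mul_inv_cancel_left]
    have e00 := congrFun (congrFun h2' 0) 0
    simp [LinearThreeFour.el] at e00
    subst e00
    have e01 := congrFun (congrFun h2' 0) 1
    have e12 := congrFun (congrFun h2' 1) 2
    have e02 := congrFun (congrFun h2' 0) 2
    simp [LinearThreeFour.el] at e01 e12 e02
    exact Prod.ext e01.symm (Prod.ext e12.symm e02.symm)
  let eU : F × F × F ≃ U := Equiv.ofInjective e heinj
  have hU : Nat.card U = (2 ^ n) ^ 3 := by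
    rw [← Nat.card_congr eU, Nat.card_prod, Nat.card_prod, Nat.card_eq_fintype_card, hF]; ring
  have hfac : (Nat.card (Matrix.ProjectiveSpecialLinearGroup (Fin 3) F)).factorization 2 = n * 3 := by
    have h1 := CfsgLib.Classical.card_SL (F := F) 3 (by norm_num)
    have h3 := CfsgLib.Classical.card_SL_eq_gcd_mul_card_PSL (F := F) (ι := Fin 3)
    rw [Fintype.card_fin, hF] at h3
    rw [hF, Fin.prod_univ_three, h3] at h1
    set g := Nat.gcd 3 (2 ^ n - 1)
    set c := Nat.card (Matrix.ProjectiveSpecialLinearGroup (Fin 3) F)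
    have heven : 2 ∣ 2 ^ n := dvd_pow_self 2 (by omega)
    have h2n : 2 ≤ 2 ^ n := Nat.le_of_dvd (by positivity) heven
    obtain ⟨a, ha⟩ : ∃ a, 2 ^ n = a + 1 := ⟨2 ^ n - 1, by omega⟩
    have hq2 : 2 ^ n ≤ (2 ^ n) ^ 2 := Nat.le_self_pow (by norm_num) _
    have hq3 : (2 ^ n) ^ 2 ≤ (2 ^ n) ^ 3 := Nat.pow_le_pow_right (by omega) (by norm_num)
    obtain ⟨b, hb⟩ : ∃ b, (2 ^ n) ^ 2 = b + 1 := ⟨(2 ^ n) ^ 2 - 1, by omega⟩
    obtain ⟨d, hd⟩ : ∃ d, (2 ^ n) ^ 3 = d + 1 := ⟨(2 ^ n) ^ 3 - 1, by omega⟩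
    have f0 : (2 ^ n) ^ 3 - (2 ^ n) ^ ((0 : Fin 3) : ℕ) = d := by simp; omega
    have f1 : (2 ^ n) ^ 3 - (2 ^ n) ^ ((1 : Fin 3) : ℕ) = 2 ^ n * b := by
      simp only [Fin.val_one, pow_one]
      have : (2 ^ n) ^ 3 = 2 ^ n * b + 2 ^ n := by rw [pow_succ', hb]; ring
      omega
    have f2 : (2 ^ n) ^ 3 - (2 ^ n) ^ ((2 : Fin 3) : ℕ) = (2 ^ n) ^ 2 * a := by
      simp only [Fin.val_two]
      have : (2 ^ n) ^ 3 = (2 ^ n) ^ 2 * a + (2 ^ n) ^ 2 := by rw [pow_succ, ← mul_add_one, ← ha]
      omega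
    rw [f0, f1, f2, ha, Nat.add_sub_cancel, ← ha] at h1
    have ha2 : ¬ 2 ∣ a := by omega
    have hbe : 2 ∣ (2 ^ n) ^ 2 := dvd_pow heven (by norm_num)
    have hde : 2 ∣ (2 ^ n) ^ 3 := dvd_pow heven (by norm_num)
    have hb2 : ¬ 2 ∣ b := by omega
    have hd2 : ¬ 2 ∣ d := by omega
    have hodd : ¬ 2 ∣ d * b * a := by
      rw [Nat.Prime.dvd_mul Nat.prime_two, Nat.Prime.dvd_mul Nat.prime_two]; tauto
    have hg : ¬ 2 ∣ a * g := by
      rw [Nat.Prime.dvd_mul Nat.prime_two]
      exact not_or.mpr ⟨ha2, fun h => absurd (h.trans (Nat.gcd_dvd_left _ _)) (by norm_num)⟩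
    have h5 : a * g * c = 2 ^ (n * 3) * (d * b * a) := by
      rw [mul_assoc, h1, pow_mul]; ring
    have h6 := congrArg (fun m : ℕ => m.factorization 2) h5
    beta_reduce at h6
    have hag : a * g ≠ 0 := fun h => hg (by rw [h]; exact dvd_zero 2)
    have hdba : d * b * a ≠ 0 := fun h => hodd (by rw [h]; exact dvd_zero 2)
    have e1 : (a * g * c).factorization 2 = c.factorization 2 := by
      rw [Nat.factorization_mul hag Nat.card_pos.ne', Finsupp.add_apply,
        Nat.factorization_eq_zero_of_not_dvd hg, zero_add]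
    have e2 : (2 ^ (n * 3) * (d * b * a)).factorization 2 = n * 3 := by
      rw [Nat.factorization_mul (pow_ne_zero _ two_ne_zero) hdba, Finsupp.add_apply,
        Nat.Prime.factorization_pow Nat.prime_two, Finsupp.single_eq_same,
        Nat.factorization_eq_zero_of_not_dvd hodd, add_zero]
    rw [e1, e2] at h6
    omega
  let S' : Sylow 2 (Matrix.ProjectiveSpecialLinearGroup (Fin 3) F) :=
    Sylow.ofCard U (by rw [hU, hfac, pow_mul])
  let ε : U ≃* ↥(S : Subgroup (Matrix.ProjectiveSpecialLinearGroup (Fin 3) F)) := S'.equiv S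
  let E := eU.trans ε.toEquiv
  have hmul : ∀ p q : F × F × F,
      E p * E q = E (p.1 + q.1, p.2.1 + q.2.1, p.2.2 + q.2.2 + p.1 * q.2.1) := fun p q => by
    show ε (eU p) * ε (eU q) = ε (eU _)
    rw [← map_mul]
    exact congrArg ε (Subtype.ext (hemul p q))
  have h0 : E (0, 0, 0) = 1 := mul_left_cancel ((hmul (0, 0, 0) (0, 0, 0)).trans (by simp))
  exact ⟨{
    ι := fun a => E (0, 0, a)
    ι_add := fun a b => by rw [hmul]; simp
    ι_inj := fun a b h => by simpa using E.injective h
    central := fun a g => by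
      obtain ⟨p, rfl⟩ := E.surjective g
      rw [hmul, hmul]; congr 1; refine Prod.ext ?_ (Prod.ext ?_ ?_) <;> simp [add_comm]
    q := fun g => ((E.symm g).1 + (E.symm g).2.1,
      (E.symm g).1 + r * ((E.symm g).1 + (E.symm g).2.1))
    q_mul := fun g h => by
      obtain ⟨p, rfl⟩ := E.surjective g
      obtain ⟨p', rfl⟩ := E.surjective h
      simp only [hmul, Equiv.symm_apply_apply, Prod.mk_add_mk]
      exact Prod.ext (by ring) (by ring)
    q_surj := fun v => ⟨E (v.2 + r * v.1, v.1 + (v.2 + r * v.1), 0), by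
      simp only [Equiv.symm_apply_apply]
      have h2 : (2 : F) = 0 := CharTwo.two_eq_zero
      exact Prod.ext (by linear_combination (v.2 + r * v.1) * h2)
        (by linear_combination (r * v.1 + r * (v.2 + r * v.1)) * h2)⟩
    q_eq := fun g hg => by
      obtain ⟨⟨x, y, z⟩, rfl⟩ := E.surjective g
      simp only [Equiv.symm_apply_apply, Prod.mk_eq_zero] at hg
      obtain ⟨h1, h2⟩ := hg
      rw [h1, mul_zero, add_zero] at h2
      subst h2
      rw [zero_add] at h1
      subst h1
      exact ⟨z, rfl⟩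
    q_ι := fun a => by simp
    sq := fun g => by
      obtain ⟨⟨x, y, z⟩, rfl⟩ := E.surjective g
      simp only [Equiv.symm_apply_apply, hmul, pk]
      have h2 : (2 : F) = 0 := CharTwo.two_eq_zero
      congr 1
      refine Prod.ext (CharTwo.add_self_eq_zero x) (Prod.ext (CharTwo.add_self_eq_zero y) ?_)
      linear_combination (z - (x + y) ^ 2 * r ^ 2 - (x + y) * x * r - (x + y) ^ 2 * r - x ^ 2) * h2 }⟩

theorem exists_data_unitary {F : Type} [Field F] [Finite F] [CharP F 2] {K : Type} [Field K] [Fintype K]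
    {n : ℕ} (hn : 1 ≤ n) (hF : Nat.card F = 2 ^ n) (hK : Fintype.card K = (2 ^ n) ^ 2) {k : F}
    (hk : k ∉ (artin F).range) (S : Sylow 2 (Cfsg.PSU 3 K (2 ^ n))) :
    Nonempty (SqData (pk k) ↥(S : Subgroup (Cfsg.PSU 3 K (2 ^ n)))) := by
  classical
  haveI := Unitary.charP_two hn hK
  obtain ⟨X⟩ := Unitary.exists_param hn hK S
  set σ := powHom hK
  have hσ : IsInvol σ := powHom_isInvol hK
  haveI : Fintype F := Fintype.ofFinite F
  haveI : Fintype (fixedSub σ) := Fintype.ofFinite _
  let e : F ≃+* fixedSub σ := FiniteField.ringEquivOfCardEq (by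
    rw [← Nat.card_eq_fintype_card, hF, ← Nat.card_eq_fintype_card, card_fixed_powHom hK])
  have hfe : ∀ a : F, σ (e a : K) = (e a : K) := fun a => (e a).2
  obtain ⟨t₀, ht₀⟩ := hσ.exists_trace_eq (map_one σ)
  have hn0 : σ (σ t₀ * t₀) = σ t₀ * t₀ := by rw [map_mul, hσ.invol, mul_comm]
  set k₀ : F := e.symm ⟨σ t₀ * t₀, hn0⟩ with hk₀
  have hk₀' : (e k₀ : K) = σ t₀ * t₀ := by rw [hk₀, RingEquiv.apply_symm_apply]
  have h20 : (2 : K) = 0 := CharTwo.two_eq_zero
  have hk₀n : k₀ ∉ (artin F).range := by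
    rintro ⟨r, hr⟩
    have h1 : (e r : K) ^ 2 + (e r : K) = σ t₀ * t₀ := by
      rw [← hk₀', ← hr]
      show _ = ((e (r ^ 2 + r) : fixedSub σ) : K)
      rw [map_add, map_pow]; push_cast; rfl
    have h2 : (t₀ + (e r : K)) * (t₀ + (e r : K) + 1) = 0 := by
      linear_combination h1 - t₀ * ht₀ + (t₀ ^ 2 + t₀ * (e r : K) + σ t₀ * t₀) * h20
    have hfix : σ t₀ = t₀ := by
      rcases mul_eq_zero.mp h2 with h3 | h3
      · rw [CharTwo.add_eq_zero.mp h3, hfe]
      · rw [add_assoc] at h3
        rw [CharTwo.add_eq_zero.mp h3, map_add, hfe, map_one]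
    rw [hfix, CharTwo.add_self_eq_zero] at ht₀
    exact zero_ne_one ht₀
  obtain ⟨r, hr⟩ : k + k₀ ∈ (artin F).range := by
    have := AddSubgroup.add_mem_iff_of_index_two (artin_index F) (a := k) (b := k₀)
    tauto
  set t : K := t₀ + (e r : K) with ht
  have htr : t + σ t = 1 := by
    rw [ht, map_add, hfe]
    linear_combination ht₀ + (e r : K) * h20
  have hnorm : σ t * t = (e k : K) := by
    have hke : (e k : K) = (e r : K) ^ 2 + (e r : K) + σ t₀ * t₀ := by
      rw [← hk₀']
      have : k = r ^ 2 + r + k₀ := by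
        rw [show r ^ 2 + r = k + k₀ from hr, CharTwo.add_cancel_right]
      conv_lhs => rw [this]
      rw [map_add, map_add, map_pow]; push_cast; rfl
    rw [hke, ht, map_add, hfe]
    linear_combination (e r : K) * ht₀
  have hA : ∀ s : K, σ (s + σ s) = s + σ s := fun s => by rw [map_add, hσ.invol, add_comm]
  have hB : ∀ s : K, σ (s + (s + σ s) * t) = s + (s + σ s) * t := fun s => by
    rw [map_add, map_mul, hA]
    linear_combination (s + σ s) * htr - t * (s + σ s) * h20 - s * h20 + (σ s + s) * h20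
  let A : K → F := fun s => e.symm ⟨s + σ s, hA s⟩
  let B : K → F := fun s => e.symm ⟨s + (s + σ s) * t, hB s⟩
  have heA : ∀ s, (e (A s) : K) = s + σ s := fun s => by simp [A]
  have heB : ∀ s, (e (B s) : K) = s + (s + σ s) * t := fun s => by simp [B]
  have hei : ∀ a b : F, (e a : K) = (e b : K) → a = b := fun a b h => e.injective (Subtype.ext h)
  let ι : F → ↥(S : Subgroup (Cfsg.PSU 3 K (2 ^ n))) := fun a =>
    X.el ⟨(0, (e a : K)), by simp only [map_zero, mul_zero, hfe, CharTwo.add_self_eq_zero]⟩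
  exact ⟨{
    ι := ι
    ι_add := fun a b => (X.mul _ _ _ (by simp)).symm
    ι_inj := fun a b h => hei a b (congrArg (fun z : Unitary.Pts σ => z.1.2) (X.el.injective h))
    central := fun a g => by
      obtain ⟨x, rfl⟩ := X.el.surjective g
      rw [X.commute_iff hσ]; simp
    q := fun g => (A (X.el.symm g).1.1, B (X.el.symm g).1.1)
    q_mul := fun g h => by
      obtain ⟨x, rfl⟩ := X.el.surjective g
      obtain ⟨y, rfl⟩ := X.el.surjective h
      rw [X.mul' hσ]
      simp only [Equiv.symm_apply_apply, Unitary.Param.prod, Prod.mk_add_mk]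
      refine Prod.ext (hei _ _ ?_) (hei _ _ ?_)
      · simp only [map_add, AddMemClass.coe_add, heA, map_add]; ring
      · simp only [map_add, AddMemClass.coe_add, heB, map_add]; ring
    q_surj := fun v => by
      obtain ⟨x, hx⟩ := Unitary.exists_pt hσ ((e v.2 : K) + (e v.1 : K) * t)
      refine ⟨X.el x, ?_⟩
      simp only [Equiv.symm_apply_apply, hx]
      refine Prod.ext (hei _ _ ?_) (hei _ _ ?_)
      · rw [heA, map_add, map_mul, hfe, hfe]
        linear_combination (e v.1 : K) * htr + (e v.2 : K) * h20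
      · rw [heB, map_add, map_mul, hfe, hfe]
        linear_combination t * (e v.1 : K) * htr + t * ((e v.2 : K) + (e v.1 : K)) * h20
    q_eq := fun g hg => by
      obtain ⟨x, rfl⟩ := X.el.surjective g
      simp only [Equiv.symm_apply_apply, Prod.mk_eq_zero] at hg
      have h1 : x.1.1 + σ x.1.1 = 0 := by rw [← heA, hg.1, map_zero]; rfl
      have h2 : x.1.1 = 0 := by
        have := heB x.1.1
        rw [hg.2, map_zero, h1, zero_mul, add_zero] at this
        exact this.symm
      have hx2 : σ x.1.2 = x.1.2 := by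
        have h3 := x.2
        rw [h2, map_zero, mul_zero] at h3
        exact (CharTwo.add_eq_zero.mp h3).symm
      exact ⟨e.symm ⟨x.1.2, hx2⟩, congrArg X.el (Subtype.ext (Prod.ext h2 (by simp)))⟩
    q_ι := fun a => by
      simp only [ι, Equiv.symm_apply_apply]
      refine Prod.ext (hei _ _ ?_) (hei _ _ ?_)
      · simp only [heA]; simp
      · simp only [heB]; simp
    sq := fun g => by
      obtain ⟨x, rfl⟩ := X.el.surjective g
      obtain ⟨z, hz, he⟩ := X.sq hσ x
      rw [he]
      simp only [Equiv.symm_apply_apply, ι, pk]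
      refine congrArg X.el (Subtype.ext (hz.trans (Prod.ext rfl ?_)))
      show σ x.1.1 * x.1.1 =
        ((e (k * A x.1.1 ^ 2 + B x.1.1 ^ 2 + A x.1.1 * B x.1.1) : fixedSub σ) : K)
      rw [map_add, map_add, map_mul, map_mul, map_pow, map_pow]
      push_cast
      rw [heA, heB, ← hnorm]
      set s := x.1.1
      have hσt : σ t = t + 1 := by linear_combination htr - t * h20
      rw [hσt]
      linear_combination (-(s ^ 2 * t ^ 2) - 2 * s * σ s * t ^ 2 - (σ s) ^ 2 * t ^ 2 - 2 * s ^ 2 * t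
        - 3 * s * σ s * t - (σ s) ^ 2 * t - s ^ 2) * h20 }⟩

end CfsgLib.PGroups.Suzuki.SquareModels
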