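import Mathlib
import Cfsg.Agent.Lib.PGroups.Suzuki.Chart
import Cfsg.Agent.Lib.PGroups.Suzuki.InvolutorySinger
import Cfsg.Agent.Lib.PGroups.Suzuki.SquareModels

/-!
Owner: helper11. The squaring form of a non-abelian 2-group with an involutory automorphism whose fixed points
are permuted transitively by a commuting automorphism of order `2 ^ n - 1`.
-/

set_option autoImplicit false
set_option maxHeartbeats 800000
set_option linter.unusedSectionVars false
set_option linter.style.haveILetI false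

open scoped commutatorElement

namespace CfsgLib.PGroups.Suzuki.InvolutorySinger

open Equivariant Subgroup SquareIso SquareModels

universe u

variable {Q : Type u} [Group Q] [Finite Q]

theorem exists_final {F : Type} [Field F] [Fintype F] [CharP F 2] {α σ : MulAut Q} {C : Subgroup Q}
    {n : ℕ} {ec : Q → F} {μ : F} (S : Singer α σ C n ec μ) (hna : ¬ IsMulCommutative Q) :
    ∃ A, Singer.Final α σ C n ec A := by
  have hstep : ∀ (m j : ℕ) (A : Subgroup Q), Nat.card Q - Nat.card A ≤ m → Level α σ C n j A →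
      ∃ A', Singer.Final α σ C n ec A' := by
    intro m
    induction m with
    | zero =>
      intro j A hm L
      have hA : A = ⊤ := eq_top_of_le_card A (by omega)
      exact absurd ⟨⟨fun x y => L.abelian x (hA ▸ mem_top x) y (hA ▸ mem_top y)⟩⟩ hna
    | succ m ih =>
      intro j A hm L
      have hA : A ≠ ⊤ := fun hA => hna ⟨⟨fun x y => L.abelian x (hA ▸ mem_top x) y (hA ▸ mem_top y)⟩⟩
      by_cases hc : ∀ x ∈ next α A, ∀ a ∈ A, x * a = a * x
      · obtain ⟨A', hlt, L'⟩ := S.central_case L hA hna hc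
        have h1 : Nat.card A < Nat.card A' :=
          Set.Finite.card_lt_card (Set.toFinite _) (SetLike.coe_ssubset_coe.2 hlt)
        exact ih _ A' (by omega) L'
      · exact ⟨A, (S.displaced_case L hA hc).2⟩
  refine hstep _ 1 C le_rfl ⟨le_rfl, fun a _ b hb => S.central b hb a, le_rfl, S.coord.map_mem,
    fun a ha => ?_, fun a ha => ?_, by rw [pow_one, S.cardC]⟩
  · rw [(S.fix a).mp ha]; exact eq_inv_of_mul_eq_one_left (S.sqC a ha)
  · rw [pow_one, pow_two]; exact S.sqC a ha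

theorem exists_sqData {F : Type} [Field F] [Fintype F] [CharP F 2] {α σ : MulAut Q} {C : Subgroup Q}
    {n : ℕ} {ec : Q → F} {μ : F} (S : Singer α σ C n ec μ) (hna : ¬ IsMulCommutative Q) :
    ∃ k : F, Nonempty (SqData (pk k) Q) := by
  classical
  obtain ⟨A, hFin⟩ := exists_final S hna
  have L := hFin.level
  have hn1 : 1 ≤ n := by have := S.two_le; omega
  have htop : ∀ x : Q, x ∈ next α A := fun x => hFin.whole.ge (mem_top x)
  have hnA : ∀ x : Q, x ∈ normalizer (A : Set Q) := fun x => (htop x).1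
  set c := coset α ec 2
  set e := top ec 2
  have he : ∀ a, e a = ec (a * a) := fun a => by
    show ec (a ^ 2 ^ (2 - 1)) = _
    rw [show 2 ^ (2 - 1) = 2 from rfl, pow_two]
  have heC : ∀ a ∈ A, e a = 0 → a ∈ C := fun a ha h0 => by
    have h := S.pow_eq_one_of_top L ha h0
    rw [show 2 ^ (2 - 1) = 2 from rfl, pow_two] at h
    rw [S.fix, L.neg a ha, inv_eq_iff_mul_eq_one]
    exact h
  have heC' : ∀ a ∈ C, e a = 0 := fun a ha => by rw [he, S.sqC a ha, S.coord.one]
  obtain ⟨H, hCH, ⟨⟨-, hHA⟩, hmax⟩⟩ := Set.Finite.exists_le_maximal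
    (s := {H : Subgroup Q | C ≤ H ∧ ∀ a ∈ A, a ∈ H → a ∈ C}) (Set.toFinite _) (a := C)
    ⟨le_rfl, fun a _ ha => ha⟩
  have hg : ∀ x y : Q, x⁻¹ * y * x * y⁻¹ ∈ C := fun x y => by
    have h := C.mul_mem (C.mul_mem (C.inv_mem (hFin.sq x)) (hFin.sq (x * y))) (C.inv_mem (hFin.sq y))
    convert h using 1
    group
  have hcomm : ∀ x y : Q, x * y * x⁻¹ * y⁻¹ ∈ C := fun x y => by simpa using hg x⁻¹ y
  have hcover : ∀ x : Q, ∃ a ∈ A, x * a⁻¹ ∈ H := by
    intro x
    let H' : Subgroup Q :=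
      { carrier := {y | y ∈ H ∨ ∃ h ∈ H, y = h * x}
        one_mem' := Or.inl H.one_mem
        mul_mem' := by
          have hswap : ∀ h ∈ H, x * h * x⁻¹ ∈ H := fun h hh => by
            have := H.mul_mem (hCH (hcomm x h)) hh
            simpa [mul_assoc] using this
          rintro y z (hy | ⟨h, hh, rfl⟩) (hz | ⟨f, hf, rfl⟩)
          · exact Or.inl (H.mul_mem hy hz)
          · exact Or.inr ⟨y * f, H.mul_mem hy hf, by group⟩
          · exact Or.inr ⟨h * (x * z * x⁻¹), H.mul_mem hh (hswap z hz), by group⟩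
          · refine Or.inl ?_
            rw [show h * x * (f * x) = h * (x * f * x⁻¹) * (x * x) by group]
            exact H.mul_mem (H.mul_mem hh (hswap f hf)) (hCH (hFin.sq x))
        inv_mem' := by
          rintro y (hy | ⟨h, hh, rfl⟩)
          · exact Or.inl (H.inv_mem hy)
          · refine Or.inr ⟨(x * x)⁻¹ * (x * h⁻¹ * x⁻¹), H.mul_mem (H.inv_mem (hCH (hFin.sq x))) ?_, by group⟩
            have := H.mul_mem (hCH (hcomm x h⁻¹)) (H.inv_mem hh)
            simpa [mul_assoc] using this }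
    have hHH' : H ≤ H' := fun y hy => Or.inl hy
    by_cases hxH : x ∈ H
    · exact ⟨1, A.one_mem, by simpa using hxH⟩
    have hnot : ¬ ∀ a ∈ A, a ∈ H' → a ∈ C := fun hh => hxH (hmax ⟨hCH.trans hHH', hh⟩ hHH'
      (Or.inr ⟨1, H.one_mem, (one_mul x).symm⟩))
    push Not at hnot
    obtain ⟨a, ha, (haH | ⟨h, hh, hah⟩), haC⟩ := hnot
    · exact absurd (hHA a ha haH) haC
    · exact ⟨a, ha, by rw [hah, mul_inv_rev, mul_inv_cancel_left]; exact H.inv_mem hh⟩
  choose pA hpA using hcover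
  set b0 : Q → F := fun x => e (pA x) with hb0
  have hwd : ∀ x a, a ∈ A → x * a⁻¹ ∈ H → b0 x = e a := fun x a ha hxa => by
    have h1 : pA x * a⁻¹ ∈ H := by
      have := H.mul_mem (H.inv_mem (hpA x).2) hxa
      simpa [mul_assoc] using this
    have h2 := heC' _ (hHA _ (A.mul_mem (hpA x).1 (A.inv_mem ha)) h1)
    rw [show e = top ec 2 from rfl, S.top_add L (hpA x).1 (A.inv_mem ha), S.top_inv L ha] at h2
    exact CharTwo.add_eq_zero.mp h2
  have hb0add : ∀ x y, b0 (x * y) = b0 x + b0 y := fun x y => by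
    set h' := y * (pA y)⁻¹ with hh'
    have hconj : h'⁻¹ * pA x * h' ∈ A := (mem_normalizer_iff''.mp (hnA h') _).mp (hpA x).1
    rw [hwd (x * y) (h'⁻¹ * pA x * h' * pA y) (A.mul_mem hconj (hpA y).1) ?_,
      show e = top ec 2 from rfl, S.top_add L hconj (hpA y).1, S.top_conj L (hpA x).1]
    have h3 := H.mul_mem (hpA x).2 (hpA y).2
    convert h3 using 1
    rw [hh']; group
  have hb0A : ∀ a ∈ A, b0 a = e a := fun a ha => hwd a a ha (by rw [mul_inv_cancel]; exact H.one_mem)
  set N := 2 ^ n - 1 with hN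
  have hμ0 : μ ≠ 0 := fun h => by
    have h1 := pow_orderOf_eq_one μ
    have h4 : 4 ≤ 2 ^ n := le_trans (by norm_num) (Nat.pow_le_pow_right two_pos S.two_le)
    rw [S.ord, h, zero_pow (by omega)] at h1
    exact zero_ne_one h1
  set b : Q → F := fun x => ∑ i ∈ Finset.range N, (μ ^ i)⁻¹ * b0 ((σ ^ i) x) with hb
  have hbadd : ∀ x y, b (x * y) = b x + b y := fun x y => by
    rw [hb]; simp only [map_mul, hb0add, mul_add, Finset.sum_add_distrib]
  have heσ : ∀ (i : ℕ), ∀ a ∈ A, (σ ^ i) a ∈ A ∧ e ((σ ^ i) a) = μ ^ i * e a := by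
    intro i a ha
    induction i with
    | zero => simpa using ha
    | succ i ih =>
      rw [pow_succ', MulAut.mul_apply]
      exact ⟨L.map _ ih.1, by
        rw [show e = top ec 2 from rfl, (S.coord_top L).equiv _ ih.1]
        rw [show top ec 2 = e from rfl, ih.2, pow_succ', mul_assoc]⟩
  have hbA : ∀ a ∈ A, b a = e a := fun a ha => by
    have hterm : ∀ i ∈ Finset.range N, (μ ^ i)⁻¹ * b0 ((σ ^ i) a) = e a := fun i _ => by
      rw [hb0A _ (heσ i a ha).1, (heσ i a ha).2, inv_mul_cancel_left₀ (pow_ne_zero _ hμ0)]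
    show ∑ i ∈ Finset.range N, _ = _
    rw [Finset.sum_congr rfl hterm, Finset.sum_const, Finset.card_range]
    have hodd : Odd N := Nat.Even.sub_odd Nat.one_le_two_pow (Nat.even_pow.mpr ⟨even_two, by omega⟩) odd_one
    obtain ⟨t, ht⟩ := hodd
    rw [ht, add_smul, one_smul, mul_comm, mul_smul, two_nsmul, CharTwo.add_self_eq_zero, smul_zero, zero_add]
  have hbσ : ∀ x, b (σ x) = μ * b x := fun x => by
    set f : ℕ → F := fun i => (μ ^ i)⁻¹ * b0 ((σ ^ i) x) with hf
    have h1 : b (σ x) = μ * ∑ i ∈ Finset.range N, f (i + 1) := by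
      rw [Finset.mul_sum]
      refine Finset.sum_congr rfl fun i _ => ?_
      show (μ ^ i)⁻¹ * b0 ((σ ^ i) (σ x)) = μ * ((μ ^ (i + 1))⁻¹ * b0 ((σ ^ (i + 1)) x))
      rw [pow_succ σ, MulAut.mul_apply, pow_succ μ, mul_inv, ← mul_assoc, mul_comm μ,
        mul_assoc (μ ^ i)⁻¹, inv_mul_cancel₀ hμ0, mul_one]
    have h2 : f N = f 0 := by
      show (μ ^ N)⁻¹ * b0 ((σ ^ N) x) = (μ ^ 0)⁻¹ * b0 ((σ ^ 0) x)
      rw [hN, S.per, ← S.ord, pow_orderOf_eq_one, pow_zero, pow_zero]
    have h3 : ∑ i ∈ Finset.range N, f (i + 1) = b x := by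
      have h4 := Finset.sum_range_succ' f N
      rw [Finset.sum_range_succ, h2] at h4
      exact (add_right_cancel h4).symm
    rw [h1, h3]
  have hcσ : ∀ x, c (σ x) = μ * c x := fun x => (S.coord_coset L hFin.ne_top).equiv x (htop x)
  have hcadd : ∀ x y, c (x * y) = c x + c y := fun x y => S.coset_add L (htop x) (htop y)
  have hker : ∀ x, c x = 0 → b x = 0 → x ∈ C := fun x h1 h2 => by
    have hxA := S.coset_eq_zero L (htop x) h1
    exact heC x hxA ((hbA x hxA).symm.trans h2)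
  have hC0 : ∀ a ∈ C, c a = 0 ∧ b a = 0 := fun a ha =>
    ⟨S.coset_of_mem L (L.le ha), (hbA a (L.le ha)).trans (heC' a ha)⟩
  let M : Subgroup Q :=
    { carrier := {x | b x = 0}
      one_mem' := (hC0 1 C.one_mem).2
      mul_mem' := fun {x y} (hx : b x = 0) (hy : b y = 0) => by
        show b (x * y) = 0; rw [hbadd, hx, hy, add_zero]
      inv_mem' := fun {x} (hx : b x = 0) => by
        have h := hbadd x⁻¹ x
        rw [inv_mul_cancel, (hC0 1 C.one_mem).2, hx, add_zero] at h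
        exact h.symm }
  have hM : Equivariant.Coord σ μ M c := by
    refine ⟨fun x (hx : b x = 0) => show b (σ x) = 0 by rw [hbσ, hx, mul_zero],
      fun x _ y _ => hcadd x y, fun x _ => hcσ x, fun u => ?_⟩
    obtain ⟨x, -, hx⟩ := (S.coord_coset L hFin.ne_top).surj u
    obtain ⟨a, ha, hea⟩ := (S.coord_top L).surj (b x)
    refine ⟨x * a, show b (x * a) = 0 by rw [hbadd, hbA a ha, show e a = b x from hea, CharTwo.add_self_eq_zero], ?_⟩
    rw [hcadd, show c a = 0 from S.coset_of_mem L ha, add_zero]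
    exact hx
  set Γ : Q → Q → F := fun x y => ec (x⁻¹ * y * x * y⁻¹) with hΓ
  have hSmul : ∀ x y, ec (x * y * (x * y)) = ec (x * x) + Γ x y + ec (y * y) := fun x y => by
    rw [show x * y * (x * y) = x * x * (x⁻¹ * y * x * y⁻¹) * (y * y) by group,
      S.coord.add _ (C.mul_mem (hFin.sq x) (hg x y)) _ (hFin.sq y), S.coord.add _ (hFin.sq x) _ (hg x y)]
  have hΓM : ∀ x ∈ M, ∀ y ∈ M, Γ x y = 0 := by
    refine bilinear_eq_zero S.two_le S.cardF S.ord hM Γ ?_ ?_ ?_ ?_ ?_ ?_
    · intro x _ y _ a _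
      show ec _ = ec _ + ec _
      rw [show (x * y)⁻¹ * a * (x * y) * a⁻¹ = y⁻¹ * ((x⁻¹ * a * x * a⁻¹) * (a * y * a⁻¹)) by group,
        ← S.central _ (hg x a), ← mul_assoc,
        show y⁻¹ * (a * y * a⁻¹) = y⁻¹ * a * y * a⁻¹ by group, S.coord.add _ (hg y a) _ (hg x a), add_comm]
    · intro x _ a _ b' _
      show ec _ = ec _ + ec _
      rw [show x⁻¹ * (a * b') * x * (a * b')⁻¹ =
          (x⁻¹ * a * x * a⁻¹) * (a * (x⁻¹ * b' * x * b'⁻¹) * a⁻¹) by group,
        S.central _ (hg x b') a, mul_inv_cancel_right, S.coord.add _ (hg x a) _ (hg x b')]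
    · intro x hx a _ h0
      show ec _ = 0
      rw [mul_assoc x⁻¹, S.central x (hker x h0 hx) a, inv_mul_cancel_left, mul_inv_cancel, S.coord.one]
    · intro x _ a ha h0
      show ec _ = 0
      rw [show x⁻¹ * a * x * a⁻¹ = x⁻¹ * (a * x) * a⁻¹ by group, ← S.central a (hker a h0 ha) x,
        inv_mul_cancel_left, mul_inv_cancel, S.coord.one]
    · intro x _ a _
      show ec _ = μ * ec _
      rw [← map_inv, ← map_inv, ← map_mul, ← map_mul, ← map_mul, S.coord.equiv _ (hg x a)]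
    · intro x _
      show ec _ = 0
      rw [show x⁻¹ * x * x * x⁻¹ = 1 by group, S.coord.one]
  obtain ⟨k, hk⟩ := exists_linear hn1 S.cardF S.ord hM (f := fun x => ec (x * x))
    (fun x hx y hy => by
      show ec _ = ec _ + ec _
      rw [hSmul, hΓM x hx y hy, add_zero])
    (fun x hx h0 => by show ec _ = 0; rw [S.sqC x (hker x h0 hx), S.coord.one])
    (fun x _ => by show ec _ = μ * ec _; rw [← map_mul, S.coord.equiv _ (hFin.sq x)])
  choose ι hι using S.coord.surj
  set r : F → F := fun u => u ^ 2 ^ (n - 1) with hr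
  have hr2 : ∀ u, r u ^ 2 = u := fun u => sqrt_sq hn1 S.cardF u
  have hr0 : ∀ u, r u = 0 → u = 0 := fun u h => by rw [← hr2 u, h, zero_pow two_ne_zero]
  have hradd : ∀ u v, r (u + v) = r u + r v := fun u v => add_pow_char_pow (p := 2) (x := u) (y := v) ..
  refine ⟨k, ⟨{
    ι := ι
    ι_add := fun u v => ?_
    ι_inj := fun u v h => by rw [← (hι u).2, h, (hι v).2]
    central := fun u g => (S.central _ (hι u).1 g).symm
    q := fun x => (r (c x), r (b x))
    q_mul := fun x y => by simp only [hcadd, hbadd, hradd, Prod.mk_add_mk]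
    q_surj := fun v => ?_
    q_eq := fun g hg' => ?_
    q_ι := fun u => by
      simp only [(hC0 _ (hι u).1).1, (hC0 _ (hι u).1).2, hr, zero_pow (pow_ne_zero _ two_ne_zero)]
      rfl
    sq := fun g => ?_ }⟩⟩
  · refine inv_mul_eq_one.mp (S.inj _ (C.mul_mem (C.inv_mem (hι _).1) (C.mul_mem (hι u).1 (hι v).1)) ?_)
    rw [S.coord.add _ (C.inv_mem (hι _).1) _ (C.mul_mem (hι u).1 (hι v).1), S.coord.inv (hι _).1,
      S.coord.add _ (hι u).1 _ (hι v).1, (hι _).2, (hι u).2, (hι v).2, neg_add_cancel]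
  · obtain ⟨m, hm, hcm⟩ := hM.surj (v.1 ^ 2)
    obtain ⟨a, ha, hea⟩ := (S.coord_top L).surj (v.2 ^ 2)
    have h2 : ∀ u : F, r (u ^ 2) = u := fun u => by
      rw [pow_two]; exact sqrt_mul_self hn1 S.cardF u
    refine ⟨m * a, Prod.ext ?_ ?_⟩
    · show r (c (m * a)) = v.1
      rw [hcadd, hcm, show c a = 0 from S.coset_of_mem L ha, add_zero, h2]
    · show r (b (m * a)) = v.2
      rw [hbadd, show b m = 0 from hm, zero_add, hbA a ha, show e a = v.2 ^ 2 from hea, h2]
  · simp only [Prod.mk_eq_zero] at hg'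
    have hgC := hker g (hr0 _ hg'.1) (hr0 _ hg'.2)
    refine ⟨ec g, inv_mul_eq_one.mp (S.inj _ (C.mul_mem (C.inv_mem hgC) (hι _).1) ?_)⟩
    rw [S.coord.add _ (C.inv_mem hgC) _ (hι _).1, S.coord.inv hgC, (hι _).2, neg_add_cancel]
  · obtain ⟨a, ha, hea⟩ := (S.coord_top L).surj (b g)
    set m := g * a⁻¹ with hmdef
    have hbm : b m = 0 := by
      rw [hmdef, hbadd, hbA _ (A.inv_mem ha), show e a⁻¹ = top ec 2 a⁻¹ from rfl, S.top_inv L ha, hea,
        CharTwo.add_self_eq_zero]
    have hcm : c m = c g := by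
      rw [hmdef, hcadd, show c a⁻¹ = 0 from S.coset_of_mem L (A.inv_mem ha), add_zero]
    have hval : ec (g * g) = pk k (r (c g), r (b g)) := by
      have hga : g = m * a := by rw [hmdef, inv_mul_cancel_right]
      conv_lhs => rw [hga, hSmul, show ec (m * m) = k * c m from hk m hbm, ← he,
        show Γ m a = ec (m⁻¹ * a * m * a⁻¹) from rfl, hFin.beta m a ha]
      show k * c m + (c m * e a) ^ 2 ^ (n - 1) + e a = _
      rw [pk, hr2, hr2, hcm, show e a = b g from hea, mul_pow]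
      ring
    refine (inv_mul_eq_one.mp (S.inj _ (C.mul_mem (C.inv_mem (hFin.sq g)) (hι _).1) ?_))
    rw [S.coord.add _ (C.inv_mem (hFin.sq g)) _ (hι _).1, S.coord.inv (hFin.sq g), (hι _).2, hval,
      neg_add_cancel]

end CfsgLib.PGroups.Suzuki.InvolutorySinger
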