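import Mathlib
import Cfsg.Prelude.Def_Transfer
import Cfsg.Agent.Lib.PGroups.Suzuki.SingerClassify

/-!
Owner: helper11. The hypotheses of the classification from an involutory automorphism whose fixed points are
permuted transitively by a commuting automorphism of order `2 ^ n - 1`.
-/

set_option autoImplicit false
set_option maxHeartbeats 800000
set_option linter.style.haveILetI false

namespace CfsgLib.PGroups.Suzuki.InvolutorySinger

open Subgroup

universe u

theorem exists_singer {Q : Type u} [Group Q] [Finite Q] (hQ : IsPGroup 2 Q) {n : ℕ} (hn : 2 ≤ n)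
    (α ρ : MulAut Q) (hα : orderOf α = 2) (hρ : orderOf ρ = 2 ^ n - 1) (hc : Commute α ρ)
    (C : Subgroup Q) (hC : ∀ x : Q, x ∈ C ↔ α x = x) (hCe : Cfsg.IsElementaryAbelian 2 C)
    (hCc : Nat.card C = 2 ^ n)
    (htr : ∀ x y : Q, x ∈ C → y ∈ C → x ≠ 1 → y ≠ 1 → ∃ k : ℕ, (ρ ^ k) x = y)
    {F : Type} [Field F] [Fintype F] [CharP F 2] (hF : Fintype.card F = 2 ^ n) :
    ∃ (ec : Q → F) (μ : F), Singer α ρ C n ec μ := by
  classical
  haveI : Fact (Nat.Prime 2) := ⟨Nat.prime_two⟩
  have hinv : ∀ x, α (α x) = x := fun x => by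
    have h : α ^ 2 = 1 := hα ▸ pow_orderOf_eq_one α
    rw [← MulAut.mul_apply, ← pow_two, h, MulAut.one_apply]
  have hcm : ∀ (i : ℕ) (x : Q), α ((ρ ^ i) x) = (ρ ^ i) (α x) := fun i x => by
    rw [← MulAut.mul_apply, ← MulAut.mul_apply, (hc.pow_right i).eq]
  have hper : ρ ^ (2 ^ n - 1) = 1 := hρ ▸ pow_orderOf_eq_one ρ
  have hsq : ∀ x ∈ C, x * x = 1 := fun x hx => by
    rw [← pow_two]; exact hCe.2 x hx
  have hρC : ∀ x, x ∈ C ↔ ρ x ∈ C := fun x => by
    have h1 := hcm 1 x
    rw [pow_one] at h1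
    rw [hC, hC, h1]
    exact ρ.injective.eq_iff.symm
  have hpowC : ∀ (i : ℕ) (x : Q), x ∈ C → (ρ ^ i) x ∈ C := fun i x hx => by
    rw [hC, hcm, (hC x).mp hx]
  have hN : 0 < 2 ^ n - 1 := by
    have := Nat.pow_le_pow_right two_pos hn
    omega
  have hfpf : ∀ (i : ℕ) (x : Q), x ∈ C → x ≠ 1 → (ρ ^ i) x = x → 2 ^ n - 1 ∣ i := by
    intro i x hx hx1 hfix
    haveI : Fintype C := Fintype.ofFinite C
    let φ : Fin (2 ^ n - 1) → {c : C // c ≠ 1} := fun k =>
      ⟨⟨(ρ ^ (k : ℕ)) x, hpowC _ _ hx⟩, fun h => hx1 ((MulEquiv.map_eq_one_iff _).mp (congrArg Subtype.val h))⟩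
    have hsurj : Function.Surjective φ := fun y => by
      obtain ⟨k, hk⟩ := htr x y.1 hx y.1.2 hx1 fun h => y.2 (Subtype.ext h)
      refine ⟨⟨k % (2 ^ n - 1), Nat.mod_lt _ hN⟩, Subtype.ext (Subtype.ext ?_)⟩
      show (ρ ^ (k % (2 ^ n - 1))) x = _
      rw [← hρ, pow_mod_orderOf, hk]
    have hinj : Function.Injective φ := ((Fintype.bijective_iff_surjective_and_card φ).mpr ⟨hsurj, by
      rw [Fintype.card_fin, Fintype.card_subtype_compl, Fintype.card_subtype_eq, ← Nat.card_eq_fintype_card,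
        hCc]⟩).1
    have h := @hinj ⟨i % (2 ^ n - 1), Nat.mod_lt _ hN⟩ ⟨0, hN⟩ (Subtype.ext (Subtype.ext (by
      show (ρ ^ (i % (2 ^ n - 1))) x = (ρ ^ 0) x
      rw [← hρ, pow_mod_orderOf, hfix, pow_zero, MulAut.one_apply])))
    exact Nat.dvd_of_mod_eq_zero (congrArg Fin.val h)
  haveI : Nontrivial C := by
    refine Finite.one_lt_card_iff_nontrivial.mp ?_
    rw [hCc]; exact Nat.one_lt_two_pow (by omega)
  let f : MulAut C :=
    { toFun := fun x => ⟨ρ x, (hρC x).mp x.2⟩
      invFun := fun x => ⟨ρ.symm x, (hρC _).mpr (by rw [MulEquiv.apply_symm_apply]; exact x.2)⟩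
      left_inv := fun x => Subtype.ext (ρ.symm_apply_apply _)
      right_inv := fun x => Subtype.ext (ρ.apply_symm_apply _)
      map_mul' := fun x y => Subtype.ext (map_mul ρ _ _) }
  have hf : ∀ (i : ℕ) (x : C), (((f ^ i) x : C) : Q) = (ρ ^ i) x := fun i x => by
    induction i with
    | zero => rfl
    | succ i ih =>
      rw [pow_succ', pow_succ', MulAut.mul_apply, MulAut.mul_apply, ← ih]
      rfl
  obtain ⟨e, μ, hμ, hbij, hadd, hμe⟩ := exists_chart hn hF (fun x : C => Subtype.ext (hsq x x.2)) f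
    (MulEquiv.ext fun x => Subtype.ext (by rw [hf, hper]; rfl))
    (fun i x hx hfx => hfpf i x x.2 (fun h => hx (Subtype.ext h)) (by rw [← hf, hfx]))
    (fun H hH => by
      refine or_iff_not_imp_left.mpr fun hne => eq_top_iff.mpr fun y _ => ?_
      obtain ⟨⟨x, hxC⟩, hxH, hx1⟩ := H.bot_or_exists_ne_one.resolve_left hne
      by_cases hy : y = 1
      · rw [hy]; exact H.one_mem
      obtain ⟨k, hk⟩ := htr x y hxC y.2 (fun h => hx1 (Subtype.ext h)) fun h => hy (Subtype.ext h)
      have hit : ∀ i : ℕ, (f ^ i) ⟨x, hxC⟩ ∈ H := fun i => by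
        induction i with
        | zero => exact hxH
        | succ i ih => rw [pow_succ', MulAut.mul_apply]; exact hH _ ih
      rw [show y = (f ^ k) ⟨x, hxC⟩ from Subtype.ext ((hf k ⟨x, hxC⟩).trans hk).symm]
      exact hit k)
  refine ⟨fun x => if h : x ∈ C then e ⟨x, h⟩ else 0, μ, hn, hF, hμ, hQ, hinv,
    fun x => by simpa using hcm 1 x, hper, hC, ?_, hsq, hCc, ?_, ?_⟩
  · -- the fixed points are central
    haveI : Nontrivial Q := C.subtype_injective.nontrivial
    haveI := hQ.center_nontrivial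
    let π : Equiv.Perm (center Q) :=
      { toFun := fun z => ⟨α z, mem_center_iff.mpr fun g => by
          have h := congrArg α (mem_center_iff.mp z.2 (α g))
          simpa only [map_mul, hinv] using h⟩
        invFun := fun z => ⟨α z, mem_center_iff.mpr fun g => by
          have h := congrArg α (mem_center_iff.mp z.2 (α g))
          simpa only [map_mul, hinv] using h⟩
        left_inv := fun z => Subtype.ext (hinv z)
        right_inv := fun z => Subtype.ext (hinv z) }
    haveI : Fintype (center Q) := Fintype.ofFinite _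
    obtain ⟨z, hz, hz1⟩ := Equiv.Perm.exists_fixed_point_of_prime' (σ := π) (p := 2) (n := 1)
      (by
        rw [← Nat.card_eq_fintype_card]
        obtain ⟨k, hk⟩ := (hQ.to_subgroup (center Q)).exists_card_eq
        rw [hk]
        refine dvd_pow_self 2 fun hk0 => ?_
        have := Finite.one_lt_card (α := center Q)
        rw [hk, hk0, pow_zero] at this
        exact lt_irrefl _ this)
      (Equiv.ext fun z => by
        rw [pow_one, pow_two]
        exact Subtype.ext (hinv z)) (a := 1) (Subtype.ext (map_one α))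
    have hzC : (z : Q) ∈ C := (hC _).mpr (congrArg Subtype.val hz)
    intro c hcC g
    by_cases hc1 : c = 1
    · rw [hc1, mul_one, one_mul]
    obtain ⟨k, hk⟩ := htr z c hzC hcC (fun h => hz1 (Subtype.ext h)) hc1
    rw [← hk, ← MulEquiv.apply_symm_apply (ρ ^ k) g, ← map_mul, ← map_mul, mem_center_iff.mp z.2]
  · refine ⟨fun x hx => (hρC x).mp hx, fun x hx y hy => ?_, fun x hx => ?_, fun u => ?_⟩
    · simp only [dif_pos hx, dif_pos hy, dif_pos (C.mul_mem hx hy)]
      exact hadd ⟨x, hx⟩ ⟨y, hy⟩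
    · simp only [dif_pos hx, dif_pos ((hρC x).mp hx)]
      exact hμe ⟨x, hx⟩
    · obtain ⟨⟨x, hx⟩, rfl⟩ := hbij.2 u
      exact ⟨x, hx, dif_pos hx⟩
  · intro x hx h0
    simp only [dif_pos hx] at h0
    have h1 : e 1 = 0 := by
      have h := hadd 1 1
      rwa [one_mul, left_eq_add] at h
    exact congrArg Subtype.val (hbij.1 (h0.trans h1.symm) : (⟨x, hx⟩ : C) = 1)

end CfsgLib.PGroups.Suzuki.InvolutorySinger
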