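import Mathlib
import Cfsg.Prelude.Def_Transfer
import Cfsg.Prelude.Def_Solvable
import Cfsg.Agent.Lib.PGroups.Suzuki.Unitary
import Cfsg.Agent.Lib.Core.Cores

/-!
Owner: helper11. The automorphism group of the Sylow 2-subgroup of `PSU₃(2ⁿ)`.
-/

set_option autoImplicit false
set_option maxHeartbeats 800000
set_option linter.unusedSectionVars false
set_option linter.style.haveILetI false

namespace CfsgLib.PGroups.Suzuki.Unitary

open CfsgLib.Classical CfsgLib.Classical.Herm Subgroup

universe u v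

variable {F : Type u} [Field F] [Fintype F] [CharP F 2] {n : ℕ}

theorem card_ringEquiv (hn : n ≠ 0) (hF : Fintype.card F = 2 ^ n) : Nat.card (F ≃+* F) = n := by
  letI : Algebra (ZMod 2) F := ZMod.algebra F 2
  haveI := Fact.mk Nat.prime_two
  let e : (F ≃+* F) ≃ (F ≃ₐ[ZMod 2] F) :=
    { toFun := fun f => AlgEquiv.ofRingEquiv (f := f) fun r => by
        have h : (f.toRingHom.comp (algebraMap (ZMod 2) F)) = algebraMap (ZMod 2) F := RingHom.ext_zmod _ _
        exact RingHom.congr_fun h r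
      invFun := fun f => f.toRingEquiv
      left_inv := fun f => RingEquiv.ext fun _ => rfl
      right_inv := fun f => AlgEquiv.ext fun _ => rfl }
  rw [Nat.card_congr e, IsGalois.card_aut_eq_finrank]
  have h := Module.card_eq_pow_finrank (K := ZMod 2) (V := F)
  rw [hF, ZMod.card] at h
  exact (Nat.pow_right_injective le_rfl h).symm

theorem card_addMonoidHom {W : Type v} [Field W] [Finite W] [CharP W 2] (hF : Fintype.card F = 2 ^ n) :
    Nat.card (F →+ W) = Nat.card W ^ n := by
  classical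
  letI : Algebra (ZMod 2) F := ZMod.algebra F 2
  letI : Algebra (ZMod 2) W := ZMod.algebra W 2
  haveI := Fact.mk Nat.prime_two
  let b := Module.finBasis (ZMod 2) F
  have hd : Module.finrank (ZMod 2) F = n := by
    have h := Module.card_eq_pow_finrank (K := ZMod 2) (V := F)
    rw [hF, ZMod.card] at h
    exact (Nat.pow_right_injective le_rfl h).symm
  let e : (F →+ W) ≃ (Fin (Module.finrank (ZMod 2) F) → W) :=
    (AddMonoidHom.toZModLinearMapEquiv (n := 2) (M₁ := W) (M := F)).toEquiv.trans (b.constr ℕ).symm.toEquiv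
  rw [Nat.card_congr e, Nat.card_fun, Nat.card_eq_fintype_card (α := Fin _), Fintype.card_fin, hd]

variable {σ : F →+* F} {P : Type v} [Group P] (X : Param σ P) (hσ : IsInvol σ)
include X hσ

theorem Param.el_eq_mul (x y : Pts σ) (h : x.1.1 = y.1.1) :
    ∃ z : Pts σ, z.1.1 = 0 ∧ X.el x = X.el y * X.el z := by
  refine ⟨X.el.symm ((X.el y)⁻¹ * X.el x), ?_, by rw [Equiv.apply_symm_apply, mul_inv_cancel_left]⟩
  obtain ⟨z, hz⟩ := X.el.surjective ((X.el y)⁻¹ * X.el x)
  rw [← hz, Equiv.symm_apply_apply]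
  have h1 : X.el y * X.el z = X.el x := by rw [hz, mul_inv_cancel_left]
  rw [X.mul' hσ, X.el.apply_eq_iff_eq] at h1
  have h2 : y.1.1 + z.1.1 = x.1.1 := congrArg (fun w : Pts σ => w.1.1) h1
  linear_combination h2 + h

/-- The image of a coset modulo the centre. -/
noncomputable def base (f : MulAut P) (v : F) : F :=
  (X.el.symm (f (X.el (exists_pt hσ v).choose))).1.1

theorem base_el (f : MulAut P) (x : Pts σ) : (X.el.symm (f (X.el x))).1.1 = base X hσ f x.1.1 := by
  set y := (exists_pt hσ x.1.1).choose with hy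
  have hy1 : y.1.1 = x.1.1 := (exists_pt hσ x.1.1).choose_spec
  obtain ⟨z, hz, he⟩ := X.el_eq_mul hσ x y hy1.symm
  have hcen : f (X.el z) ∈ center P := by
    rw [mem_center_iff]
    intro g
    obtain ⟨g, rfl⟩ := f.surjective g
    rw [← map_mul, ← map_mul, mem_center_iff.mp ((X.mem_center_iff hσ z).mpr hz)]
  obtain ⟨w, hw⟩ := X.el.surjective (f (X.el z))
  have hw0 : w.1.1 = 0 := (X.mem_center_iff hσ w).mp (hw ▸ hcen)
  obtain ⟨y', hy'⟩ := X.el.surjective (f (X.el y))
  rw [he, map_mul, ← hw, ← hy', X.mul' hσ, Equiv.symm_apply_apply]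
  show y'.1.1 + w.1.1 = (X.el.symm (f (X.el y))).1.1
  rw [← hy', Equiv.symm_apply_apply, hw0, add_zero]

theorem base_add (f : MulAut P) (v w : F) : base X hσ f (v + w) = base X hσ f v + base X hσ f w := by
  obtain ⟨x, rfl⟩ := exists_pt hσ v
  obtain ⟨y, rfl⟩ := exists_pt hσ w
  obtain ⟨x', hx⟩ := X.el.surjective (f (X.el x))
  obtain ⟨y', hy⟩ := X.el.surjective (f (X.el y))
  rw [show x.1.1 + y.1.1 = (Param.prod hσ x y).1.1 from rfl, ← base_el X hσ, ← base_el X hσ, ← base_el X hσ,
    ← X.mul' hσ, map_mul, ← hx, ← hy, X.mul' hσ]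
  simp only [Equiv.symm_apply_apply]
  rfl

theorem base_comp (f g : MulAut P) (v : F) : base X hσ (f * g) v = base X hσ f (base X hσ g v) := by
  obtain ⟨x, rfl⟩ := exists_pt hσ v
  rw [← base_el X hσ, ← base_el X hσ g, MulAut.mul_apply, ← base_el X hσ f, Equiv.apply_symm_apply]

/-- The action on the quotient by the centre. -/
noncomputable def baseHom : MulAut P →* Equiv.Perm F where
  toFun f :=
    { toFun := base X hσ f
      invFun := base X hσ f⁻¹
      left_inv := fun v => by
        obtain ⟨x, rfl⟩ := exists_pt hσ v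
        rw [← base_comp, inv_mul_cancel, ← base_el X hσ, MulAut.one_apply, Equiv.symm_apply_apply]
      right_inv := fun v => by
        obtain ⟨x, rfl⟩ := exists_pt hσ v
        rw [← base_comp, mul_inv_cancel, ← base_el X hσ, MulAut.one_apply, Equiv.symm_apply_apply]
    }
  map_one' := Equiv.ext fun v => by
    obtain ⟨x, rfl⟩ := exists_pt hσ v
    show base X hσ 1 x.1.1 = x.1.1
    rw [← base_el X hσ, MulAut.one_apply, Equiv.symm_apply_apply]
  map_mul' f g := Equiv.ext fun v => base_comp X hσ f g v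

/-- A semilinear automorphism. -/
noncomputable def semi (a : Fˣ) (φ : F ≃+* F) (hφ : ∀ x, σ (φ x) = φ (σ x)) : MulAut P where
  toEquiv := X.el.symm.trans (Equiv.trans
    { toFun := fun x : Pts σ => (⟨((a : F) * φ x.1.1, σ (a : F) * a * φ x.1.2), by
        have h := congrArg φ x.2
        simp only [map_add, map_mul] at h
        simp only [map_mul, hσ.invol, hφ]
        linear_combination (σ (a : F) * a) * h⟩ : Pts σ)
      invFun := fun x : Pts σ => (⟨(φ.symm (((a⁻¹ : Fˣ) : F) * x.1.1),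
        φ.symm (σ ((a⁻¹ : Fˣ) : F) * ((a⁻¹ : Fˣ) : F) * x.1.2)), by
        apply φ.injective
        simp only [map_add, map_mul, RingEquiv.apply_symm_apply, ← hφ, hσ.invol]
        linear_combination (σ ((a⁻¹ : Fˣ) : F) * ((a⁻¹ : Fˣ) : F)) * x.2⟩ : Pts σ)
      left_inv := fun x => Subtype.ext (by
        have h1 : ((a⁻¹ : Fˣ) : F) * a = 1 := Units.inv_mul a
        have h2 : σ ((a⁻¹ : Fˣ) : F) * σ (a : F) = 1 := by rw [← map_mul, h1, map_one]
        refine Prod.ext ?_ ?_
        · show φ.symm (((a⁻¹ : Fˣ) : F) * ((a : F) * φ x.1.1)) = x.1.1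
          rw [← mul_assoc, h1, one_mul, RingEquiv.symm_apply_apply]
        · show φ.symm (σ ((a⁻¹ : Fˣ) : F) * ((a⁻¹ : Fˣ) : F) * (σ (a : F) * a * φ x.1.2)) = x.1.2
          rw [show σ ((a⁻¹ : Fˣ) : F) * ((a⁻¹ : Fˣ) : F) * (σ (a : F) * a * φ x.1.2) =
            (σ ((a⁻¹ : Fˣ) : F) * σ (a : F)) * (((a⁻¹ : Fˣ) : F) * a) * φ x.1.2 by ring, h1, h2, one_mul,
            one_mul, RingEquiv.symm_apply_apply])
      right_inv := fun x => Subtype.ext (by
        have h1 : (a : F) * ((a⁻¹ : Fˣ) : F) = 1 := Units.mul_inv a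
        have h2 : σ (a : F) * σ ((a⁻¹ : Fˣ) : F) = 1 := by rw [← map_mul, h1, map_one]
        refine Prod.ext ?_ ?_
        · show (a : F) * φ (φ.symm (((a⁻¹ : Fˣ) : F) * x.1.1)) = x.1.1
          rw [RingEquiv.apply_symm_apply, ← mul_assoc, h1, one_mul]
        · show σ (a : F) * a * φ (φ.symm (σ ((a⁻¹ : Fˣ) : F) * ((a⁻¹ : Fˣ) : F) * x.1.2)) = x.1.2
          rw [RingEquiv.apply_symm_apply]
          linear_combination ((a : F) * ((a⁻¹ : Fˣ) : F) * x.1.2) * h2 + x.1.2 * h1) }
    X.el)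
  map_mul' g k := by
    obtain ⟨x, rfl⟩ := X.el.surjective g
    obtain ⟨y, rfl⟩ := X.el.surjective k
    simp only [X.mul' hσ, Equiv.toFun_as_coe, Equiv.trans_apply, Equiv.symm_apply_apply, X.el.apply_eq_iff_eq]
    refine Subtype.ext (Prod.ext ?_ ?_)
    · simp only [Equiv.coe_fn_mk, Param.prod, map_add]; ring
    · simp only [Equiv.coe_fn_mk, Param.prod, map_add, map_mul, hφ]; ring

theorem base_semi (a : Fˣ) (φ : F ≃+* F) (hφ : ∀ x, σ (φ x) = φ (σ x)) (v : F) :
    base X hσ (semi X hσ a φ hφ) v = a * φ v := by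
  obtain ⟨x, rfl⟩ := exists_pt hσ v
  rw [← base_el X hσ]
  simp [semi]

/-- An automorphism fixing `1` in the quotient is a field automorphism there. -/
theorem base_mul (f : MulAut P) (h1 : base X hσ f 1 = 1) (u w : F) :
    base X hσ f (u * w) = base X hσ f u * base X hσ f w := by
  classical
  set g := base X hσ f with hg
  have h20 : (2 : F) = 0 := CharTwo.two_eq_zero
  have hadd : ∀ v w, g (v + w) = g v + g w := base_add X hσ f
  have hg0 : g 0 = 0 := by
    have h := hadd 0 0
    rwa [add_zero, left_eq_add] at h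
  have hinj : ∀ v, g v = 0 → v = 0 := fun v hv =>
    (baseHom X hσ f).injective (hv.trans hg0.symm)
  -- the action on the centre
  have hfixmem : ∀ c : F, σ c = c → c + σ c = σ 0 * 0 := fun c hc => by
    rw [hc, CharTwo.add_self_eq_zero, map_zero, zero_mul]
  let h : F → F := fun c => if hc : σ c = c then
    (X.el.symm (f (X.el (⟨(0, c), hfixmem c hc⟩ : Pts σ)))).1.2 else 0
  have hsq : ∀ v, h (σ v * v) = σ (g v) * g v := by
    intro v
    obtain ⟨x, rfl⟩ := exists_pt hσ v
    obtain ⟨z, hz, he⟩ := X.sq hσ x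
    obtain ⟨x', hx'⟩ := X.el.surjective (f (X.el x))
    obtain ⟨z', hz', he'⟩ := X.sq hσ x'
    have hc : σ (σ x.1.1 * x.1.1) = σ x.1.1 * x.1.1 := by rw [map_mul, hσ.invol, mul_comm]
    simp only [h, dif_pos hc]
    rw [show (⟨(0, σ x.1.1 * x.1.1), hfixmem _ hc⟩ : Pts σ) = z from Subtype.ext hz.symm, ← he, map_mul,
      ← hx', he', Equiv.symm_apply_apply, hz', hg, ← base_el X hσ, ← hx', Equiv.symm_apply_apply]
  have hadd' : ∀ c d, σ c = c → σ d = d → h (c + d) = h c + h d := by
    intro c d hc hd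
    have hcd : σ (c + d) = c + d := by rw [map_add, hc, hd]
    simp only [h, dif_pos hc, dif_pos hd, dif_pos hcd]
    rw [show X.el (⟨(0, c + d), hfixmem _ hcd⟩ : Pts σ) = X.el ⟨(0, c), hfixmem c hc⟩ * X.el ⟨(0, d), hfixmem d hd⟩
      from (X.mul _ _ _ (by simp)).symm, map_mul]
    obtain ⟨p, hp⟩ := X.el.surjective (f (X.el ⟨(0, c), hfixmem c hc⟩))
    obtain ⟨p', hp'⟩ := X.el.surjective (f (X.el ⟨(0, d), hfixmem d hd⟩))
    rw [← hp, ← hp', X.mul' hσ]
    simp only [Equiv.symm_apply_apply, Param.prod]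
    have hp0 : p.1.1 = 0 := by
      have := base_el X hσ f ⟨(0, c), hfixmem c hc⟩
      rw [← hp, Equiv.symm_apply_apply] at this
      rw [this]; exact hg0
    rw [hp0, map_zero, zero_mul, add_zero]
  have hN : ∀ v, σ (σ v * v) = σ v * v := fun v => by rw [map_mul, hσ.invol, mul_comm]
  have hBfix : ∀ v w, σ (σ v * w + σ w * v) = σ v * w + σ w * v := fun v w => by
    simp only [map_add, map_mul, hσ.invol]; ring
  have hB : ∀ v w, h (σ v * w + σ w * v) = σ (g v) * g w + σ (g w) * g v := by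
    intro v w
    have e : σ (v + w) * (v + w) = σ v * v + σ w * w + (σ v * w + σ w * v) := by rw [map_add]; ring
    have hfx : σ (σ v * v + σ w * w) = σ v * v + σ w * w := by rw [map_add, hN, hN]
    have h2 := hsq (v + w)
    rw [e, hadd' _ _ hfx (hBfix v w), hadd' _ _ (hN v) (hN w), hsq, hsq, hadd, map_add] at h2
    linear_combination h2
  have h0 : h 0 = 0 := by
    have h3 := hadd' 0 0 (map_zero σ) (map_zero σ)
    rwa [add_zero, left_eq_add] at h3
  have hone : h 1 = 1 := by
    have h2 := hsq 1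
    rwa [map_one, mul_one, h1, map_one, mul_one] at h2
  have hgfix : ∀ c, σ c = c → σ (g c) = g c := fun c hc => by
    have h2 := hB c 1
    rw [hc, map_one, mul_one, one_mul, CharTwo.add_self_eq_zero, h0, h1, map_one, mul_one, one_mul] at h2
    exact CharTwo.add_eq_zero.mp h2.symm
  obtain ⟨t, ht⟩ := hσ.exists_trace_eq (μ := (1 : F)) (map_one σ)
  have hlin : ∀ l b, σ l = l → σ b = b → h (l * b) = g l * (g (b * t) + σ (g (b * t))) := by
    intro l b hl hb
    have h2 := hB l (b * t)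
    rw [hl, hgfix l hl, map_mul, hb,
      show l * (b * t) + b * σ t * l = l * b * (t + σ t) by ring, ht, mul_one] at h2
    rw [h2]; ring
  have htr : ∀ b, σ b = b → h b = g (b * t) + σ (g (b * t)) := fun b hb => by
    have h2 := hlin 1 b (map_one σ) hb
    rwa [one_mul, h1, one_mul] at h2
  have hhg : ∀ c, σ c = c → h c = g c := fun c hc => by
    have h2 := hlin c 1 hc (map_one σ)
    rwa [mul_one, ← htr 1 (map_one σ), hone, mul_one] at h2
  have hgmul : ∀ l b, σ l = l → σ b = b → g (l * b) = g l * g b := fun l b hl hb => by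
    rw [← hhg _ (by rw [map_mul, hl, hb]), hlin l b hl hb, ← htr b hb, hhg b hb]
  have htr1 : g t + σ (g t) = 1 := by
    have h2 := htr 1 (map_one σ)
    rw [one_mul, hone] at h2
    exact h2.symm
  have htne : g t ≠ 0 := fun h2 => by
    rw [hinj t h2, map_zero, add_zero] at ht
    exact zero_ne_one ht
  have hgt : ∀ b, σ b = b → g (b * t) = g b * g t := by
    intro b hb
    have h2 := hB (b * t) t
    rw [map_mul, hb, show b * σ t * t + σ t * (b * t) = (b * σ t * t) + (b * σ t * t) by ring,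
      CharTwo.add_self_eq_zero, h0] at h2
    have h3 : σ (g (b * t)) * g t = σ (g t) * g (b * t) := CharTwo.add_eq_zero.mp h2.symm
    have h4 := htr b hb
    rw [hhg b hb] at h4
    linear_combination (g (b * t)) * htr1 - g t * h4 - h3 - (σ (g t) * g (b * t)) * h20 + (σ (g (b * t)) * g t) * h20 + (g (b * t) - g (b * t) * g t - g t * σ (g (b * t))) * h20
  have hσt : σ t = 1 + t := by linear_combination ht - t * h20
  set ν := σ t * t with hν
  have hνfix : σ ν = ν := hN t
  have hgν : g t * g t = g t + g ν := by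
    have h2 := hsq t
    rw [hhg _ hνfix] at h2
    linear_combination h2 - g t * htr1 + (g t * g t) * h20 + (-(g t) + g t * σ (g t) - g ν) * h20
  have hdec : ∀ v, ∃ a b, σ a = a ∧ σ b = b ∧ v = a + b * t := fun v => by
    refine ⟨v + (v + σ v) * t, v + σ v, ?_, ?_, ?_⟩
    · simp only [map_add, map_mul, hσ.invol, hσt]
      linear_combination (σ v) * h20
    · rw [map_add, hσ.invol, add_comm]
    · linear_combination -((v + σ v) * t) * h20
  obtain ⟨a, b, ha, hb, rfl⟩ := hdec u
  obtain ⟨c, d, hc, hd, rfl⟩ := hdec w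
  have hprod : (a + b * t) * (c + d * t) = (a * c + b * d * ν) + (a * d + b * c + b * d) * t := by
    rw [hν, hσt]
    linear_combination -(b * d * t) * h20
  have hbd : σ (b * d) = b * d := by rw [map_mul, hb, hd]
  have hac : σ (a * c) = a * c := by rw [map_mul, ha, hc]
  have hbdν : σ (b * d * ν) = b * d * ν := by rw [map_mul, hbd, hνfix]
  have had : σ (a * d) = a * d := by rw [map_mul, ha, hd]
  have hbc : σ (b * c) = b * c := by rw [map_mul, hb, hc]
  have hall : σ (a * d + b * c + b * d) = a * d + b * c + b * d := by rw [map_add, map_add, had, hbc, hbd]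
  rw [hprod, hadd, hgt _ hall, hadd, hadd, hadd, hgmul _ _ ha hc, hgmul _ _ hbd hνfix, hgmul _ _ hb hd,
    hgmul _ _ ha hd, hgmul _ _ hb hc, hadd a, hgt _ hb, hadd c, hgt _ hd]
  linear_combination -(g b * g d) * hgν

/-- The shift of the centre coordinate by an additive map. -/
noncomputable def shift (θ : F →+ fixedSub σ) : MulAut P where
  toEquiv := X.el.symm.trans (Equiv.trans
    { toFun := fun x : Pts σ => (⟨(x.1.1, x.1.2 + (θ x.1.1 : F)), by
        have h : σ (θ x.1.1 : F) = θ x.1.1 := (θ x.1.1).2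
        rw [map_add, h]
        linear_combination x.2 + add_self' (θ x.1.1 : F)⟩ : Pts σ)
      invFun := fun x : Pts σ => (⟨(x.1.1, x.1.2 + (θ x.1.1 : F)), by
        have h : σ (θ x.1.1 : F) = θ x.1.1 := (θ x.1.1).2
        rw [map_add, h]
        linear_combination x.2 + add_self' (θ x.1.1 : F)⟩ : Pts σ)
      left_inv := fun x => Subtype.ext (Prod.ext rfl (by
        show x.1.2 + (θ x.1.1 : F) + (θ x.1.1 : F) = x.1.2
        rw [add_assoc, add_self', add_zero]))
      right_inv := fun x => Subtype.ext (Prod.ext rfl (by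
        show x.1.2 + (θ x.1.1 : F) + (θ x.1.1 : F) = x.1.2
        rw [add_assoc, add_self', add_zero])) }
    X.el)
  map_mul' g k := by
    obtain ⟨x, rfl⟩ := X.el.surjective g
    obtain ⟨y, rfl⟩ := X.el.surjective k
    simp only [X.mul' hσ, Equiv.toFun_as_coe, Equiv.trans_apply, Equiv.symm_apply_apply, X.el.apply_eq_iff_eq]
    refine Subtype.ext (Prod.ext rfl ?_)
    simp only [Equiv.coe_fn_mk, Param.prod, map_add]
    push_cast
    ring

theorem shift_el (θ : F →+ fixedSub σ) (x : Pts σ) :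
    (X.el.symm (shift X hσ θ (X.el x))).1 = (x.1.1, x.1.2 + (θ x.1.1 : F)) := by
  simp [shift]

theorem shift_mem_ker (θ : F →+ fixedSub σ) : shift X hσ θ ∈ (baseHom X hσ).ker := by
  rw [MonoidHom.mem_ker]
  refine Equiv.ext fun v => ?_
  obtain ⟨x, rfl⟩ := exists_pt hσ v
  show base X hσ _ x.1.1 = x.1.1
  rw [← base_el X hσ, shift_el]

theorem shift_mul (θ θ' : F →+ fixedSub σ) : shift X hσ θ * shift X hσ θ' = shift X hσ (θ + θ') := by
  refine MulEquiv.ext fun g => ?_
  obtain ⟨x, rfl⟩ := X.el.surjective g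
  apply X.el.symm.injective
  obtain ⟨y, hy⟩ := X.el.surjective (shift X hσ θ' (X.el x))
  have hy1 := shift_el X hσ θ' x
  rw [← hy, Equiv.symm_apply_apply] at hy1
  rw [MulAut.mul_apply, ← hy]
  refine Subtype.ext ?_
  rw [shift_el, shift_el, hy1, AddMonoidHom.add_apply]
  push_cast
  simp only [Prod.mk.injEq, true_and]
  ring

theorem shift_zero : shift X hσ 0 = 1 := by
  refine MulEquiv.ext fun g => ?_
  obtain ⟨x, rfl⟩ := X.el.surjective g
  apply X.el.symm.injective
  refine Subtype.ext ?_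
  rw [shift_el, MulAut.one_apply, Equiv.symm_apply_apply]
  simp

theorem shift_injective : Function.Injective (shift X hσ) := by
  intro θ θ' h
  refine AddMonoidHom.ext fun v => Subtype.ext ?_
  obtain ⟨x, rfl⟩ := exists_pt hσ v
  have h1 := shift_el X hσ θ x
  rw [h, shift_el] at h1
  exact (add_left_cancel (congrArg Prod.snd h1)).symm

theorem exists_shift (f : MulAut P) (hf : f ∈ (baseHom X hσ).ker) : ∃ θ, shift X hσ θ = f := by
  have hb : ∀ x : Pts σ, (X.el.symm (f (X.el x))).1.1 = x.1.1 := fun x => by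
    rw [base_el X hσ]
    exact DFunLike.congr_fun (MonoidHom.mem_ker.mp hf) x.1.1
  -- squares cover the centre, hence it is fixed
  have hcen : ∀ z : Pts σ, z.1.1 = 0 → f (X.el z) = X.el z := by
    intro z hz
    have hc : σ z.1.2 = z.1.2 := by
      have h1 := z.2
      rw [hz, mul_zero] at h1
      linear_combination h1 - add_self' z.1.2
    obtain ⟨r, hr⟩ := (PerfectRing.bijective_frobenius (R := F) (p := 2)).2 z.1.2
    change r ^ 2 = z.1.2 at hr
    have hrfix : σ r = r := CharTwo.sq_injective (show (σ r) ^ 2 = r ^ 2 by rw [← map_pow, hr, hc])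
    have key : ∀ x : Pts σ, x.1.1 = r → X.el x * X.el x = X.el z := by
      intro x hx
      obtain ⟨z', hz', he⟩ := X.sq hσ x
      rw [he, X.el.apply_eq_iff_eq]
      refine Subtype.ext ?_
      rw [hz', hx, hrfix, ← pow_two, hr]
      exact Prod.ext hz.symm rfl
    obtain ⟨x, hx⟩ := exists_pt hσ r
    obtain ⟨x', hx'⟩ := X.el.surjective (f (X.el x))
    rw [← key x hx, map_mul, ← hx']
    refine (key x' ?_).trans (key x hx).symm
    have := hb x
    rw [← hx', Equiv.symm_apply_apply] at this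
    rw [this, hx]
  let d : Pts σ → F := fun x => (X.el.symm (f (X.el x))).1.2 + x.1.2
  have hdfix : ∀ x, σ (d x) = d x := fun x => by
    have h1 := (X.el.symm (f (X.el x))).2
    rw [hb] at h1
    simp only [d, map_add]
    linear_combination h1 + x.2 - add_self' (X.el.symm (f (X.el x))).1.2 - add_self' x.1.2 +
      add_self' (σ x.1.1 * x.1.1)
  have hdmul : ∀ x y, d (Param.prod hσ x y) = d x + d y := by
    intro x y
    obtain ⟨x', hx'⟩ := X.el.surjective (f (X.el x))
    obtain ⟨y', hy'⟩ := X.el.surjective (f (X.el y))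
    have hbx := hb x
    have hby := hb y
    rw [← hx', Equiv.symm_apply_apply] at hbx
    rw [← hy', Equiv.symm_apply_apply] at hby
    simp only [d, ← X.mul' hσ, map_mul, ← hx', ← hy']
    simp only [X.mul' hσ, Equiv.symm_apply_apply, Param.prod, hbx, hby]
    linear_combination add_self' (σ x.1.1 * y.1.1)
  have hd0 : ∀ z : Pts σ, z.1.1 = 0 → d z = 0 := fun z hz => by
    simp only [d, hcen z hz, Equiv.symm_apply_apply, add_self']
  have hd : ∀ x y : Pts σ, x.1.1 = y.1.1 → d x = d y := by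
    intro x y hxy
    obtain ⟨z, hz, he⟩ := X.el_eq_mul hσ x y hxy
    rw [X.mul' hσ, X.el.apply_eq_iff_eq] at he
    rw [he, hdmul, hd0 z hz, add_zero]
  refine ⟨AddMonoidHom.mk' (fun v => (⟨d (exists_pt hσ v).choose, hdfix _⟩ : fixedSub σ)) fun v w => Subtype.ext ?_,
    MulEquiv.ext fun g => ?_⟩
  · show d _ = d _ + d _
    rw [← hdmul]
    refine hd _ _ ?_
    show _ = (exists_pt hσ v).choose.1.1 + (exists_pt hσ w).choose.1.1
    rw [(exists_pt hσ v).choose_spec, (exists_pt hσ w).choose_spec, (exists_pt hσ (v + w)).choose_spec]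
  · obtain ⟨x, rfl⟩ := X.el.surjective g
    apply X.el.symm.injective
    refine Subtype.ext ?_
    rw [shift_el]
    refine Prod.ext (hb x).symm ?_
    show x.1.2 + d (exists_pt hσ x.1.1).choose = _
    rw [hd _ x (exists_pt hσ x.1.1).choose_spec]
    simp only [d]
    linear_combination add_self' x.1.2

theorem ker_isElementaryAbelian : Cfsg.IsElementaryAbelian 2 (baseHom X hσ).ker := by
  refine ⟨⟨⟨fun a b => ?_⟩⟩, fun a ha => ?_⟩
  · obtain ⟨θ, h⟩ := exists_shift X hσ a.1 a.2
    obtain ⟨θ', h'⟩ := exists_shift X hσ b.1 b.2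
    refine Subtype.ext ?_
    show (a : MulAut P) * b = b * a
    rw [← h, ← h', shift_mul, shift_mul, add_comm]
  · obtain ⟨θ, rfl⟩ := exists_shift X hσ a ha
    rw [pow_two, shift_mul, show θ + θ = 0 from AddMonoidHom.ext fun v => Subtype.ext (add_self' (θ v : F)),
      shift_zero]

theorem card_ker {m : ℕ} (hm : Fintype.card F = 2 ^ m) :
    Nat.card (baseHom X hσ).ker = Nat.card (fixedSub σ) ^ m := by
  rw [← card_addMonoidHom (W := fixedSub σ) hm]
  refine (Nat.card_congr (Equiv.ofBijective (fun θ => ⟨shift X hσ θ, shift_mem_ker X hσ θ⟩) ⟨?_, ?_⟩)).symm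
  · exact fun θ θ' h => shift_injective X hσ (congrArg Subtype.val h)
  · rintro ⟨f, hf⟩
    obtain ⟨θ, h⟩ := exists_shift X hσ f hf
    exact ⟨θ, Subtype.ext h⟩

/-- Every automorphism acts on the quotient as a scalar times a field automorphism. -/
theorem exists_semilinear (f : MulAut P) :
    ∃ (a : Fˣ) (φ : F ≃+* F), ∀ v, base X hσ f v = a * φ v := by
  have h0 : base X hσ f 0 = 0 := by
    have h := base_add X hσ f 0 0
    rwa [add_zero, left_eq_add] at h
  have ha : base X hσ f 1 ≠ 0 := fun h => one_ne_zero ((baseHom X hσ f).injective (h.trans h0.symm))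
  set a := Units.mk0 _ ha with hadef
  set f' := semi X hσ a⁻¹ (RingEquiv.refl F) (fun _ => rfl) * f with hf'
  have hb : ∀ v, base X hσ f' v = ((a⁻¹ : Fˣ) : F) * base X hσ f v := fun v => by
    rw [hf', base_comp]; exact base_semi X hσ a⁻¹ (RingEquiv.refl F) (fun _ => rfl) _
  have h1 : base X hσ f' 1 = 1 := by
    rw [hb, show base X hσ f 1 = (a : F) from rfl, Units.inv_mul]
  refine ⟨a, { (baseHom X hσ f' : Equiv.Perm F) with map_mul' := base_mul X hσ f' h1, map_add' := base_add X hσ f' }, fun v => ?_⟩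
  show _ = (a : F) * base X hσ f' v
  rw [hb, ← mul_assoc, Units.mul_inv, one_mul]

theorem card_range (hcomm : ∀ (φ : F ≃+* F) (x : F), σ (φ x) = φ (σ x)) :
    Nat.card (baseHom X hσ).range = Nat.card Fˣ * Nat.card (F ≃+* F) := by
  rw [← Nat.card_prod]
  refine (Nat.card_congr (Equiv.ofBijective
    (fun p : Fˣ × (F ≃+* F) => (⟨baseHom X hσ (semi X hσ p.1 p.2 (hcomm p.2)), _, rfl⟩ :
      (baseHom X hσ).range)) ⟨?_, ?_⟩)).symm
  · rintro ⟨a, φ⟩ ⟨b, ψ⟩ h
    have h' : ∀ v, (a : F) * φ v = b * ψ v := fun v => by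
      have h2 := DFunLike.congr_fun (congrArg Subtype.val h) v
      change base X hσ _ v = base X hσ _ v at h2
      rwa [base_semi, base_semi] at h2
    have hab : a = b := Units.ext (by simpa using h' 1)
    subst hab
    exact Prod.ext rfl (RingEquiv.ext fun v => mul_left_cancel₀ a.ne_zero (h' v))
  · rintro ⟨_, f, rfl⟩
    obtain ⟨a, φ, h⟩ := exists_semilinear X hσ f
    refine ⟨(a, φ), Subtype.ext (Equiv.ext fun v => ?_)⟩
    show base X hσ _ v = base X hσ f v
    rw [base_semi, h]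

theorem base_pow {f : MulAut P} {r : F} (h : ∀ v, base X hσ f v = r * v) (k : ℕ) (v : F) :
    base X hσ (f ^ k) v = r ^ k * v := by
  induction k with
  | zero => rw [pow_zero, pow_zero, one_mul]; exact DFunLike.congr_fun (map_one (baseHom X hσ)) v
  | succ k ih => rw [pow_succ', base_comp, ih, h, pow_succ', mul_assoc]

theorem eq_one_of_scalar {f : MulAut P} (hf : f ∈ Cfsg.pCore 2 (MulAut P)) {r : F}
    (h : ∀ v, base X hσ f v = r * v) : r = 1 := by
  obtain ⟨k, hk⟩ := CfsgLib.Core.isPGroup_pCore 2 (MulAut P) ⟨f, hf⟩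
  have hk' : f ^ (2 ^ k) = 1 := congrArg Subtype.val hk
  have h1 := base_pow X hσ h (2 ^ k) 1
  rw [hk', mul_one] at h1
  have h2 : r ^ (2 ^ k) = 1 := h1.symm.trans (DFunLike.congr_fun (map_one (baseHom X hσ)) 1)
  rw [← sub_eq_zero]
  refine eq_zero_of_pow_eq_zero (n := 2 ^ k) ?_
  rw [sub_pow_char_pow (p := 2), h2, one_pow, sub_self]

theorem pCore_eq_ker : Cfsg.pCore 2 (MulAut P) = (baseHom X hσ).ker := by
  refine le_antisymm (fun f hf => ?_) ?_
  · obtain ⟨a, φ, h⟩ := exists_semilinear X hσ f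
    have hφ : ∀ c, φ c = c := by
      intro c
      by_cases hc : c = 0
      · rw [hc, map_zero]
      set sc := semi X hσ (Units.mk0 c hc) (RingEquiv.refl F) (fun _ => rfl) with hsc
      have hscb : ∀ v, base X hσ sc v = c * v := fun v => base_semi X hσ (Units.mk0 c hc) (RingEquiv.refl F) (fun _ => rfl) v
      set m := f * (sc * f⁻¹ * sc⁻¹) with hm
      have hmem : m ∈ Cfsg.pCore 2 (MulAut P) := mul_mem hf
        ((CfsgLib.Core.normal_pCore 2 (MulAut P)).conj_mem _ (inv_mem hf) sc)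
      have hmb : ∀ w, base X hσ m w = (φ c / c) * w := by
        intro w
        obtain ⟨v, rfl⟩ : ∃ v, c * ((a : F) * φ v) = w :=
          ⟨φ.symm (w / (c * a)), by rw [RingEquiv.apply_symm_apply]; field_simp⟩
        rw [← h, ← hscb, ← base_comp, ← base_comp, show m * sc * f = f * sc by rw [hm]; group, base_comp, hscb,
          h, hscb, h, map_mul]
        field_simp
      have h2 := eq_one_of_scalar X hσ hmem hmb
      rwa [div_eq_one_iff_eq hc] at h2
    have ha : (a : F) = 1 := eq_one_of_scalar X hσ hf (fun v => by rw [h, hφ])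
    rw [MonoidHom.mem_ker]
    refine Equiv.ext fun v => ?_
    show base X hσ f v = v
    rw [h, hφ, ha, one_mul]
  · refine CfsgLib.Core.le_pCore fun x => ⟨1, Subtype.ext ?_⟩
    exact (ker_isElementaryAbelian X hσ).2 x x.2

theorem aut_structure {n : ℕ} (hn : n ≠ 0) (hF : Fintype.card F = 2 ^ (2 * n))
    (hq : Nat.card (fixedSub σ) = 2 ^ n) (hcomm : ∀ (φ : F ≃+* F) (x : F), σ (φ x) = φ (σ x)) :
    Cfsg.IsElementaryAbelian 2 (Cfsg.pCore 2 (MulAut P)) ∧
      Nat.card ↥(Cfsg.pCore 2 (MulAut P)) = 2 ^ (2 * n ^ 2) ∧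
      Nat.card (MulAut P) = 2 ^ (2 * n ^ 2) * (2 * n * ((2 ^ n) ^ 2 - 1)) := by
  have hk : Nat.card (baseHom X hσ).ker = 2 ^ (2 * n ^ 2) := by
    rw [card_ker X hσ hF, hq, ← pow_mul]
    congr 1
    ring
  rw [pCore_eq_ker X hσ]
  refine ⟨ker_isElementaryAbelian X hσ, hk, ?_⟩
  have hr := card_range X hσ hcomm
  rw [card_ringEquiv (by omega : 2 * n ≠ 0) hF, Nat.card_units, Nat.card_eq_fintype_card (α := F), hF] at hr
  rw [← Subgroup.card_mul_index (baseHom X hσ).ker, Subgroup.index_ker, hk, hr,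
    show (2 ^ n) ^ 2 = 2 ^ (2 * n) by rw [← pow_mul, mul_comm], mul_comm (2 ^ (2 * n) - 1)]

end CfsgLib.PGroups.Suzuki.Unitary
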